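import Mathlib

/-! Recognition of `PSL₂(p)` acting on the projective line: concrete functions and the finite checks
(helper51). Points are `Option (ZMod p)`, with `none` the point at infinity. -/

set_option autoImplicit false

namespace Cfsg.Agent.H51.PSLRec

variable {p : ℕ}

/-- The affine map `x ↦ k x + i`, fixing infinity. -/
def affF (k i : ZMod p) : Option (ZMod p) → Option (ZMod p) := Option.map (fun x => k * x + i)

/-- `x ↦ -1/x`, written with a power so that it computes. -/
def tF (p : ℕ) : Option (ZMod p) → Option (ZMod p)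
  | none => some 0
  | some x => if x = 0 then none else some (-(x ^ (p - 2)))

/-- The candidate for an element swapping `0` and infinity and normalising `x ↦ k₀ x`. -/
def candF (m : ℕ) (n0i : ZMod p) (j : ℕ) (a b : ZMod p) : Option (ZMod p) → Option (ZMod p)
  | none => some 0
  | some x => if x = 0 then none else if x ^ m = 1 then some (a * x ^ j) else some (b * (x * n0i) ^ j)

/-- The word `f ∘ c^{-f(i)} ∘ f ∘ c^i ∘ f`, which fixes infinity. -/
def wF (f : Option (ZMod p) → Option (ZMod p)) (i : ZMod p) (x : Option (ZMod p)) : Option (ZMod p) :=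
  f (affF 1 (-((f (some i)).getD 0)) (f (affF 1 i (f x))))

def gF (f : Option (ZMod p) → Option (ZMod p)) (i : ZMod p) (x : ZMod p) : ZMod p :=
  (wF f i (some x)).getD 0

/-- The necessary condition: the word `wF f i` is an affine map with multiplier of order dividing `m`. -/
def IsAffAt (m : ℕ) (f : Option (ZMod p) → Option (ZMod p)) (i : ZMod p) : Prop :=
  (gF f i 1 - gF f i 0) ^ m = 1 ∧ ∀ x : ZMod p, wF f i (some x) = some ((gF f i 1 - gF f i 0) * x + gF f i 0)

/-- `f` is `x ↦ -1/x` up to the two-point stabiliser. -/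
def IsGood (m : ℕ) (k0 : ZMod p) (f : Option (ZMod p) → Option (ZMod p)) : Prop :=
  ∃ l < m, ∀ x : Option (ZMod p), f x = tF p (affF (k0 ^ l) 0 x)

/-- `f` commutes with `x ↦ k₀ x`, and its cube commutes with all its own translates. -/
def IsBad (k0 : ZMod p) (f : Option (ZMod p) → Option (ZMod p)) : Prop :=
  (∀ x : Option (ZMod p), f (affF k0 0 x) = affF k0 0 (f x)) ∧
    ∀ (i : ZMod p) (x : Option (ZMod p)),
      f (f (f (affF 1 i (f (f (f (affF 1 (-i) x))))))) = affF 1 i (f (f (f (affF 1 (-i) (f (f (f x)))))))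

/-- The main finite check. -/
def Check3 (p m : ℕ) (k0 n0i : ZMod p) : Prop :=
  ∀ j < m, ∀ a b : ZMod p,
    (∀ i : ZMod p, i ≠ 0 → IsAffAt m (candF m n0i j a b) i) →
      IsGood m k0 (candF m n0i j a b) ∨ IsBad k0 (candF m n0i j a b)

instance (m : ℕ) (f : Option (ZMod p) → Option (ZMod p)) (i : ZMod p) [NeZero p] : Decidable (IsAffAt m f i) := by
  unfold IsAffAt; infer_instance

instance (m : ℕ) (k0 : ZMod p) (f : Option (ZMod p) → Option (ZMod p)) [NeZero p] : Decidable (IsGood m k0 f) := by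
  unfold IsGood; infer_instance

instance (k0 : ZMod p) (f : Option (ZMod p) → Option (ZMod p)) [NeZero p] : Decidable (IsBad k0 f) := by
  unfold IsBad; infer_instance

instance (p m : ℕ) (k0 n0i : ZMod p) [NeZero p] : Decidable (Check3 p m k0 n0i) := by
  unfold Check3; infer_instance

/-- The small arithmetic checks. -/
def Check1 (p m : ℕ) (k0 n0 n0i : ZMod p) : Prop :=
  2 * m + 1 = p ∧ 1 < m ∧ k0 ^ m = 1 ∧ k0 ≠ 1 ∧ n0 * n0i = 1 ∧ n0 ^ m ≠ 1 ∧
    (∀ x : ZMod p, x ^ m = 1 → ∃ l < m, x = k0 ^ l) ∧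
    (∀ x : ZMod p, x ≠ 0 → x ^ m ≠ 1 → ∃ l < m, x = n0 * k0 ^ l)

instance (p m : ℕ) (k0 n0 n0i : ZMod p) [NeZero p] : Decidable (Check1 p m k0 n0 n0i) := by
  unfold Check1; infer_instance

end Cfsg.Agent.H51.PSLRec
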