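import Mathlib
import Cfsg.Agent.H51.PSLRecDefs

/-! The finite checks for the recognition of `PSL₂(p)`, `p = 7, 11, 13` (helper51). -/

set_option autoImplicit false

namespace Cfsg.Agent.H51.PSLRec

set_option maxRecDepth 100000 in
theorem check1_7 : Check1 7 3 2 3 5 := by decide +kernel

set_option maxRecDepth 100000 in
theorem check3_7 : Check3 7 3 2 5 := by decide +kernel

set_option maxRecDepth 100000 in
theorem check1_11 : Check1 11 5 4 2 6 := by decide +kernel

set_option maxRecDepth 100000 in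
theorem check3_11 : Check3 11 5 4 6 := by decide +kernel

set_option maxRecDepth 100000 in
theorem check1_13 : Check1 13 6 4 2 7 := by decide +kernel

set_option maxRecDepth 100000 in
theorem check3_13 : Check3 13 6 4 7 := by decide +kernel

theorem arith_7 : ∀ n, n ∣ (7 + 1) * 3 → n % 7 = 1 → n = 1 ∨ n = 7 + 1 := by
  intro n hn hmod
  have hle : n ≤ 24 := Nat.le_of_dvd (by norm_num) hn
  have key : ∀ n ≤ 24, n ∣ 24 → n % 7 = 1 → n = 1 ∨ n = 8 := by decide
  exact key n hle hn hmod

theorem arith_11 : ∀ n, n ∣ (11 + 1) * 5 → n % 11 = 1 → n = 1 ∨ n = 11 + 1 := by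
  intro n hn hmod
  have hle : n ≤ 60 := Nat.le_of_dvd (by norm_num) hn
  have key : ∀ n ≤ 60, n ∣ 60 → n % 11 = 1 → n = 1 ∨ n = 12 := by decide
  exact key n hle hn hmod

theorem arith_13 : ∀ n, n ∣ (13 + 1) * 6 → n % 13 = 1 → n = 1 ∨ n = 13 + 1 := by
  intro n hn hmod
  have hle : n ≤ 84 := Nat.le_of_dvd (by norm_num) hn
  have key : ∀ n ≤ 84, n ∣ 84 → n % 13 = 1 → n = 1 ∨ n = 14 := by decide
  exact key n hle hn hmod

end Cfsg.Agent.H51.PSLRec
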