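import Mathlib
import Cfsg.Agent.H51.PSLRecDefs

/-! Affine permutations of the projective line over `ZMod p` and the permutation `x ↦ -1/x` (helper51). -/

set_option autoImplicit false

namespace Cfsg.Agent.H51.PSLRec

@[simp] theorem affF_none {p : ℕ} (k i : ZMod p) : affF k i none = none := rfl
@[simp] theorem affF_some {p : ℕ} (k i x : ZMod p) : affF k i (some x) = some (k * x + i) := rfl

variable {p : ℕ} [Fact p.Prime]

/-- The affine permutation `x ↦ k x + i`. -/
def affP (k : (ZMod p)ˣ) (i : ZMod p) : Equiv.Perm (Option (ZMod p)) where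
  toFun := affF (k : ZMod p) i
  invFun := affF ((k⁻¹ : (ZMod p)ˣ) : ZMod p) (-(((k⁻¹ : (ZMod p)ˣ) : ZMod p) * i))
  left_inv := by
    rintro (_ | x)
    · rfl
    · simp only [affF_some, Option.some.injEq]
      have h : ((k⁻¹ : (ZMod p)ˣ) : ZMod p) * (k : ZMod p) = 1 := k.inv_mul
      linear_combination x * h
  right_inv := by
    rintro (_ | x)
    · rfl
    · simp only [affF_some, Option.some.injEq]
      have h : (k : ZMod p) * ((k⁻¹ : (ZMod p)ˣ) : ZMod p) = 1 := k.mul_inv
      linear_combination (x - i) * h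

@[simp] theorem affP_none (k : (ZMod p)ˣ) (i : ZMod p) : affP k i none = none := rfl
@[simp] theorem affP_some (k : (ZMod p)ˣ) (i x : ZMod p) : affP k i (some x) = some ((k : ZMod p) * x + i) := rfl

theorem affP_coe (k : (ZMod p)ˣ) (i : ZMod p) : ⇑(affP k i) = affF (k : ZMod p) i := rfl

theorem affP_mul (k k' : (ZMod p)ˣ) (i i' : ZMod p) :
    affP k i * affP k' i' = affP (k * k') ((k : ZMod p) * i' + i) := by
  refine Equiv.ext fun x => ?_
  rcases x with _ | x
  · rfl
  · simp only [Equiv.Perm.coe_mul, Function.comp_apply, affP_some, Units.val_mul]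
    exact congrArg some (by ring)

theorem affP_one : affP (1 : (ZMod p)ˣ) 0 = 1 := by
  refine Equiv.ext fun x => ?_
  rcases x with _ | x
  · rfl
  · simp

theorem affP_inj {k k' : (ZMod p)ˣ} {i i' : ZMod p} (h : affP k i = affP k' i') : k = k' ∧ i = i' := by
  have h0 := congrArg (fun f => f (some 0)) h
  have h1 := congrArg (fun f => f (some 1)) h
  simp only [affP_some, mul_zero, zero_add, Option.some.injEq, mul_one] at h0 h1
  subst h0
  exact ⟨Units.ext (by simpa using h1), rfl⟩

theorem affP_pow_zero (k : (ZMod p)ˣ) (n : ℕ) : affP k 0 ^ n = affP (k ^ n) 0 := by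
  induction n with
  | zero => simp [affP_one]
  | succ n ih => rw [pow_succ, ih, affP_mul, pow_succ]; simp

theorem affP_one_pow (i : ZMod p) (n : ℕ) : affP (1 : (ZMod p)ˣ) i ^ n = affP 1 ((n : ZMod p) * i) := by
  induction n with
  | zero => simp [affP_one]
  | succ n ih =>
    rw [pow_succ, ih, affP_mul]
    congr 1
    · simp
    · push_cast; ring

theorem affP_pow_exists (k : (ZMod p)ˣ) (i : ZMod p) (n : ℕ) : ∃ i', affP k i ^ n = affP (k ^ n) i' := by
  induction n with
  | zero => exact ⟨0, by simp [affP_one]⟩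
  | succ n ih =>
    obtain ⟨i', hi'⟩ := ih
    exact ⟨_, by rw [pow_succ, hi', affP_mul, pow_succ]⟩

theorem affP_one_inv (i : ZMod p) : (affP (1 : (ZMod p)ˣ) i)⁻¹ = affP 1 (-i) := by
  apply inv_eq_of_mul_eq_one_right
  rw [affP_mul]
  simp [affP_one]

/-- The translation `x ↦ x + 1`. -/
def cP (p : ℕ) [Fact p.Prime] : Equiv.Perm (Option (ZMod p)) := affP 1 1

theorem cP_pow (n : ℕ) : cP p ^ n = affP 1 (n : ZMod p) := by
  rw [cP, affP_one_pow, mul_one]

theorem cP_pow_val (i : ZMod p) : cP p ^ i.val = affP 1 i := by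
  rw [cP_pow, ZMod.natCast_zmod_val]

theorem tF_some_ne {x : ZMod p} (hx : x ≠ 0) : tF p (some x) = some (-x⁻¹) := by
  have hp := (Fact.out : p.Prime)
  have h1 : x ^ (p - 2) * x = 1 := by
    rw [← pow_succ]
    have : p - 2 + 1 = p - 1 := by have := hp.two_le; omega
    rw [this]
    exact ZMod.pow_card_sub_one_eq_one hx
  have h2 : x ^ (p - 2) = x⁻¹ := eq_inv_of_mul_eq_one_left h1
  simp [tF, hx, h2]

theorem tF_involutive : Function.Involutive (tF p) := by
  rintro (_ | x)
  · simp [tF]
  · by_cases hx : x = 0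
    · subst hx; simp [tF]
    · rw [tF_some_ne hx, tF_some_ne (neg_ne_zero.mpr (inv_ne_zero hx))]
      simp

/-- The permutation `x ↦ -1/x`. -/
def tP (p : ℕ) [Fact p.Prime] : Equiv.Perm (Option (ZMod p)) := (tF_involutive (p := p)).toPerm

theorem tP_coe : ⇑(tP p) = tF p := rfl

theorem tP_none : tP p none = some 0 := rfl

end Cfsg.Agent.H51.PSLRec
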