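import Mathlib
import Cfsg.Agent.H51.PSLRecAff

/-! Recognition of `PSL₂(p)` on the projective line: a permutation group of the right order containing the
translation, in which the translation subgroup is normal in the stabiliser of infinity, transitive and simple,
is a fixed subgroup (helper51). -/

set_option autoImplicit false

namespace Cfsg.Agent.H51.PSLRec

open MulAction

variable {p : ℕ} [Fact p.Prime]

/-- The hypotheses of the concrete recognition theorem. -/
structure Setup (p m : ℕ) [Fact p.Prime] (k0u : (ZMod p)ˣ) (n0 n0i : ZMod p)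
    (H : Subgroup (Equiv.Perm (Option (ZMod p)))) : Prop where
  h1 : Check1 p m (k0u : ZMod p) n0 n0i
  h3 : Check3 p m (k0u : ZMod p) n0i
  card : Nat.card H = (p + 1) * p * m
  simple : IsSimpleGroup H
  hc : cP p ∈ H
  hN : ∀ h ∈ H, h none = none → ∃ k : ℕ, h * cP p * h⁻¹ = cP p ^ k
  hT : ∃ h ∈ H, h none = some 0

variable {m : ℕ} {k0u : (ZMod p)ˣ} {n0 n0i : ZMod p} {H : Subgroup (Equiv.Perm (Option (ZMod p)))}

theorem Setup.card_stab (S : Setup p m k0u n0 n0i H) :
    Nat.card (stabilizer H (none : Option (ZMod p))) = p * m := by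
  have hp := (Fact.out : p.Prime)
  have : NeZero p := ⟨hp.ne_zero⟩
  have : IsPretransitive H (Option (ZMod p)) := by
    obtain ⟨h, hh, hh0⟩ := S.hT
    have key : ∀ x : Option (ZMod p), ∃ g : H, g • (none : Option (ZMod p)) = x := by
      rintro (_ | i)
      · exact ⟨1, one_smul _ _⟩
      · refine ⟨⟨cP p ^ i.val * h, H.mul_mem (H.pow_mem S.hc _) hh⟩, ?_⟩
        change (cP p ^ i.val * h) none = some i
        rw [Equiv.Perm.mul_apply, hh0, cP_pow_val, affP_some]; simp
    refine ⟨fun x y => ?_⟩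
    obtain ⟨gx, hgx⟩ := key x
    obtain ⟨gy, hgy⟩ := key y
    exact ⟨gy * gx⁻¹, by rw [mul_smul, ← hgx, inv_smul_smul, hgy]⟩
  have h1 := index_stabilizer_of_transitive H (none : Option (ZMod p))
  have h2 := Subgroup.card_mul_index (stabilizer H (none : Option (ZMod p)))
  rw [h1, S.card] at h2
  have h3 : Nat.card (Option (ZMod p)) = p + 1 := by
    rw [Nat.card_eq_fintype_card, Fintype.card_option, ZMod.card]
  rw [h3] at h2
  have h4 : 0 < p + 1 := Nat.succ_pos p
  have h5 : Nat.card (stabilizer H (none : Option (ZMod p))) * (p + 1) = (p * m) * (p + 1) := by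
    rw [h2]; ring
  exact Nat.eq_of_mul_eq_mul_right h4 h5

theorem Setup.aff_of_fix (S : Setup p m k0u n0 n0i H) {w : Equiv.Perm (Option (ZMod p))} (hw : w ∈ H)
    (hw0 : w none = none) : ∃ l < m, ∃ i, w = affP (k0u ^ l) i := by
  have hp := (Fact.out : p.Prime)
  have : NeZero p := ⟨hp.ne_zero⟩
  obtain ⟨k, hk⟩ := S.hN w hw hw0
  have hrel : ∀ x, w (cP p x) = (cP p ^ k) (w x) := by
    intro x
    have : w * cP p = cP p ^ k * w := by rw [← hk]; group
    exact congrArg (fun f : Equiv.Perm (Option (ZMod p)) => f x) this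
  have hsome : ∀ x : ZMod p, ∃ y, w (some x) = some y := by
    intro x
    rcases h : w (some x) with _ | y
    · exact absurd (w.injective (h.trans hw0.symm)) (by simp)
    · exact ⟨y, rfl⟩
  choose ω hω using hsome
  have hstep : ∀ x, ω (x + 1) = ω x + k := by
    intro x
    have := hrel (some x)
    have e1 : cP p (some x) = some (x + 1) := by simp [cP]
    rw [cP_pow, e1, hω, hω, affP_some] at this
    simpa using this
  have hnat : ∀ n : ℕ, ω (n : ZMod p) = k * n + ω 0 := by
    intro n
    induction n with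
    | zero => simp
    | succ n ih => push_cast; rw [hstep, ih]; ring
  have hall : ∀ x, ω x = k * x + ω 0 := by
    intro x
    have := hnat x.val
    rwa [ZMod.natCast_zmod_val] at this
  have hk0 : (k : ZMod p) ≠ 0 := by
    intro h0
    have e1 := hall 1
    have e0 := hall 0
    rw [h0] at e1
    have h2 : w (some 1) = w (some 0) := by rw [hω, hω, e1]; simp
    have h3 := Option.some.inj (w.injective h2)
    exact one_ne_zero h3
  set ku : (ZMod p)ˣ := Units.mk0 (k : ZMod p) hk0 with hku
  have hwa : w = affP ku (ω 0) := by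
    refine Equiv.ext fun x => ?_
    rcases x with _ | x
    · exact hw0
    · rw [hω, hall, affP_some]; rfl
  have hpow : w ^ (p * m) = 1 := by
    have h1 := pow_card_eq_one' (G := stabilizer H (none : Option (ZMod p)))
      (x := ⟨⟨w, hw⟩, hw0⟩)
    rw [S.card_stab] at h1
    have h2 := congrArg (fun z : stabilizer H (none : Option (ZMod p)) => ((z : H) : Equiv.Perm (Option (ZMod p)))) h1
    simpa using h2
  obtain ⟨i', hi'⟩ := affP_pow_exists ku (ω 0) (p * m)
  rw [hwa, hi', ← affP_one] at hpow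
  have hkpm : ku ^ (p * m) = 1 := (affP_inj hpow).1
  have hkm : (k : ZMod p) ^ m = 1 := by
    have h1 := congrArg (fun u : (ZMod p)ˣ => (u : ZMod p)) hkpm
    simp only [Units.val_pow_eq_pow_val, Units.val_one, hku, Units.val_mk0] at h1
    rwa [pow_mul, ZMod.pow_card] at h1
  obtain ⟨-, -, -, -, -, -, hC4, -⟩ := S.h1
  obtain ⟨l, hl, hkl⟩ := hC4 _ hkm
  refine ⟨l, hl, ω 0, ?_⟩
  rw [hwa]; congr 1
  exact Units.ext (by simp [hku, hkl])

theorem Setup.dP_mem (S : Setup p m k0u n0 n0i H) : affP k0u 0 ∈ H := by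
  have hp := (Fact.out : p.Prime)
  have : NeZero p := ⟨hp.ne_zero⟩
  have hstab := S.card_stab
  have hex : ∀ s : stabilizer H (none : Option (ZMod p)), ∃ li : Fin m × ZMod p,
      ((s : H) : Equiv.Perm (Option (ZMod p))) = affP (k0u ^ (li.1 : ℕ)) li.2 := by
    intro s
    obtain ⟨l, hl, i, h⟩ := S.aff_of_fix (s : H).2 s.2
    exact ⟨(⟨l, hl⟩, i), h⟩
  choose F hF using hex
  have hinj : Function.Injective F := by
    intro s s' h
    apply Subtype.ext; apply Subtype.ext
    rw [hF s, hF s', h]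
  have hcard : Nat.card (stabilizer H (none : Option (ZMod p))) = Nat.card (Fin m × ZMod p) := by
    rw [hstab, Nat.card_prod, Nat.card_fin, Nat.card_zmod, mul_comm]
  have hbij := (Nat.bijective_iff_injective_and_card F).mpr ⟨hinj, hcard⟩
  obtain ⟨s, hs⟩ := hbij.2 (⟨1, S.h1.2.1⟩, 0)
  have h := hF s
  rw [hs] at h
  simp only [pow_one] at h
  rw [← h]
  exact (s : H).2

theorem Setup.mem_closure (S : Setup p m k0u n0 n0i H) {s : Equiv.Perm (Option (ZMod p))} (hs : s ∈ H)
    (hs0 : s none = some 0) {h : Equiv.Perm (Option (ZMod p))} (hh : h ∈ H) :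
    h ∈ Subgroup.closure ({cP p, affP k0u 0, s} : Set (Equiv.Perm (Option (ZMod p)))) := by
  set C := Subgroup.closure ({cP p, affP k0u 0, s} : Set (Equiv.Perm (Option (ZMod p)))) with hC
  have hcC : cP p ∈ C := Subgroup.subset_closure (by simp)
  have hdC : affP k0u 0 ∈ C := Subgroup.subset_closure (by simp)
  have hsC : s ∈ C := Subgroup.subset_closure (by simp)
  have claim : ∀ w ∈ H, w none = none → w ∈ C := by
    intro w hw hw0
    obtain ⟨l, -, i, rfl⟩ := S.aff_of_fix hw hw0
    have : affP (k0u ^ l) i = cP p ^ i.val * affP k0u 0 ^ l := by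
      rw [cP_pow_val, affP_pow_zero, affP_mul]; simp
    rw [this]
    exact C.mul_mem (C.pow_mem hcC _) (C.pow_mem hdC _)
  rcases h0 : h none with _ | y
  · exact claim h hh h0
  · have h' : s⁻¹ * (cP p ^ y.val)⁻¹ * h ∈ C := by
      apply claim
      · exact H.mul_mem (H.mul_mem (H.inv_mem hs) (H.inv_mem (H.pow_mem S.hc _))) hh
      · rw [Equiv.Perm.mul_apply, Equiv.Perm.mul_apply, h0, cP_pow_val, affP_one_inv, affP_some]
        simp only [Units.val_one, one_mul, add_neg_cancel]
        rw [Equiv.Perm.inv_eq_iff_eq]; exact hs0.symm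
    have : h = cP p ^ y.val * s * (s⁻¹ * (cP p ^ y.val)⁻¹ * h) := by group
    rw [this]
    exact C.mul_mem (C.mul_mem (C.pow_mem hcC _) hsC) h'

theorem Setup.exists_swap (S : Setup p m k0u n0 n0i H) :
    ∃ t ∈ H, t none = some 0 ∧ t (some 0) = none := by
  obtain ⟨h, hh, hh0⟩ := S.hT
  have h1 : h⁻¹ (some 0) = none := by rw [Equiv.Perm.inv_eq_iff_eq]; exact hh0.symm
  rcases h2 : h⁻¹ none with _ | y
  · exfalso
    have h3 : h none = none := ((Equiv.Perm.inv_eq_iff_eq).mp h2).symm
    rw [hh0] at h3; simp at h3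
  · refine ⟨(cP p ^ y.val)⁻¹ * h⁻¹, H.mul_mem (H.inv_mem (H.pow_mem S.hc _)) (H.inv_mem hh), ?_, ?_⟩
    · rw [Equiv.Perm.mul_apply, h2, cP_pow_val, affP_one_inv, affP_some]; simp
    · rw [Equiv.Perm.mul_apply, h1, cP_pow_val, affP_one_inv, affP_none]

end Cfsg.Agent.H51.PSLRec
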