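import Mathlib
import Cfsg.Agent.H51.PSLRecConc

/-! Recognition of `PSL₂(p)` on the projective line, second part: the candidate analysis (helper51). -/

set_option autoImplicit false

namespace Cfsg.Agent.H51.PSLRec

open MulAction

variable {p : ℕ} [Fact p.Prime]
variable {m : ℕ} {k0u : (ZMod p)ˣ} {n0 n0i : ZMod p} {H : Subgroup (Equiv.Perm (Option (ZMod p)))}

theorem Setup.eq_cand (S : Setup p m k0u n0 n0i H) {t : Equiv.Perm (Option (ZMod p))} (ht : t ∈ H)
    (ht1 : t none = some 0) (ht2 : t (some 0) = none) :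
    ∃ j < m, ∃ a b : ZMod p, ⇑t = candF m n0i j a b := by
  obtain ⟨hpm, hm1, hk0m, hk01, hn0, hn0m, hC4, hC2⟩ := S.h1
  have hd := S.dP_mem
  have hti1 : t⁻¹ none = some 0 := by rw [Equiv.Perm.inv_eq_iff_eq]; exact ht2.symm
  have hti2 : t⁻¹ (some 0) = none := by rw [Equiv.Perm.inv_eq_iff_eq]; exact ht1.symm
  have hU : t * affP k0u 0 * t⁻¹ ∈ H := H.mul_mem (H.mul_mem ht hd) (H.inv_mem ht)
  have hU0 : (t * affP k0u 0 * t⁻¹) none = none := by
    simp only [Equiv.Perm.mul_apply, hti1, affP_some, mul_zero, zero_add, ht2]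
  obtain ⟨j, hj, i, hUa⟩ := S.aff_of_fix hU hU0
  have hi : i = 0 := by
    have := congrArg (fun f : Equiv.Perm (Option (ZMod p)) => f (some 0)) hUa
    simp only [Equiv.Perm.mul_apply, hti2, affP_none, ht1, affP_some, mul_zero, zero_add,
      Option.some.injEq] at this
    exact this.symm
  subst hi
  have hrel : ∀ z, t (affP k0u 0 z) = affP (k0u ^ j) 0 (t z) := by
    intro z
    have : t * affP k0u 0 = affP (k0u ^ j) 0 * t := by rw [← hUa]; group
    exact congrArg (fun f : Equiv.Perm (Option (ZMod p)) => f z) this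
  have hsome : ∀ x : ZMod p, x ≠ 0 → ∃ y, t (some x) = some y := by
    intro x hx
    rcases h : t (some x) with _ | y
    · exact absurd (Option.some.inj (t.injective (h.trans ht2.symm))) hx
    · exact ⟨y, rfl⟩
  let τ : ZMod p → ZMod p := fun x => (t (some x)).getD 0
  have hτ : ∀ x, x ≠ 0 → t (some x) = some (τ x) := by
    intro x hx; obtain ⟨y, hy⟩ := hsome x hx; simp [τ, hy]
  have hk0ne : (k0u : ZMod p) ≠ 0 := k0u.ne_zero
  have hτk : ∀ x, x ≠ 0 → τ (k0u * x) = (k0u : ZMod p) ^ j * τ x := by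
    intro x hx
    have := hrel (some x)
    rw [affP_some, add_zero, hτ _ (mul_ne_zero hk0ne hx), hτ x hx, affP_some, add_zero] at this
    simpa [Units.val_pow_eq_pow_val] using this
  have hn0ne : n0 ≠ 0 := by
    rintro rfl
    rw [zero_mul] at hn0
    exact zero_ne_one hn0
  have hres : ∀ l : ℕ, τ ((k0u : ZMod p) ^ l) = ((k0u : ZMod p) ^ j) ^ l * τ 1 := by
    intro l
    induction l with
    | zero => simp
    | succ l ih => rw [pow_succ', hτk _ (pow_ne_zero _ hk0ne), ih, pow_succ']; ring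
  have hnon : ∀ l : ℕ, τ (n0 * (k0u : ZMod p) ^ l) = ((k0u : ZMod p) ^ j) ^ l * τ n0 := by
    intro l
    induction l with
    | zero => simp
    | succ l ih =>
      have : n0 * (k0u : ZMod p) ^ (l + 1) = k0u * (n0 * (k0u : ZMod p) ^ l) := by ring
      rw [this, hτk _ (mul_ne_zero hn0ne (pow_ne_zero _ hk0ne)), ih, pow_succ']; ring
  refine ⟨j, hj, τ 1, τ n0, ?_⟩
  funext x
  rcases x with _ | x
  · exact ht1
  · by_cases hx : x = 0
    · subst hx; rw [ht2]; simp [candF]
    · rw [hτ x hx]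
      by_cases hxm : x ^ m = 1
      · obtain ⟨l, -, rfl⟩ := hC4 x hxm
        rw [hres]
        simp only [candF, if_neg hx, if_pos hxm]
        exact congrArg some (by ring)
      · obtain ⟨l, -, rfl⟩ := hC2 x hx hxm
        rw [hnon]
        simp only [candF, if_neg hx, if_neg hxm]
        have : n0 * (k0u : ZMod p) ^ l * n0i = (k0u : ZMod p) ^ l := by
          linear_combination (k0u : ZMod p) ^ l * hn0
        rw [this]
        exact congrArg some (by ring)

theorem Setup.isAffAt (S : Setup p m k0u n0 n0i H) {t : Equiv.Perm (Option (ZMod p))} (ht : t ∈ H)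
    (ht1 : t none = some 0) (ht2 : t (some 0) = none) (i : ZMod p) (hi : i ≠ 0) :
    IsAffAt m ⇑t i := by
  obtain ⟨hpm, hm1, hk0m, hk01, hn0, hn0m, hC4, hC2⟩ := S.h1
  obtain ⟨y, hy⟩ : ∃ y, t (some i) = some y := by
    rcases h : t (some i) with _ | y
    · exact absurd (Option.some.inj (t.injective (h.trans ht2.symm))) hi
    · exact ⟨y, rfl⟩
  set W := t * (cP p ^ y.val)⁻¹ * t * cP p ^ i.val * t with hW
  have hWH : W ∈ H :=
    H.mul_mem (H.mul_mem (H.mul_mem (H.mul_mem ht (H.inv_mem (H.pow_mem S.hc _))) ht)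
      (H.pow_mem S.hc _)) ht
  have hWf : ∀ x, wF ⇑t i x = W x := by
    intro x
    simp only [wF, hy, Option.getD_some, hW, Equiv.Perm.mul_apply, cP_pow_val, affP_one_inv, affP_coe,
      Units.val_one]
  have hW0 : W none = none := by
    rw [← hWf]; simp [wF, ht1, hy, ht2]
  obtain ⟨l, hl, i', hWa⟩ := S.aff_of_fix hWH hW0
  have hg : ∀ x, gF ⇑t i x = (k0u : ZMod p) ^ l * x + i' := by
    intro x; simp [gF, hWf, hWa, Units.val_pow_eq_pow_val]
  have hkl : ((k0u : ZMod p) ^ l) ^ m = 1 := by rw [← pow_mul, mul_comm, pow_mul, hk0m, one_pow]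
  constructor
  · rw [hg, hg]
    have : (k0u : ZMod p) ^ l * 1 + i' - ((k0u : ZMod p) ^ l * 0 + i') = (k0u : ZMod p) ^ l := by ring
    rw [this, hkl]
  · intro x
    rw [hWf, hWa, hg, hg, affP_some]
    exact congrArg some (by simp [Units.val_pow_eq_pow_val])

theorem Setup.not_bad (S : Setup p m k0u n0 n0i H) {t : Equiv.Perm (Option (ZMod p))} (ht : t ∈ H)
    (ht1 : t none = some 0) (ht2 : t (some 0) = none) (hb : IsBad (k0u : ZMod p) ⇑t) : False := by
  obtain ⟨hpm, hm1, hk0m, hk01, hn0, hn0m, hC4, hC2⟩ := S.h1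
  obtain ⟨hb1, hb2⟩ := hb
  have hd := S.dP_mem
  set s := t * t * t with hs
  have hsH : s ∈ H := H.mul_mem (H.mul_mem ht ht) ht
  have hs0 : s none = some 0 := by simp [hs, Equiv.Perm.mul_apply, ht1, ht2]
  have htd : t * affP k0u 0 = affP k0u 0 * t := Equiv.ext fun x => by
    simpa [affP_coe] using hb1 x
  have hsd : affP k0u 0 * s * (affP k0u 0)⁻¹ = s := by
    have h1 : affP k0u 0 * t * (affP k0u 0)⁻¹ = t := by rw [← htd]; group
    calc affP k0u 0 * s * (affP k0u 0)⁻¹
        = (affP k0u 0 * t * (affP k0u 0)⁻¹) * (affP k0u 0 * t * (affP k0u 0)⁻¹)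
            * (affP k0u 0 * t * (affP k0u 0)⁻¹) := by rw [hs]; group
      _ = s := by rw [h1]
  have hsd' : (affP k0u 0)⁻¹ * s * affP k0u 0 = s := by
    nth_rewrite 1 [← hsd]; group
  let conj : ZMod p → Equiv.Perm (Option (ZMod p)) := fun i => affP 1 i * s * (affP 1 i)⁻¹
  have hconj_def : ∀ i, conj i = affP 1 i * s * (affP 1 i)⁻¹ := fun i => rfl
  have hcomm0 : ∀ i, s * conj i = conj i * s := by
    intro i
    refine Equiv.ext fun x => ?_
    have := hb2 i x
    simp only [hconj_def, Equiv.Perm.mul_apply, hs, affP_one_inv, affP_coe, Units.val_one]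
    exact this
  have hconj_c : ∀ i j, affP 1 j * conj i * (affP 1 j)⁻¹ = conj (j + i) := by
    intro i j
    have : affP (1 : (ZMod p)ˣ) (j + i) = affP 1 j * affP 1 i := by
      rw [affP_mul]; simp [add_comm]
    rw [hconj_def, hconj_def, this]; group
  have hcomm : ∀ i j, conj i * conj j = conj j * conj i := by
    intro i j
    have h := hcomm0 (j - i)
    have e1 : conj j = affP 1 i * conj (j - i) * (affP 1 i)⁻¹ := by
      rw [hconj_c]; congr 1; ring
    rw [e1, hconj_def i]
    calc affP 1 i * s * (affP 1 i)⁻¹ * (affP 1 i * conj (j - i) * (affP 1 i)⁻¹)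
        = affP 1 i * (s * conj (j - i)) * (affP 1 i)⁻¹ := by group
      _ = affP 1 i * (conj (j - i) * s) * (affP 1 i)⁻¹ := by rw [h]
      _ = affP 1 i * conj (j - i) * (affP 1 i)⁻¹ * (affP 1 i * s * (affP 1 i)⁻¹) := by group
  have hnorm : ∀ g : Equiv.Perm (Option (ZMod p)), (∀ i, ∃ i', g * conj i * g⁻¹ = conj i') →
      (∀ i, ∃ i', g⁻¹ * conj i * g = conj i') → g ∈ Subgroup.normalizer (Set.range conj) := by
    intro g h1 h2
    rw [Subgroup.mem_set_normalizer_iff]
    intro n
    constructor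
    · rintro ⟨i, rfl⟩; obtain ⟨i', hi'⟩ := h1 i; exact ⟨i', hi'.symm⟩
    · rintro ⟨i, hi⟩
      obtain ⟨i', hi'⟩ := h2 i
      refine ⟨i', ?_⟩
      rw [← hi', hi]; group
  have hdc : ∀ i : ZMod p, affP k0u 0 * affP 1 i * (affP k0u 0)⁻¹ = affP 1 ((k0u : ZMod p) * i) := by
    intro i
    have : affP k0u 0 * affP 1 i = affP 1 ((k0u : ZMod p) * i) * affP k0u 0 := by
      rw [affP_mul, affP_mul]; simp
    rw [this]; group
  have hdc' : ∀ i : ZMod p, (affP k0u 0)⁻¹ * affP 1 i * affP k0u 0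
      = affP 1 (((k0u⁻¹ : (ZMod p)ˣ) : ZMod p) * i) := by
    intro i
    have h1 := hdc (((k0u⁻¹ : (ZMod p)ˣ) : ZMod p) * i)
    have h2 : (k0u : ZMod p) * (((k0u⁻¹ : (ZMod p)ˣ) : ZMod p) * i) = i := by
      rw [← mul_assoc, k0u.mul_inv, one_mul]
    rw [h2] at h1
    rw [← h1]; group
  have hgen : Subgroup.closure ({cP p, affP k0u 0, s} : Set (Equiv.Perm (Option (ZMod p))))
      ≤ Subgroup.normalizer (Set.range conj) := by
    rw [Subgroup.closure_le]
    intro g hg
    simp only [Set.mem_insert_iff, Set.mem_singleton_iff] at hg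
    rcases hg with rfl | rfl | rfl
    · apply hnorm
      · intro i; exact ⟨1 + i, hconj_c i 1⟩
      · intro i
        refine ⟨-1 + i, ?_⟩
        have := hconj_c i (-1)
        rw [← affP_one_inv] at this
        simpa [cP] using this
    · apply hnorm
      · intro i
        refine ⟨(k0u : ZMod p) * i, ?_⟩
        rw [hconj_def, hconj_def, ← hdc i]
        nth_rewrite 2 [← hsd]
        group
      · intro i
        refine ⟨((k0u⁻¹ : (ZMod p)ˣ) : ZMod p) * i, ?_⟩
        rw [hconj_def, hconj_def, ← hdc' i]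
        nth_rewrite 2 [← hsd']
        group
    · apply hnorm
      · intro i; exact ⟨i, by rw [hcomm0 i]; group⟩
      · intro i; exact ⟨i, by rw [mul_assoc, ← hcomm0 i]; group⟩
  have hconjS : ∀ h ∈ H, h * s * h⁻¹ ∈ Set.range conj := by
    intro h hh
    have h1 := hgen (S.mem_closure hsH hs0 hh)
    exact (Subgroup.mem_set_normalizer_iff.mp h1 s).mp ⟨0, by simp [hconj_def, affP_one]⟩
  have hcomm' := Subgroup.isMulCommutative_closure (k := Set.range conj)
    (by rintro _ ⟨i, rfl⟩ _ ⟨j, rfl⟩; exact hcomm i j)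
  have hcl : ∀ x ∈ Subgroup.closure (Set.range conj), ∀ y ∈ Subgroup.closure (Set.range conj),
      x * y = y * x := by
    intro x hx y hy
    have := hcomm'.is_comm.comm (⟨x, hx⟩ : Subgroup.closure (Set.range conj)) ⟨y, hy⟩
    exact congrArg Subtype.val this
  have := S.simple
  have hsne : (⟨s, hsH⟩ : H) ≠ 1 := by
    intro h
    have h1 : s = 1 := congrArg Subtype.val h
    rw [h1] at hs0; simp at hs0
  have hNC : Subgroup.normalClosure ({⟨s, hsH⟩} : Set H) = ⊤ := by
    rcases (Subgroup.normalClosure_normal (s := ({⟨s, hsH⟩} : Set H))).eq_bot_or_eq_top with h | h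
    · exfalso; apply hsne
      have h1 : (⟨s, hsH⟩ : H) ∈ Subgroup.normalClosure ({⟨s, hsH⟩} : Set H) :=
        Subgroup.subset_normalClosure (by simp)
      rw [h] at h1; exact Subgroup.mem_bot.mp h1
    · exact h
  have hsub : Subgroup.normalClosure ({⟨s, hsH⟩} : Set H)
      ≤ (Subgroup.closure (Set.range conj)).comap H.subtype := by
    rw [Subgroup.normalClosure, Subgroup.closure_le]
    intro x hx
    rw [Group.mem_conjugatesOfSet_iff] at hx
    obtain ⟨a, ha, hax⟩ := hx
    rw [Set.mem_singleton_iff] at ha; subst ha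
    rw [isConj_iff] at hax
    obtain ⟨c, rfl⟩ := hax
    exact Subgroup.subset_closure (hconjS c c.2)
  have hall : ∀ h ∈ H, h ∈ Subgroup.closure (Set.range conj) := by
    intro h hh
    have h1 : (⟨h, hh⟩ : H) ∈ Subgroup.normalClosure ({⟨s, hsH⟩} : Set H) := by rw [hNC]; trivial
    exact hsub h1
  have hfin := hcl _ (hall _ S.hc) _ (hall _ hd)
  have h2 := congrArg (fun f : Equiv.Perm (Option (ZMod p)) => f (some 0)) hfin
  simp [cP, Equiv.Perm.mul_apply] at h2
  exact hk01 h2.symm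

theorem Setup.tP_mem (S : Setup p m k0u n0 n0i H) : tP p ∈ H := by
  obtain ⟨t, ht, ht1, ht2⟩ := S.exists_swap
  obtain ⟨j, hj, a, b, hcand⟩ := S.eq_cand ht ht1 ht2
  have hprem : ∀ i : ZMod p, i ≠ 0 → IsAffAt m (candF m n0i j a b) i := by
    intro i hi; rw [← hcand]; exact S.isAffAt ht ht1 ht2 i hi
  rcases S.h3 j hj a b hprem with hg | hb
  · obtain ⟨l, hl, hgl⟩ := hg
    rw [← hcand] at hgl
    have h1 : t = tP p * affP k0u 0 ^ l := by
      refine Equiv.ext fun x => ?_
      rw [hgl, Equiv.Perm.mul_apply, affP_pow_zero, tP_coe, affP_coe, Units.val_pow_eq_pow_val]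
    have h2 : tP p = t * (affP k0u 0 ^ l)⁻¹ := by rw [h1]; group
    rw [h2]
    exact H.mul_mem ht (H.inv_mem (H.pow_mem S.dP_mem _))
  · rw [← hcand] at hb
    exact (S.not_bad ht ht1 ht2 hb).elim

/-- The concrete recognition theorem. -/
theorem Setup.eq_closure (S : Setup p m k0u n0 n0i H) :
    H = Subgroup.closure ({cP p, affP k0u 0, tP p} : Set (Equiv.Perm (Option (ZMod p)))) := by
  apply le_antisymm
  · intro h hh; exact S.mem_closure S.tP_mem tP_none hh
  · rw [Subgroup.closure_le]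
    intro g hg
    simp only [Set.mem_insert_iff, Set.mem_singleton_iff] at hg
    rcases hg with rfl | rfl | rfl
    exacts [S.hc, S.dP_mem, S.tP_mem]

end Cfsg.Agent.H51.PSLRec
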