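import Mathlib
import Cfsg.Agent.H51.PSLRecConc2

/-! Recognition of `PSL₂(p)`: a simple group with `p + 1` Sylow `p`-subgroups of order `p` acts on them
as on the projective line (helper51). -/

set_option autoImplicit false

namespace Cfsg.Agent.H51.PSLRec

variable {G : Type*} [Group G] [Finite G] {p : ℕ} [Fact p.Prime]

/-- If the Sylow `p`-subgroups have order `p`, a nontrivial element of one of them normalises no other. -/
theorem sylow_fix_eq (hP : ∀ P : Sylow p G, Nat.card P = p) (P Q : Sylow p G) {g : G}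
    (hg : g ∈ (P : Subgroup G)) (hg1 : g ≠ 1) (hfix : g • Q = Q) : Q = P := by
  have hp := (Fact.out : p.Prime)
  have hz : Subgroup.zpowers g = (P : Subgroup G) := by
    apply Subgroup.eq_of_le_of_card_ge (Subgroup.zpowers_le.mpr hg)
    rw [hP P, Nat.card_zpowers]
    have hdvd : orderOf g ∣ p := by
      rw [← hP P]
      exact Subgroup.orderOf_dvd_natCard _ hg
    rcases (Nat.dvd_prime hp).mp hdvd with h | h
    · exact absurd (orderOf_eq_one_iff.mp h) hg1
    · exact h.ge
  have hN : g ∈ Subgroup.normalizer ((Q : Subgroup G) : Set G) :=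
    Sylow.smul_eq_iff_mem_normalizer.mp hfix
  have hle : (P : Subgroup G) ≤ Subgroup.normalizer ((Q : Subgroup G) : Set G) := by
    rw [← hz]; exact Subgroup.zpowers_le.mpr hN
  have h1 := IsPGroup.inf_normalizer_sylow P.2 Q
  have h2 : (P : Subgroup G) ≤ Q := by
    have h3 : (P : Subgroup G) ⊓ Subgroup.normalizer ((Q : Subgroup G) : Set G) = P :=
      inf_eq_left.mpr hle
    have h4 : (P : Subgroup G) ⊓ (Q : Subgroup G) = P := h1.symm.trans h3
    exact inf_eq_left.mp h4
  exact Sylow.ext (P.3 Q.2 h2)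

theorem exists_embedding [IsSimpleGroup G] (hX : Nat.card (Sylow p G) = p + 1)
    (hP : ∀ P : Sylow p G, Nat.card P = p) :
    ∃ φ : G →* Equiv.Perm (Option (ZMod p)), Function.Injective φ ∧ cP p ∈ φ.range ∧
      (∀ h ∈ φ.range, h none = none → ∃ k : ℕ, h * cP p * h⁻¹ = cP p ^ k) ∧
      ∃ h ∈ φ.range, h none = some 0 := by
  have hp := (Fact.out : p.Prime)
  have : NeZero p := ⟨hp.ne_zero⟩
  obtain ⟨P⟩ : Nonempty (Sylow p G) := inferInstance
  have hcyc : IsCyclic (P : Subgroup G) := isCyclic_of_prime_card (hP P)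
  obtain ⟨c', hc'⟩ := hcyc.exists_generator
  set c : G := c'.1 with hc
  have hcP : c ∈ (P : Subgroup G) := c'.2
  have hord : orderOf c = p := by
    rw [hc, Subgroup.orderOf_coe, orderOf_eq_card_of_forall_mem_zpowers hc', hP P]
  have hpow : ∀ x ∈ (P : Subgroup G), ∃ n : ℕ, x = c ^ n := by
    intro x hx
    have h1 := hc' ⟨x, hx⟩
    rw [← mem_powers_iff_mem_zpowers] at h1
    obtain ⟨n, hn⟩ := h1
    refine ⟨n, ?_⟩
    have h2 := congrArg (fun z : (P : Subgroup G) => (z : G)) hn
    simpa using h2.symm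
  have hnt : Nontrivial (Sylow p G) :=
    Finite.one_lt_card_iff_nontrivial.mp (by rw [hX]; have := hp.pos; omega)
  obtain ⟨Q0, hQ0⟩ := exists_ne P
  have hfixP : ∀ n : ℕ, c ^ n • P = P := fun n =>
    Sylow.smul_eq_iff_mem_normalizer.mpr (Subgroup.le_normalizer ((P : Subgroup G).pow_mem hcP n))
  let e : Option (ZMod p) → Sylow p G := fun x =>
    match x with
    | none => P
    | some i => c ^ i.val • Q0
  have he_inj : Function.Injective e := by
    rintro (_ | i) (_ | j) h
    · rfl
    · exfalso; apply hQ0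
      have h' : P = c ^ j.val • Q0 := h
      have h2 : Q0 = (c ^ j.val)⁻¹ • P := by rw [h', inv_smul_smul]
      rw [h2, inv_smul_eq_iff, hfixP]
    · exfalso; apply hQ0
      have h' : c ^ i.val • Q0 = P := h
      have h2 : Q0 = (c ^ i.val)⁻¹ • P := by rw [← h', inv_smul_smul]
      rw [h2, inv_smul_eq_iff, hfixP]
    · have h' : c ^ i.val • Q0 = c ^ j.val • Q0 := h
      have h1 : ((c ^ j.val)⁻¹ * c ^ i.val) • Q0 = Q0 := by rw [mul_smul, h', inv_smul_smul]
      have h2 : (c ^ j.val)⁻¹ * c ^ i.val = 1 := by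
        by_contra hne
        exact hQ0 (sylow_fix_eq hP P Q0 ((P : Subgroup G).mul_mem
          ((P : Subgroup G).inv_mem ((P : Subgroup G).pow_mem hcP _))
          ((P : Subgroup G).pow_mem hcP _)) hne h1)
      have h3 : c ^ i.val = c ^ j.val := by
        have : c ^ i.val = c ^ j.val * ((c ^ j.val)⁻¹ * c ^ i.val) := by group
        rw [this, h2, mul_one]
      have h4 := pow_eq_pow_iff_modEq.mp h3
      rw [hord] at h4
      have h5 : i.val = j.val := Nat.ModEq.eq_of_lt_of_lt h4 (ZMod.val_lt i) (ZMod.val_lt j)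
      exact congrArg some (ZMod.val_injective p h5)
  have hcard : Nat.card (Option (ZMod p)) = Nat.card (Sylow p G) := by
    rw [hX, Nat.card_eq_fintype_card, Fintype.card_option, ZMod.card]
  have he_bij : Function.Bijective e := (Nat.bijective_iff_injective_and_card e).mpr ⟨he_inj, hcard⟩
  let E : Option (ZMod p) ≃ Sylow p G := Equiv.ofBijective e he_bij
  have hE_none : E none = P := rfl
  have hE_some : ∀ i : ZMod p, E (some i) = c ^ i.val • Q0 := fun i => rfl
  let φ : G →* Equiv.Perm (Option (ZMod p)) :=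
    (E.symm.permCongrHom).toMonoidHom.comp (MulAction.toPermHom G (Sylow p G))
  have hφ : ∀ g x, φ g x = E.symm (g • E x) := by
    intro g x; rfl
  have hφc : φ c = cP p := by
    refine Equiv.ext fun x => ?_
    rcases x with _ | i
    · rw [hφ, hE_none, Equiv.symm_apply_eq]
      have h1 := hfixP 1
      rw [pow_one] at h1
      rw [h1]; rfl
    · rw [hφ, hE_some, Equiv.symm_apply_eq]
      have h1 : cP p (some i) = some (i + 1) := by simp [cP]
      rw [h1, hE_some, ← mul_smul, ← pow_succ']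
      congr 1
      apply pow_eq_pow_iff_modEq.mpr
      rw [hord]
      exact (ZMod.natCast_eq_natCast_iff _ _ _).mp (by simp)
  have hcP1 : cP p ≠ 1 := by
    intro h
    have h1 := congrArg (fun f : Equiv.Perm (Option (ZMod p)) => f (some 0)) h
    simp [cP] at h1
  refine ⟨φ, ?_, ⟨c, hφc⟩, ?_, ?_⟩
  · rw [← MonoidHom.ker_eq_bot_iff]
    rcases (MonoidHom.normal_ker φ).eq_bot_or_eq_top with h | h
    · exact h
    · exfalso; apply hcP1
      have h1 : c ∈ φ.ker := by rw [h]; trivial
      rw [← hφc]; exact h1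
  · rintro _ ⟨g, rfl⟩ hg
    rw [hφ, hE_none, Equiv.symm_apply_eq, hE_none] at hg
    have h1 : g ∈ Subgroup.normalizer ((P : Subgroup G) : Set G) :=
      Sylow.smul_eq_iff_mem_normalizer.mp hg
    have h2 : g * c * g⁻¹ ∈ (P : Subgroup G) := (Subgroup.mem_normalizer_iff.mp h1 c).mp hcP
    obtain ⟨k, hk⟩ := hpow _ h2
    refine ⟨k, ?_⟩
    rw [← hφc, ← map_inv, ← map_mul, ← map_mul, hk, map_pow]
  · obtain ⟨g, hg⟩ := MulAction.exists_smul_eq G P Q0
    refine ⟨φ g, ⟨g, rfl⟩, ?_⟩
    rw [hφ, hE_none, hg, Equiv.symm_apply_eq, hE_some, ZMod.val_zero, pow_zero, one_smul]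

end Cfsg.Agent.H51.PSLRec
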