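import Mathlib
import Cfsg.Agent.H51.PSLRecAbs

/-! Recognition of `PSL₂(p)`: the combined theorem (helper51). -/

set_option autoImplicit false

namespace Cfsg.Agent.H51.PSLRec

variable {G : Type*} [Group G] [Finite G] {p : ℕ} [Fact p.Prime]

theorem sylow_card_eq_p {m : ℕ} (hG : Nat.card G = (p + 1) * p * m) (hpm : 2 * m + 1 = p) (hm : 0 < m)
    (P : Sylow p G) : Nat.card P = p := by
  have hp := (Fact.out : p.Prime)
  rw [Sylow.card_eq_multiplicity, hG]
  have h1 : ¬ p ∣ (p + 1) := by
    intro h
    have : p ∣ 1 := (Nat.dvd_add_right (dvd_refl p)).mp h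
    exact hp.one_lt.ne' (Nat.dvd_one.mp this)
  have h2 : ¬ p ∣ m := by
    intro h
    have := Nat.le_of_dvd hm h
    omega
  have hm0 : m ≠ 0 := hm.ne'
  rw [Nat.factorization_mul (Nat.mul_ne_zero (Nat.succ_ne_zero p) hp.ne_zero) hm0,
    Nat.factorization_mul (Nat.succ_ne_zero p) hp.ne_zero]
  simp only [Finsupp.coe_add, Pi.add_apply]
  rw [Nat.factorization_eq_zero_of_not_dvd h1, Nat.factorization_eq_zero_of_not_dvd h2,
    Nat.Prime.factorization_self hp]
  simp

/-- A simple group of order `(p+1) p m` with `p + 1` Sylow `p`-subgroups, where the finite checks hold,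
is isomorphic to a fixed permutation group on the projective line. -/
theorem recog [IsSimpleGroup G] {m : ℕ} {k0u : (ZMod p)ˣ} {n0 n0i : ZMod p}
    (h1 : Check1 p m (k0u : ZMod p) n0 n0i) (h3 : Check3 p m (k0u : ZMod p) n0i)
    (hG : Nat.card G = (p + 1) * p * m) (hX : Nat.card (Sylow p G) = p + 1) :
    Nonempty (G ≃* Subgroup.closure
      ({cP p, affP k0u 0, tP p} : Set (Equiv.Perm (Option (ZMod p))))) := by
  have hP : ∀ P : Sylow p G, Nat.card P = p := sylow_card_eq_p hG h1.1 (by have := h1.2.1; omega)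
  obtain ⟨φ, hinj, hc, hN, hT⟩ := exists_embedding hX hP
  have e : G ≃* φ.range := MonoidHom.ofInjective hinj
  have S : Setup p m k0u n0 n0i φ.range :=
    { h1 := h1
      h3 := h3
      card := by rw [← Nat.card_congr e.toEquiv, hG]
      simple := e.isSimpleGroup_congr.mp inferInstance
      hc := hc
      hN := hN
      hT := hT }
  exact ⟨e.trans (MulEquiv.subgroupCongr S.eq_closure)⟩

/-- The number of Sylow `p`-subgroups of a simple group of order `(p+1) p m`, given the arithmetic. -/
theorem card_sylow_of_simple [IsSimpleGroup G] {m : ℕ} (hG : Nat.card G = (p + 1) * p * m)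
    (hpm : 2 * m + 1 = p) (hm : 1 < m)
    (harith : ∀ n, n ∣ (p + 1) * m → n % p = 1 → n = 1 ∨ n = p + 1) :
    Nat.card (Sylow p G) = p + 1 := by
  have hp := (Fact.out : p.Prime)
  obtain ⟨P⟩ : Nonempty (Sylow p G) := inferInstance
  have hPc : Nat.card P = p := sylow_card_eq_p hG hpm (by omega) P
  have hmod : Nat.card (Sylow p G) % p = 1 := by
    have h := card_sylow_modEq_one p G
    rw [Nat.ModEq, Nat.mod_eq_of_lt hp.one_lt] at h
    exact h
  have hidx : (P : Subgroup G).index = (p + 1) * m := by
    have h := (P : Subgroup G).card_mul_index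
    rw [hPc, hG] at h
    have h' : p * (P : Subgroup G).index = p * ((p + 1) * m) := by rw [h]; ring
    exact Nat.eq_of_mul_eq_mul_left hp.pos h'
  have hdvd : Nat.card (Sylow p G) ∣ (p + 1) * m := by
    rw [← hidx]; exact P.card_dvd_index
  rcases harith _ hdvd hmod with h | h
  · exfalso
    have hsub : Subsingleton (Sylow p G) := (Nat.card_eq_one_iff_unique.mp h).1
    have hn : (P : Subgroup G).Normal := P.normal_of_subsingleton
    rcases hn.eq_bot_or_eq_top with hb | ht
    · rw [hb, Subgroup.card_bot] at hPc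
      exact hp.one_lt.ne hPc
    · rw [ht, Subgroup.card_top, hG] at hPc
      have : p * 1 < (p + 1) * p * m := by nlinarith [hp.pos]
      omega
  · exact h

end Cfsg.Agent.H51.PSLRec
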