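import Mathlib
import Cfsg.Agent.H51.PSLRecMain
import Cfsg.Agent.S0243

/-! Recognition of `PSL₂(p)`: a simple group of the right order with `p + 1` Sylow `p`-subgroups is
isomorphic to `PSL₂(F)`, `|F| = p`, when the finite checks hold (helper51). -/

set_option autoImplicit false

namespace Cfsg.Agent.H51.PSLRec

variable {p : ℕ} [Fact p.Prime]

omit [Fact p.Prime] in
theorem card_psl_two {m : ℕ} (hpm : 2 * m + 1 = p) (hm : 0 < m) {F : Type*} [Field F] [Fintype F]
    (hF : Fintype.card F = p) :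
    Nat.card (Matrix.ProjectiveSpecialLinearGroup (Fin 2) F) = (p + 1) * p * m := by
  have h := Cfsg.Agent.S0243.result hF 2 (le_refl 2)
  simp only [Fin.prod_univ_two, Fin.val_zero, Fin.val_one, pow_zero, pow_one] at h
  have hp1 : p - 1 = 2 * m := by omega
  have hsq : p ^ 2 = 4 * m * m + 4 * m + 1 := by rw [← hpm]; ring
  have e1 : p ^ 2 - 1 = 4 * m * m + 4 * m := by omega
  have e2 : p ^ 2 - p = 4 * m * m + 2 * m := by omega
  have e3 : Nat.gcd 2 (2 * m) = 2 := Nat.gcd_eq_left (dvd_mul_right 2 m)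
  rw [hp1, e1, e2, e3] at h
  have h' : (4 * m) * Nat.card (Matrix.ProjectiveSpecialLinearGroup (Fin 2) F)
      = (4 * m) * ((p + 1) * p * m) := by
    rw [← hpm]
    calc (4 * m) * Nat.card (Matrix.ProjectiveSpecialLinearGroup (Fin 2) F)
        = 2 * (2 * m * Nat.card (Matrix.ProjectiveSpecialLinearGroup (Fin 2) F)) := by ring
      _ = (4 * m * m + 4 * m) * (4 * m * m + 2 * m) := h
      _ = (4 * m) * ((2 * m + 1 + 1) * (2 * m + 1) * m) := by ring
  exact Nat.eq_of_mul_eq_mul_left (by omega) h'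

theorem iso_psl {G : Type*} [Group G] [Finite G] [IsSimpleGroup G] {m : ℕ} {k0u : (ZMod p)ˣ}
    {n0 n0i : ZMod p} (h1 : Check1 p m (k0u : ZMod p) n0 n0i) (h3 : Check3 p m (k0u : ZMod p) n0i)
    (harith : ∀ n, n ∣ (p + 1) * m → n % p = 1 → n = 1 ∨ n = p + 1)
    (hG : Nat.card G = (p + 1) * p * m) {F : Type*} [Field F] [Fintype F]
    (hF : Fintype.card F = p) (h4 : 4 ≤ p) :
    Nonempty (G ≃* Matrix.ProjectiveSpecialLinearGroup (Fin 2) F) := by
  classical
  have hs : IsSimpleGroup (Matrix.ProjectiveSpecialLinearGroup (Fin 2) F) := by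
    apply Matrix.ProjectiveSpecialLinearGroup.rank_two_simple
    rw [Nat.card_eq_fintype_card, hF]
    exact h4
  have hm : 1 < m := h1.2.1
  have hcard := card_psl_two h1.1 (by omega) hF
  obtain ⟨e1⟩ := recog h1 h3 hG (card_sylow_of_simple hG h1.1 hm harith)
  obtain ⟨e2⟩ := recog h1 h3 hcard (card_sylow_of_simple hcard h1.1 hm harith)
  exact ⟨e1.trans e2.symm⟩

end Cfsg.Agent.H51.PSLRec
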