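import Mathlib

/-! Sylow 3-subgroups of a simple group of order 360: there are ten of them, of order nine, and any
two of them intersect trivially (helper51). -/

set_option autoImplicit false

namespace Cfsg.Agent.H51.PSL9

open Subgroup

variable {G : Type*} [Group G] [Finite G]

theorem sylow_card_pow {p k m : ℕ} [Fact p.Prime] (h : Nat.card G = p ^ k * m) (hm : ¬ p ∣ m)
    (P : Sylow p G) : Nat.card (P : Subgroup G) = p ^ k := by
  have hp : p.Prime := Fact.out
  have hm0 : m ≠ 0 := by rintro rfl; exact hm (dvd_zero p)
  rw [Sylow.card_eq_multiplicity, h, Nat.factorization_mul (pow_ne_zero k hp.ne_zero) hm0]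
  simp [hp.factorization_self, Nat.factorization_eq_zero_of_not_dvd hm]

/-- In a simple group, the order divides the factorial of the index of any proper subgroup. -/
theorem simple_card_dvd_factorial [IsSimpleGroup G] (H : Subgroup G) (hH : H ≠ ⊤) :
    Nat.card G ∣ (H.index).factorial := by
  have hker : (MulAction.toPermHom G (G ⧸ H)).ker = ⊥ := by
    rcases (MonoidHom.normal_ker (MulAction.toPermHom G (G ⧸ H))).eq_bot_or_eq_top with h | h
    · exact h
    · exfalso
      apply hH
      rw [← Subgroup.normalCore_eq_ker] at h
      exact top_le_iff.mp (h ▸ Subgroup.normalCore_le H)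
  have hinj : Function.Injective (MulAction.toPermHom G (G ⧸ H)) :=
    (MonoidHom.ker_eq_bot_iff _).mp hker
  have h1 := Subgroup.card_dvd_of_injective _ hinj
  rwa [Nat.card_perm] at h1

omit [Finite G] in
theorem simple_center_bot [IsSimpleGroup G] (h : ¬ (Nat.card G).Prime) : Subgroup.center G = ⊥ := by
  rcases (inferInstance : (Subgroup.center G).Normal).eq_bot_or_eq_top with h1 | h1
  · exact h1
  · exfalso
    have hc : IsMulCommutative G := by
      refine ⟨⟨fun a b => ?_⟩⟩
      have hb : b ∈ Subgroup.center G := h1 ▸ Subgroup.mem_top b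
      exact (Subgroup.mem_center_iff.1 hb a)
    exact h (Group.is_simple_iff_prime_card.1 inferInstance)

omit [Finite G] in
/-- A simple group has no proper nontrivial normal subgroup: cardinality form. -/
theorem simple_normal_card [IsSimpleGroup G] (N : Subgroup G) [N.Normal] :
    Nat.card N = 1 ∨ Nat.card N = Nat.card G := by
  rcases (inferInstance : N.Normal).eq_bot_or_eq_top with h | h
  · left; rw [h, Subgroup.card_bot]
  · right; rw [h, Subgroup.card_top]

variable [IsSimpleGroup G]

theorem card_sylow3 (hG : Nat.card G = 360) (Q : Sylow 3 G) : Nat.card (Q : Subgroup G) = 9 := by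
  have := sylow_card_pow (p := 3) (k := 2) (m := 40) (by rw [hG]; norm_num) (by norm_num) Q
  simpa using this

theorem sylow3_comm (hG : Nat.card G = 360) (Q : Sylow 3 G) : IsMulCommutative (Q : Subgroup G) :=
  IsPGroup.isMulCommutative_of_card_eq_prime_sq (p := 3) (by rw [card_sylow3 hG Q]; norm_num)

/-- A simple group of order 360 has exactly ten Sylow 3-subgroups. -/
theorem card_sylow3_eq (hG : Nat.card G = 360) : Nat.card (Sylow 3 G) = 10 := by
  obtain ⟨Q⟩ : Nonempty (Sylow 3 G) := inferInstance
  have hQ := card_sylow3 hG Q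
  have hmod : Nat.card (Sylow 3 G) % 3 = 1 := by
    have h := card_sylow_modEq_one 3 G
    exact h
  have hidx : (Q : Subgroup G).index = 40 := by
    have h := (Q : Subgroup G).card_mul_index
    rw [hQ, hG] at h
    omega
  have hdvd : Nat.card (Sylow 3 G) ∣ 40 := by
    rw [← hidx]; exact Q.card_dvd_index
  have hle : Nat.card (Sylow 3 G) ≤ 40 := Nat.le_of_dvd (by norm_num) hdvd
  have key : ∀ n ≤ 40, n ∣ 40 → n % 3 = 1 → n = 1 ∨ n = 4 ∨ n = 10 ∨ n = 40 := by decide
  have hN : Nat.card (Sylow 3 G) = (normalizer ((Q : Subgroup G) : Set G)).index :=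
    Q.card_eq_index_normalizer
  rcases key _ hle hdvd hmod with h | h | h | h
  · exfalso
    have hsub : Subsingleton (Sylow 3 G) := (Nat.card_eq_one_iff_unique.mp h).1
    have hn : (Q : Subgroup G).Normal := Q.normal_of_subsingleton
    rcases simple_normal_card (Q : Subgroup G) with h1 | h1 <;> omega
  · exfalso
    have hne : normalizer ((Q : Subgroup G) : Set G) ≠ ⊤ := by
      intro ht
      rw [ht, Subgroup.index_top] at hN
      omega
    have h1 := simple_card_dvd_factorial _ hne
    rw [← hN, h, hG] at h1
    revert h1; decide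
  · exact h
  · exfalso
    have hNc : Nat.card (normalizer ((Q : Subgroup G) : Set G)) = 9 := by
      have h1 := (normalizer ((Q : Subgroup G) : Set G)).card_mul_index
      rw [← hN, h, hG] at h1
      omega
    have hNQ : normalizer ((Q : Subgroup G) : Set G) = Q :=
      (Subgroup.eq_of_le_of_card_ge le_normalizer (by rw [hNc, hQ])).symm
    have hcomm := sylow3_comm hG Q
    have hP : normalizer ((Q : Subgroup G) : Set G) ≤ centralizer ((Q : Subgroup G) : Set G) := by
      rw [hNQ]
      intro x hx y hy
      have := hcomm.is_comm.comm (⟨y, hy⟩ : (Q : Subgroup G)) ⟨x, hx⟩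
      exact congrArg Subtype.val this
    have hcompl := MonoidHom.ker_transferSylow_isComplement' Q hP
    have hmul := hcompl.card_mul_card
    rw [hQ, hG] at hmul
    rcases simple_normal_card (MonoidHom.transferSylow Q hP).ker with h1 | h1 <;> omega

end Cfsg.Agent.H51.PSL9
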