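import Mathlib
import Cfsg.Agent.H51.PSL9Sylow

/-! Sylow 3-subgroups of a simple group of order 360 intersect trivially (helper51). -/

set_option autoImplicit false

namespace Cfsg.Agent.H51.PSL9

open Subgroup

/-- A group of order 36 with a central element of order 3 has a normal subgroup of order 4 or 9. -/
theorem order36_normal {H : Type*} [Group H] [Finite H] (hH : Nat.card H = 36) (z : H)
    (hz : orderOf z = 3) (hzc : z ∈ Subgroup.center H) :
    (∃ V : Subgroup H, V.Normal ∧ Nat.card V = 4) ∨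
      (∃ K : Subgroup H, K.Normal ∧ Nat.card K = 9) := by
  have : Fact (Nat.Prime 2) := ⟨by norm_num⟩
  obtain ⟨V⟩ : Nonempty (Sylow 2 H) := inferInstance
  have hV : Nat.card (V : Subgroup H) = 4 := by
    have := sylow_card_pow (p := 2) (k := 2) (m := 9) (by rw [hH]; norm_num) (by norm_num) V
    simpa using this
  have hcomm : IsMulCommutative (V : Subgroup H) :=
    IsPGroup.isMulCommutative_of_card_eq_prime_sq (p := 2) (by rw [hV]; norm_num)
  have hVC : (V : Subgroup H) ≤ centralizer ((V : Subgroup H) : Set H) := by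
    intro x hx y hy
    have := hcomm.is_comm.comm (⟨y, hy⟩ : (V : Subgroup H)) ⟨x, hx⟩
    exact congrArg Subtype.val this
  have hzC : z ∈ centralizer ((V : Subgroup H) : Set H) := by
    intro y hy
    exact (Subgroup.mem_center_iff.1 hzc y)
  have hCN : centralizer ((V : Subgroup H) : Set H) ≤ normalizer ((V : Subgroup H) : Set H) :=
    centralizer_le_normalizer _
  have h4 : 4 ∣ Nat.card (centralizer ((V : Subgroup H) : Set H)) :=
    hV ▸ Subgroup.card_dvd_of_le hVC
  have h3 : 3 ∣ Nat.card (centralizer ((V : Subgroup H) : Set H)) := by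
    rw [← hz]; exact Subgroup.orderOf_dvd_natCard _ hzC
  have hCN' : Nat.card (centralizer ((V : Subgroup H) : Set H)) ∣
      Nat.card (normalizer ((V : Subgroup H) : Set H)) := Subgroup.card_dvd_of_le hCN
  have hN36 : Nat.card (normalizer ((V : Subgroup H) : Set H)) ∣ 36 :=
    hH ▸ Subgroup.card_subgroup_dvd_card _
  have hNle : Nat.card (normalizer ((V : Subgroup H) : Set H)) ≤ 36 := Nat.le_of_dvd (by norm_num) hN36
  have hCle : Nat.card (centralizer ((V : Subgroup H) : Set H)) ≤ 36 :=
    (Nat.le_of_dvd Nat.card_pos hCN').trans hNle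
  have key : ∀ n ≤ 36, ∀ c ≤ 36, (n ∣ 36 ∧ c ∣ n ∧ 4 ∣ c ∧ 3 ∣ c) → n = 36 ∨ c = n := by decide
  rcases key _ hNle _ hCle ⟨hN36, hCN', h4, h3⟩ with h | h
  · left
    refine ⟨V, ?_, hV⟩
    rw [← normalizer_eq_top_iff]
    exact Subgroup.eq_top_of_card_eq _ (by rw [h, hH])
  · right
    have hP : normalizer ((V : Subgroup H) : Set H) ≤ centralizer ((V : Subgroup H) : Set H) :=
      (Subgroup.eq_of_le_of_card_ge hCN h.ge).ge
    have hcompl := MonoidHom.ker_transferSylow_isComplement' V hP
    have hmul := hcompl.card_mul_card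
    rw [hV, hH] at hmul
    exact ⟨(MonoidHom.transferSylow V hP).ker, inferInstance, by omega⟩

variable {G : Type*} [Group G] [Finite G] [IsSimpleGroup G]

/-- Distinct Sylow 3-subgroups of a simple group of order 360 intersect trivially. -/
theorem sylow3_inf_eq_bot (hG : Nat.card G = 360) (Q Q' : Sylow 3 G) (hne : Q ≠ Q') :
    (Q : Subgroup G) ⊓ (Q' : Subgroup G) = ⊥ := by
  by_contra hD
  have : Fact (Nat.Prime 2) := ⟨by norm_num⟩
  -- an element of order 3 in the intersection
  have hDp : IsPGroup 3 ((Q : Subgroup G) ⊓ (Q' : Subgroup G) : Subgroup G) :=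
    Q.2.to_le inf_le_left
  obtain ⟨k, hk⟩ := IsPGroup.iff_card.mp hDp
  have hk0 : k ≠ 0 := by
    rintro rfl
    rw [pow_zero] at hk
    exact hD (Subgroup.eq_bot_of_card_eq _ hk)
  have h3D : 3 ∣ Nat.card ((Q : Subgroup G) ⊓ (Q' : Subgroup G) : Subgroup G) := by
    rw [hk]; exact dvd_pow_self 3 hk0
  obtain ⟨z', hz'⟩ := exists_prime_orderOf_dvd_card' 3 h3D
  set z : G := (z' : G) with hzdef
  have hzo : orderOf z = 3 := by rw [hzdef, Subgroup.orderOf_coe]; exact hz'
  have hzQ : z ∈ (Q : Subgroup G) := (inf_le_left : (Q : Subgroup G) ⊓ Q' ≤ Q) z'.2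
  have hzQ' : z ∈ (Q' : Subgroup G) := (inf_le_right : (Q : Subgroup G) ⊓ Q' ≤ Q') z'.2
  -- the centraliser
  set C : Subgroup G := centralizer ({z} : Set G) with hC
  have hmemC : ∀ x : G, x ∈ C ↔ z * x = x * z := by
    intro x
    rw [hC, Subgroup.mem_centralizer_iff]
    simp
  have hcommQ := sylow3_comm hG Q
  have hcommQ' := sylow3_comm hG Q'
  have hQC : (Q : Subgroup G) ≤ C := by
    intro x hx
    rw [hmemC]
    have := hcommQ.is_comm.comm (⟨z, hzQ⟩ : (Q : Subgroup G)) ⟨x, hx⟩
    exact congrArg Subtype.val this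
  have hQ'C : (Q' : Subgroup G) ≤ C := by
    intro x hx
    rw [hmemC]
    have := hcommQ'.is_comm.comm (⟨z, hzQ'⟩ : (Q' : Subgroup G)) ⟨x, hx⟩
    exact congrArg Subtype.val this
  have hzC : z ∈ C := hQC hzQ
  have hCtop : C ≠ ⊤ := by
    intro ht
    have hzcen : z ∈ Subgroup.center G := by
      rw [Subgroup.mem_center_iff]
      intro g
      have : g ∈ C := ht ▸ Subgroup.mem_top g
      exact ((hmemC g).mp this).symm
    rw [simple_center_bot (by rw [hG]; norm_num), Subgroup.mem_bot] at hzcen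
    rw [hzcen, orderOf_one] at hzo
    omega
  -- the two Sylow subgroups of the centraliser
  set S1 : Sylow 3 C := Q.subtype hQC with hS1
  set S2 : Sylow 3 C := Q'.subtype hQ'C with hS2
  have hS12 : S1 ≠ S2 := fun h => hne (Sylow.subtype_injective h)
  have hS1c : Nat.card (S1 : Subgroup C) = 9 := by
    rw [hS1, Sylow.coe_subtype, Nat.card_congr (Subgroup.subgroupOfEquivOfLe hQC).toEquiv]
    exact card_sylow3 hG Q
  have hCc := Subgroup.card_mul_index C
  rw [hG] at hCc
  have hS1i := Subgroup.card_mul_index (S1 : Subgroup C)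
  rw [hS1c] at hS1i
  have hn1 : Nat.card (Sylow 3 C) ∣ (S1 : Subgroup C).index := S1.card_dvd_index
  have hn2 : Nat.card (Sylow 3 C) % 3 = 1 := card_sylow_modEq_one 3 C
  have hn3 : Nat.card (Sylow 3 C) ≠ 1 := by
    intro h
    have hsub : Subsingleton (Sylow 3 C) := (Nat.card_eq_one_iff_unique.mp h).1
    exact hS12 (Subsingleton.elim _ _)
  have hidx := simple_card_dvd_factorial C hCtop
  rw [hG] at hidx
  have hcard36 : Nat.card C = 36 := by
    have hk0 : (S1 : Subgroup C).index ≠ 0 := Subgroup.index_ne_zero_of_finite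
    have hi0 : C.index ≠ 0 := Subgroup.index_ne_zero_of_finite
    have hprod : (S1 : Subgroup C).index * C.index = 40 := by
      have : 9 * ((S1 : Subgroup C).index * C.index) = 9 * 40 := by rw [← mul_assoc, hS1i, hCc]
      omega
    have hkle : (S1 : Subgroup C).index ≤ 40 :=
      Nat.le_of_dvd (by norm_num) ⟨_, hprod.symm⟩
    have hile : C.index ≤ 40 :=
      Nat.le_of_dvd (by norm_num) ⟨_, by rw [mul_comm]; exact hprod.symm⟩
    have hnle : Nat.card (Sylow 3 C) ≤ 40 :=
      (Nat.le_of_dvd (Nat.pos_of_ne_zero hk0) hn1).trans hkle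
    have key1 : ∀ k ≤ 40, ∀ i ≤ 40, (k * i = 40 ∧ i ≠ 2 ∧ i ≠ 4 ∧ i ≠ 5 ∧ i ≠ 1) → k ≤ 5 := by
      decide
    have key2 : ∀ k ≤ 5, ∀ n ≤ 5, (k ≠ 0 ∧ n ∣ k ∧ n % 3 = 1 ∧ n ≠ 1) → k = 4 := by decide
    have hi1 : C.index ≠ 1 := fun h => hCtop (Subgroup.index_eq_one.mp h)
    have hi2 : C.index ≠ 2 := fun h => by rw [h] at hidx; revert hidx; decide
    have hi4 : C.index ≠ 4 := fun h => by rw [h] at hidx; revert hidx; decide
    have hi5 : C.index ≠ 5 := fun h => by rw [h] at hidx; revert hidx; decide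
    have hk5 := key1 _ hkle _ hile ⟨hprod, hi2, hi4, hi5, hi1⟩
    have := key2 _ hk5 _ ((Nat.le_of_dvd (Nat.pos_of_ne_zero hk0) hn1).trans hk5) ⟨hk0, hn1, hn2, hn3⟩
    rw [this] at hS1i
    omega
  -- the structure of the centraliser
  have hzcC : (⟨z, hzC⟩ : C) ∈ Subgroup.center C := by
    rw [Subgroup.mem_center_iff]
    rintro ⟨g, hg⟩
    apply Subtype.ext
    exact ((hmemC g).mp hg).symm
  have hzoC : orderOf (⟨z, hzC⟩ : C) = 3 := by
    rw [← hzo, ← Subgroup.orderOf_coe]
  rcases order36_normal hcard36 ⟨z, hzC⟩ hzoC hzcC with ⟨V, hVn, hV4⟩ | ⟨K, hKn, hK9⟩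
  · -- a normal subgroup of order 4 of the centraliser: its normaliser is too large
    set V' : Subgroup G := V.map C.subtype with hV'
    have hV'c : Nat.card V' = 4 := by
      rw [hV', Subgroup.card_map_of_injective C.subtype_injective, hV4]
    have hCN : C ≤ normalizer (V' : Set G) := by
      intro c hc
      rw [Subgroup.mem_normalizer_iff]
      intro v
      have aux : ∀ (c : G) (hc : c ∈ C) (v : G), v ∈ V' → c * v * c⁻¹ ∈ V' := by
        rintro c hc v ⟨w, hw, rfl⟩
        exact ⟨⟨c, hc⟩ * w * ⟨c, hc⟩⁻¹, hVn.conj_mem w hw ⟨c, hc⟩, rfl⟩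
      refine ⟨aux c hc v, fun h => ?_⟩
      have := aux c⁻¹ (C.inv_mem hc) _ h
      simpa [mul_assoc] using this
    obtain ⟨K8, hK8, hVK⟩ := Sylow.exists_subgroup_card_pow_succ (p := 2) (n := 2)
      (by rw [hG]; norm_num) (H := V') (by rw [hV'c]; norm_num)
    have hrel : (V'.subgroupOf K8).index = 2 := by
      have h1 := Subgroup.card_mul_index (V'.subgroupOf K8)
      rw [Nat.card_congr (Subgroup.subgroupOfEquivOfLe hVK).toEquiv, hV'c, hK8] at h1
      omega
    have : (V'.subgroupOf K8).Normal := Subgroup.normal_of_index_eq_two hrel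
    have hKN : K8 ≤ normalizer (V' : Set G) := Subgroup.le_normalizer_of_normal_subgroupOf hVK
    have h36 : 36 ∣ Nat.card (normalizer (V' : Set G)) := hcard36 ▸ Subgroup.card_dvd_of_le hCN
    have h8 : 8 ∣ Nat.card (normalizer (V' : Set G)) := by
      have := Subgroup.card_dvd_of_le hKN
      rw [hK8] at this
      exact this
    have hNc := Subgroup.card_mul_index (normalizer (V' : Set G))
    rw [hG] at hNc
    have h72 : 72 ∣ Nat.card (normalizer (V' : Set G)) := by omega
    have hNi : (normalizer (V' : Set G)).index = 1 ∨ (normalizer (V' : Set G)).index = 5 := by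
      obtain ⟨c, hc⟩ := h72
      rw [hc] at hNc
      have : c * (normalizer (V' : Set G)).index = 5 := by nlinarith
      have h5 : (normalizer (V' : Set G)).index ∣ 5 := ⟨c, by rw [← this]; ring⟩
      have := (Nat.dvd_prime (by norm_num : Nat.Prime 5)).mp h5
      exact this
    rcases hNi with h1 | h5
    · have htop : normalizer (V' : Set G) = ⊤ := Subgroup.index_eq_one.mp h1
      have hVn' : V'.Normal := normalizer_eq_top_iff.mp htop
      rcases simple_normal_card V' with h | h <;> omega
    · have hne' : normalizer (V' : Set G) ≠ ⊤ := by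
        intro ht
        rw [ht, Subgroup.index_top] at h5
        omega
      have := simple_card_dvd_factorial _ hne'
      rw [h5, hG] at this
      revert this; decide
  · -- a normal subgroup of order 9 of the centraliser: a unique Sylow 3-subgroup
    have hKp : IsPGroup 3 K := IsPGroup.of_card (n := 2) (by rw [hK9]; norm_num)
    obtain ⟨S, hKS⟩ := hKp.exists_le_sylow
    have hSc : Nat.card (S : Subgroup C) = 9 := by
      have := sylow_card_pow (p := 3) (k := 2) (m := 4) (by rw [hcard36]; norm_num) (by norm_num) S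
      simpa using this
    have hKS' : K = (S : Subgroup C) := Subgroup.eq_of_le_of_card_ge hKS (by rw [hSc, hK9])
    have hSn : (S : Subgroup C).Normal := hKS' ▸ hKn
    have := Sylow.unique_of_normal S hSn
    exact hS12 (Subsingleton.elim _ _)

end Cfsg.Agent.H51.PSL9
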