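import Mathlib
import Cfsg.Agent.H51.PSL9TI

/-! The action of a simple group of order 360 on its ten Sylow 3-subgroups: a Sylow 3-subgroup is
regular on the other nine, and the structure of a two-point stabiliser (helper51). -/

set_option autoImplicit false

namespace Cfsg.Agent.H51.PSL9

open Subgroup

variable {G : Type*} [Group G] [Finite G] [IsSimpleGroup G]

/-- A nontrivial element of a Sylow 3-subgroup normalises no other Sylow 3-subgroup. -/
theorem sylow3_free (hG : Nat.card G = 360) (Q Q' : Sylow 3 G) (hne : Q' ≠ Q) {q : G}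
    (hq : q ∈ (Q : Subgroup G)) (hfix : q • Q' = Q') : q = 1 := by
  have hN : q ∈ normalizer ((Q' : Subgroup G) : Set G) := Sylow.smul_eq_iff_mem_normalizer.mp hfix
  have h1 := IsPGroup.inf_normalizer_sylow Q.2 Q'
  have h2 : q ∈ (Q : Subgroup G) ⊓ (Q' : Subgroup G) := by
    rw [← h1]; exact ⟨hq, hN⟩
  rw [sylow3_inf_eq_bot hG Q Q' (Ne.symm hne)] at h2
  exact Subgroup.mem_bot.mp h2

omit [Finite G] [IsSimpleGroup G] in
theorem smul_self_of_mem (Q : Sylow 3 G) {q : G} (hq : q ∈ (Q : Subgroup G)) : q • Q = Q :=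
  Sylow.smul_eq_iff_mem_normalizer.mpr (le_normalizer hq)

/-- The action on the Sylow 3-subgroups is faithful. -/
theorem eq_one_of_forall_smul (hG : Nat.card G = 360) {g : G}
    (h : ∀ Q' : Sylow 3 G, g • Q' = Q') : g = 1 := by
  have hker : (MulAction.toPermHom G (Sylow 3 G)).ker = ⊥ := by
    rcases (MonoidHom.normal_ker (MulAction.toPermHom G (Sylow 3 G))).eq_bot_or_eq_top with h1 | h1
    · exact h1
    · exfalso
      have h10 := card_sylow3_eq hG
      obtain ⟨Q⟩ : Nonempty (Sylow 3 G) := inferInstance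
      have hall : ∀ Q' : Sylow 3 G, Q' = Q := by
        intro Q'
        obtain ⟨x, hx⟩ := MulAction.exists_smul_eq G Q Q'
        have hxk : x ∈ (MulAction.toPermHom G (Sylow 3 G)).ker := h1 ▸ Subgroup.mem_top x
        rw [MonoidHom.mem_ker] at hxk
        have h2 := congrArg (fun f : Equiv.Perm (Sylow 3 G) => f Q) hxk
        have h3 : x • Q = Q := h2
        rw [← hx, h3]
      have hsub : Subsingleton (Sylow 3 G) := ⟨fun a b => (hall a).trans (hall b).symm⟩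
      have := Finite.card_le_one_iff_subsingleton.mpr hsub
      omega
  have hg : g ∈ (MulAction.toPermHom G (Sylow 3 G)).ker := by
    rw [MonoidHom.mem_ker]
    refine Equiv.ext fun Q' => ?_
    exact h Q'
  rw [hker] at hg
  exact Subgroup.mem_bot.mp hg

/-- A Sylow 3-subgroup is transitive on the other nine. -/
theorem exists_smul_of_ne (hG : Nat.card G = 360) (Q Q0 : Sylow 3 G) (hne : Q0 ≠ Q)
    (Q' : Sylow 3 G) (hQ' : Q' ≠ Q) : ∃ q ∈ (Q : Subgroup G), q • Q0 = Q' := by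
  let e : Option (Q : Subgroup G) → Sylow 3 G := fun x =>
    match x with
    | none => Q
    | some q => (q : G) • Q0
  have he_inj : Function.Injective e := by
    rintro (_ | i) (_ | j) h
    · rfl
    · exfalso; apply hne
      have h' : Q = (j : G) • Q0 := h
      have h2 : Q0 = (j : G)⁻¹ • Q := eq_inv_smul_iff.mpr h'.symm
      exact h2.trans (inv_smul_eq_iff.mpr (smul_self_of_mem Q j.2).symm)
    · exfalso; apply hne
      have h' : (i : G) • Q0 = Q := h
      have h2 : Q0 = (i : G)⁻¹ • Q := eq_inv_smul_iff.mpr h'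
      exact h2.trans (inv_smul_eq_iff.mpr (smul_self_of_mem Q i.2).symm)
    · have h' : (i : G) • Q0 = (j : G) • Q0 := h
      have h1 : ((j : G)⁻¹ * i) • Q0 = Q0 := by rw [mul_smul, h', inv_smul_smul]
      have h2 := sylow3_free hG Q Q0 hne (mul_mem (inv_mem j.2) i.2) h1
      have h3 : (i : G) = j := by
        rw [inv_mul_eq_one] at h2; exact h2.symm
      exact congrArg some (Subtype.ext h3)
  have hcard : Nat.card (Option (Q : Subgroup G)) = Nat.card (Sylow 3 G) := by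
    rw [card_sylow3_eq hG, Finite.card_option, card_sylow3 hG Q]
  have he_bij := (Nat.bijective_iff_injective_and_card e).mpr ⟨he_inj, hcard⟩
  obtain ⟨x, hx⟩ := he_bij.2 Q'
  rcases x with _ | q
  · exact absurd hx.symm hQ'
  · exact ⟨q, q.2, hx⟩

/-- An element fixing two Sylow 3-subgroups and centralising one of them is trivial. -/
theorem eq_one_of_centralizes (hG : Nat.card G = 360) (Q Q0 : Sylow 3 G) (hne : Q0 ≠ Q) {t : G}
    (htQ : t • Q = Q) (htQ0 : t • Q0 = Q0) (hc : ∀ q ∈ (Q : Subgroup G), t * q = q * t) :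
    t = 1 := by
  apply eq_one_of_forall_smul hG
  intro Q'
  by_cases h : Q' = Q
  · rw [h, htQ]
  · obtain ⟨q, hq, rfl⟩ := exists_smul_of_ne hG Q Q0 hne Q' h
    rw [← mul_smul, hc q hq, mul_smul, htQ0]

/-- The two-point stabiliser has order four. -/
theorem exists_two_point_stab (hG : Nat.card G = 360) (Q Q0 : Sylow 3 G) (hne : Q0 ≠ Q) :
    ∃ s g : G, s • Q = Q ∧ s • Q0 = Q0 ∧ g • Q = Q ∧ g • Q0 = Q0 ∧ s ≠ 1 ∧ s ^ 2 = 1 ∧ g ≠ 1 ∧
      g ≠ s ∧ g ^ 4 = 1 := by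
  have : Fact (Nat.Prime 2) := ⟨by norm_num⟩
  set N : Subgroup G := MulAction.stabilizer G Q with hN
  have hNc : Nat.card N = 36 := by
    have h1 := MulAction.index_stabilizer_of_transitive G Q
    have h2 := Subgroup.card_mul_index N
    rw [h1, card_sylow3_eq hG, hG] at h2
    omega
  set T : Subgroup N := MulAction.stabilizer N Q0 with hT
  have hTc : Nat.card T = 4 := by
    have h1 := MulAction.index_stabilizer N Q0
    have h2 := Subgroup.card_mul_index T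
    have h3 : MulAction.orbit N Q0 = {Q}ᶜ := by
      ext Q'
      constructor
      · rintro ⟨n, rfl⟩ hQ
        apply hne
        have hn : (n : G) • Q = Q := n.2
        have h' : (n : G) • Q0 = Q := hQ
        have h2 : Q0 = (n : G)⁻¹ • Q := eq_inv_smul_iff.mpr h'
        exact h2.trans (inv_smul_eq_iff.mpr hn.symm)
      · intro hQ'
        obtain ⟨q, hq, rfl⟩ := exists_smul_of_ne hG Q Q0 hne Q' hQ'
        exact ⟨⟨q, smul_self_of_mem Q hq⟩, rfl⟩
    rw [h1, h3, Set.ncard_compl, Set.ncard_singleton, card_sylow3_eq hG, hNc] at h2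
    omega
  obtain ⟨s, hs⟩ := exists_prime_orderOf_dvd_card' (G := T) 2 (by rw [hTc]; norm_num)
  have hs1 : s ≠ 1 := by
    rintro rfl
    rw [orderOf_one] at hs
    omega
  have hs2 : s ^ 2 = 1 := by rw [← hs]; exact pow_orderOf_eq_one s
  obtain ⟨g, hg1, hgs⟩ : ∃ g : T, g ≠ 1 ∧ g ≠ s := by
    by_contra hcon
    push Not at hcon
    classical
    have : Fintype T := Fintype.ofFinite T
    have hsub : (Finset.univ : Finset T) ⊆ {1, s} := by
      intro g _
      by_cases hg : g = 1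
      · simp [hg]
      · simp [hcon g hg]
    have h1 := Finset.card_le_card hsub
    have h2 : ({1, s} : Finset T).card ≤ 2 := Finset.card_le_two
    rw [Finset.card_univ, ← Nat.card_eq_fintype_card, hTc] at h1
    omega
  have hg4 : g ^ 4 = 1 := by rw [← hTc]; exact pow_card_eq_one'
  refine ⟨((s : N) : G), ((g : N) : G), (s : N).2, s.2, (g : N).2, g.2, ?_, ?_, ?_, ?_, ?_⟩
  · intro h
    apply hs1
    exact Subtype.ext (Subtype.ext h)
  · have := congrArg (fun x : T => ((x : N) : G)) hs2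
    simpa using this
  · intro h
    apply hg1
    exact Subtype.ext (Subtype.ext h)
  · intro h
    apply hgs
    exact Subtype.ext (Subtype.ext h)
  · have := congrArg (fun x : T => ((x : N) : G)) hg4
    simpa using this

theorem exists_pow_order3 (hG : Nat.card G = 360) (Q : Sylow 3 G) {x : G}
    (hx : x ∈ (Q : Subgroup G)) (hx1 : x ≠ 1) : ∃ k : ℕ, x ^ k ≠ 1 ∧ (x ^ k) ^ 3 = 1 := by
  have h9 : x ^ 9 = 1 := by
    have hc := card_sylow3 hG Q
    have h := pow_card_eq_one' (G := (Q : Subgroup G)) (x := ⟨x, hx⟩)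
    rw [hc] at h
    have := congrArg (fun y : (Q : Subgroup G) => (y : G)) h
    simpa using this
  by_cases h3 : x ^ 3 = 1
  · exact ⟨1, by simpa using hx1, by simpa using h3⟩
  · exact ⟨3, h3, by rw [← pow_mul]; exact h9⟩

/-- The structure of the two-point stabiliser: either it contains a reflection, or an element whose
square inverts the Sylow 3-subgroup. -/
theorem exists_data (hG : Nat.card G = 360) (Q Q0 : Sylow 3 G) (hne : Q0 ≠ Q) :
    (∃ s a b : G, s • Q = Q ∧ s • Q0 = Q0 ∧ a ∈ (Q : Subgroup G) ∧ b ∈ (Q : Subgroup G) ∧ a ≠ 1 ∧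
        b ≠ 1 ∧ a ^ 3 = 1 ∧ b ^ 3 = 1 ∧ s * a * s⁻¹ = a ∧ s * b * s⁻¹ = b⁻¹) ∨
    (∃ g a : G, g • Q = Q ∧ g • Q0 = Q0 ∧ a ∈ (Q : Subgroup G) ∧ a ≠ 1 ∧ a ^ 3 = 1 ∧
        ∀ q ∈ (Q : Subgroup G), g * (g * q * g⁻¹) * g⁻¹ = q⁻¹) := by
  have hcomm := sylow3_comm hG Q
  have hcm : ∀ x ∈ (Q : Subgroup G), ∀ y ∈ (Q : Subgroup G), x * y = y * x := by
    intro x hx y hy
    exact congrArg Subtype.val (hcomm.is_comm.comm (⟨x, hx⟩ : (Q : Subgroup G)) ⟨y, hy⟩)
  have hconj : ∀ t : G, t • Q = Q → ∀ q ∈ (Q : Subgroup G), t * q * t⁻¹ ∈ (Q : Subgroup G) := by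
    intro t ht q hq
    have h1 : t ∈ normalizer ((Q : Subgroup G) : Set G) := Sylow.smul_eq_iff_mem_normalizer.mp ht
    exact (Subgroup.mem_normalizer_iff.mp h1 q).mp hq
  obtain ⟨s, g, hsQ, hsQ0, hgQ, hgQ0, hs1, hs2, hg1, hgs, hg4⟩ := exists_two_point_stab hG Q Q0 hne
  have hinv : ∀ s : G, s • Q = Q → s • Q0 = Q0 → s ≠ 1 → s ^ 2 = 1 →
      (∃ q ∈ (Q : Subgroup G), s * q * s⁻¹ ≠ q⁻¹) →
      ∃ a b : G, a ∈ (Q : Subgroup G) ∧ b ∈ (Q : Subgroup G) ∧ a ≠ 1 ∧ b ≠ 1 ∧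
        a ^ 3 = 1 ∧ b ^ 3 = 1 ∧ s * a * s⁻¹ = a ∧ s * b * s⁻¹ = b⁻¹ := by
    rintro s hsQ hsQ0 hs1 hs2 ⟨q, hq, hqs⟩
    have hss : s * s = 1 := by rw [← sq]; exact hs2
    have hsinv : s⁻¹ = s := inv_eq_of_mul_eq_one_right hss
    have hdouble : ∀ x : G, s * (s * x * s⁻¹) * s⁻¹ = x := by
      intro x
      rw [hsinv]
      calc s * (s * x * s) * s = (s * s) * x * (s * s) := by group
        _ = x := by rw [hss]; group
    have hq'Q : s * q * s⁻¹ ∈ (Q : Subgroup G) := hconj s hsQ q hq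
    have ha0 : q * (s * q * s⁻¹) ≠ 1 := by
      intro h
      exact hqs (eq_inv_of_mul_eq_one_right h)
    have ha0s : s * (q * (s * q * s⁻¹)) * s⁻¹ = q * (s * q * s⁻¹) := by
      calc s * (q * (s * q * s⁻¹)) * s⁻¹ = (s * q * s⁻¹) * (s * (s * q * s⁻¹) * s⁻¹) := by group
        _ = (s * q * s⁻¹) * q := by rw [hdouble]
        _ = q * (s * q * s⁻¹) := hcm _ hq'Q _ hq
    have hnc : ∃ r ∈ (Q : Subgroup G), s * r ≠ r * s := by
      by_contra hcon
      push Not at hcon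
      exact hs1 (eq_one_of_centralizes hG Q Q0 hne hsQ hsQ0 hcon)
    obtain ⟨r, hr, hrs⟩ := hnc
    have hr'Q : s * r * s⁻¹ ∈ (Q : Subgroup G) := hconj s hsQ r hr
    have hb0 : r * (s * r * s⁻¹)⁻¹ ≠ 1 := by
      intro h
      apply hrs
      have h1 : r = s * r * s⁻¹ := mul_inv_eq_one.mp h
      calc s * r = (s * r * s⁻¹) * s := by group
        _ = r * s := by rw [← h1]
    have hb0s : s * (r * (s * r * s⁻¹)⁻¹) * s⁻¹ = (r * (s * r * s⁻¹)⁻¹)⁻¹ := by
      calc s * (r * (s * r * s⁻¹)⁻¹) * s⁻¹ = (s * r * s⁻¹) * (s * (s * r * s⁻¹) * s⁻¹)⁻¹ := by group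
        _ = (s * r * s⁻¹) * r⁻¹ := by rw [hdouble]
        _ = (r * (s * r * s⁻¹)⁻¹)⁻¹ := by group
    obtain ⟨k, hk1, hk3⟩ := exists_pow_order3 hG Q (mul_mem hq hq'Q) ha0
    obtain ⟨l, hl1, hl3⟩ := exists_pow_order3 hG Q (mul_mem hr (inv_mem hr'Q)) hb0
    refine ⟨(q * (s * q * s⁻¹)) ^ k, (r * (s * r * s⁻¹)⁻¹) ^ l, pow_mem (mul_mem hq hq'Q) _,
      pow_mem (mul_mem hr (inv_mem hr'Q)) _, hk1, hl1, hk3, hl3, ?_, ?_⟩
    · rw [← conj_pow, ha0s]
    · rw [← conj_pow, hb0s, inv_pow]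
  by_cases hA : ∃ s : G, s • Q = Q ∧ s • Q0 = Q0 ∧ s ≠ 1 ∧ s ^ 2 = 1 ∧
      ∃ q ∈ (Q : Subgroup G), s * q * s⁻¹ ≠ q⁻¹
  · left
    obtain ⟨s, h1, h2, h3, h4, h5⟩ := hA
    obtain ⟨a, b, h⟩ := hinv s h1 h2 h3 h4 h5
    exact ⟨s, a, b, h1, h2, h⟩
  · right
    push Not at hA
    have huniq : ∀ s' : G, s' • Q = Q → s' • Q0 = Q0 → s' ≠ 1 → s' ^ 2 = 1 → s' = s := by
      intro s' h1 h2 h3 h4
      have hi' := hA s' h1 h2 h3 h4
      have hi := hA s hsQ hsQ0 hs1 hs2
      have hc : ∀ q ∈ (Q : Subgroup G), (s' * s⁻¹) * q = q * (s' * s⁻¹) := by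
        intro q hq
        have e1 : s⁻¹ * q * s = q⁻¹ := by
          have := hi q⁻¹ (inv_mem hq)
          rw [inv_inv] at this
          calc s⁻¹ * q * s = s⁻¹ * (s * q⁻¹ * s⁻¹) * s := by rw [this]
            _ = q⁻¹ := by group
        have e2 := hi' q⁻¹ (inv_mem hq)
        rw [inv_inv] at e2
        calc s' * s⁻¹ * q = s' * (s⁻¹ * q * s) * s⁻¹ := by group
          _ = s' * q⁻¹ * s⁻¹ := by rw [e1]
          _ = (s' * q⁻¹ * s'⁻¹) * (s' * s⁻¹) := by group
          _ = q * (s' * s⁻¹) := by rw [e2]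
      have := eq_one_of_centralizes hG Q Q0 hne (t := s' * s⁻¹)
        (by rw [mul_smul, inv_smul_eq_iff.mpr hsQ.symm, h1])
        (by rw [mul_smul, inv_smul_eq_iff.mpr hsQ0.symm, h2]) hc
      exact mul_inv_eq_one.mp this
    have hg2 : g ^ 2 ≠ 1 := by
      intro h
      exact hgs (huniq g hgQ hgQ0 hg1 h)
    have hg2s : g ^ 2 = s := huniq (g ^ 2) (by rw [sq, mul_smul, hgQ, hgQ])
      (by rw [sq, mul_smul, hgQ0, hgQ0]) hg2 (by rw [← pow_mul]; exact hg4)
    obtain ⟨a0, ha0Q, ha01⟩ : ∃ a ∈ (Q : Subgroup G), a ≠ 1 := by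
      by_contra hcon
      push Not at hcon
      have hbot : (Q : Subgroup G) = ⊥ := (Subgroup.eq_bot_iff_forall _).mpr hcon
      have h9 := card_sylow3 hG Q
      rw [hbot, Subgroup.card_bot] at h9
      omega
    obtain ⟨k, hk1, hk3⟩ := exists_pow_order3 hG Q ha0Q ha01
    refine ⟨g, a0 ^ k, hgQ, hgQ0, pow_mem ha0Q _, hk1, hk3, ?_⟩
    intro q hq
    have := hA s hsQ hsQ0 hs1 hs2 q hq
    rw [← hg2s] at this
    calc g * (g * q * g⁻¹) * g⁻¹ = g ^ 2 * q * (g ^ 2)⁻¹ := by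
          rw [sq, mul_inv_rev]; simp only [mul_assoc]
      _ = q⁻¹ := this

end Cfsg.Agent.H51.PSL9
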