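import Mathlib
import Cfsg.Agent.H51.PSLQDefs

/-! Affine permutations of the projective line over a finite field and the permutation `x ↦ -1/x`
(helper51). -/

set_option autoImplicit false

namespace Cfsg.Agent.H51.PSLQ

variable {K : Type*} [Field K]

@[simp] theorem affF_none (k i : K) : affF k i none = none := rfl
@[simp] theorem affF_some (k i x : K) : affF k i (some x) = some (k * x + i) := rfl

/-- The affine permutation `x ↦ k x + i`. -/
def affP (k : Kˣ) (i : K) : Equiv.Perm (Option K) where
  toFun := affF (k : K) i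
  invFun := affF ((k⁻¹ : Kˣ) : K) (-(((k⁻¹ : Kˣ) : K) * i))
  left_inv := by
    rintro (_ | x)
    · rfl
    · simp only [affF_some, Option.some.injEq]
      have h : ((k⁻¹ : Kˣ) : K) * (k : K) = 1 := k.inv_mul
      linear_combination x * h
  right_inv := by
    rintro (_ | x)
    · rfl
    · simp only [affF_some, Option.some.injEq]
      have h : (k : K) * ((k⁻¹ : Kˣ) : K) = 1 := k.mul_inv
      linear_combination (x - i) * h

@[simp] theorem affP_none (k : Kˣ) (i : K) : affP k i none = none := rfl
@[simp] theorem affP_some (k : Kˣ) (i x : K) : affP k i (some x) = some ((k : K) * x + i) := rfl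

theorem affP_coe (k : Kˣ) (i : K) : ⇑(affP k i) = affF (k : K) i := rfl

theorem affP_mul (k k' : Kˣ) (i i' : K) :
    affP k i * affP k' i' = affP (k * k') ((k : K) * i' + i) := by
  refine Equiv.ext fun x => ?_
  rcases x with _ | x
  · rfl
  · simp only [Equiv.Perm.coe_mul, Function.comp_apply, affP_some, Units.val_mul]
    exact congrArg some (by ring)

theorem affP_one : affP (1 : Kˣ) (0 : K) = 1 := by
  refine Equiv.ext fun x => ?_
  rcases x with _ | x
  · rfl
  · simp

theorem affP_inj {k k' : Kˣ} {i i' : K} (h : affP k i = affP k' i') : k = k' ∧ i = i' := by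
  have h0 := congrArg (fun f : Equiv.Perm (Option K) => f (some 0)) h
  have h1 := congrArg (fun f : Equiv.Perm (Option K) => f (some 1)) h
  simp only [affP_some, mul_zero, zero_add, Option.some.injEq, mul_one] at h0 h1
  subst h0
  exact ⟨Units.ext (by simpa using h1), rfl⟩

theorem affP_pow_zero (k : Kˣ) (n : ℕ) : affP k (0 : K) ^ n = affP (k ^ n) 0 := by
  induction n with
  | zero => simp [affP_one]
  | succ n ih => rw [pow_succ, ih, affP_mul, pow_succ]; simp

theorem affP_one_inv (i : K) : (affP (1 : Kˣ) i)⁻¹ = affP 1 (-i) := by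
  apply inv_eq_of_mul_eq_one_right
  rw [affP_mul]
  simp [affP_one]

theorem affP_trans_mul (i j : K) : affP (1 : Kˣ) i * affP 1 j = affP 1 (i + j) := by
  rw [affP_mul]; simp [add_comm]

variable [Fintype K] [DecidableEq K]

theorem tF_some_ne {e : ℕ} (he : e + 2 = Fintype.card K) {x : K} (hx : x ≠ 0) :
    tF e (some x) = some (-x⁻¹) := by
  have h1 : x ^ e * x = 1 := by
    rw [← pow_succ]
    have : e + 1 = Fintype.card K - 1 := by omega
    rw [this]
    exact FiniteField.pow_card_sub_one_eq_one x hx
  have h2 : x ^ e = x⁻¹ := eq_inv_of_mul_eq_one_left h1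
  simp [tF, hx, h2]

theorem tF_involutive {e : ℕ} (he : e + 2 = Fintype.card K) : Function.Involutive (tF (K := K) e) := by
  rintro (_ | x)
  · simp [tF]
  · by_cases hx : x = 0
    · subst hx; simp [tF]
    · rw [tF_some_ne he hx, tF_some_ne he (neg_ne_zero.mpr (inv_ne_zero hx))]
      simp

/-- The permutation `x ↦ -1/x`. -/
def tP {e : ℕ} (he : e + 2 = Fintype.card K) : Equiv.Perm (Option K) := (tF_involutive he).toPerm

theorem tP_coe {e : ℕ} (he : e + 2 = Fintype.card K) : ⇑(tP he) = tF (K := K) e := rfl

theorem tP_none {e : ℕ} (he : e + 2 = Fintype.card K) : tP he none = some (0 : K) := rfl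

end Cfsg.Agent.H51.PSLQ
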