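import Mathlib
import Cfsg.Agent.H51.PSLQAff

/-! Recognition of `PSL₂(q)` on the projective line over a finite field `K` of odd order: a simple
permutation group of the right order containing the translations and the multiplications by squares,
and transitive, is a fixed subgroup (helper51). -/

set_option autoImplicit false

namespace Cfsg.Agent.H51.PSLQ

open MulAction

variable {K : Type*} [Field K] [Fintype K] [DecidableEq K]

/-- The hypotheses of the concrete recognition theorem. -/
structure Setup (K : Type*) [Field K] [Fintype K] [DecidableEq K] (e m : ℕ) (k0u : Kˣ) (n0 n0i : K)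
    (H : Subgroup (Equiv.Perm (Option K))) : Prop where
  h1 : Check1 K e m (k0u : K) n0 n0i
  h3 : Check3 K e m (k0u : K) n0i
  card : Nat.card H = (Fintype.card K + 1) * Fintype.card K * m
  simple : IsSimpleGroup H
  htr : ∀ w : K, affP 1 w ∈ H
  hd : affP k0u 0 ∈ H
  hT : ∃ h ∈ H, h none = some 0

variable {e m : ℕ} {k0u : Kˣ} {n0 n0i : K} {H : Subgroup (Equiv.Perm (Option K))}

theorem Setup.card_stab (S : Setup K e m k0u n0 n0i H) :
    Nat.card (stabilizer H (none : Option K)) = Fintype.card K * m := by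
  have : IsPretransitive H (Option K) := by
    obtain ⟨h, hh, hh0⟩ := S.hT
    have key : ∀ x : Option K, ∃ g : H, g • (none : Option K) = x := by
      rintro (_ | i)
      · exact ⟨1, one_smul _ _⟩
      · refine ⟨⟨affP 1 i * h, H.mul_mem (S.htr i) hh⟩, ?_⟩
        change (affP 1 i * h) none = some i
        rw [Equiv.Perm.mul_apply, hh0, affP_some]; simp
    refine ⟨fun x y => ?_⟩
    obtain ⟨gx, hgx⟩ := key x
    obtain ⟨gy, hgy⟩ := key y
    exact ⟨gy * gx⁻¹, by rw [mul_smul, ← hgx, inv_smul_smul, hgy]⟩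
  have h1 := index_stabilizer_of_transitive H (none : Option K)
  have h2 := Subgroup.card_mul_index (stabilizer H (none : Option K))
  rw [h1, S.card] at h2
  have h3 : Nat.card (Option K) = Fintype.card K + 1 := by
    rw [Nat.card_eq_fintype_card, Fintype.card_option]
  rw [h3] at h2
  have h4 : 0 < Fintype.card K + 1 := Nat.succ_pos _
  have h5 : Nat.card (stabilizer H (none : Option K)) * (Fintype.card K + 1)
      = (Fintype.card K * m) * (Fintype.card K + 1) := by
    rw [h2]; ring
  exact Nat.eq_of_mul_eq_mul_right h4 h5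

theorem Setup.affP_mem (S : Setup K e m k0u n0 n0i H) (l : ℕ) (i : K) : affP (k0u ^ l) i ∈ H := by
  have : affP (k0u ^ l) i = affP 1 i * affP k0u 0 ^ l := by
    rw [affP_pow_zero, affP_mul]; simp
  rw [this]
  exact H.mul_mem (S.htr i) (H.pow_mem S.hd _)

theorem Setup.aff_of_fix (S : Setup K e m k0u n0 n0i H) {w : Equiv.Perm (Option K)} (hw : w ∈ H)
    (hw0 : w none = none) : ∃ l < m, ∃ i, w = affP (k0u ^ l) i := by
  obtain ⟨-, -, -, -, -, -, -, -, -, hinjk⟩ := S.h1
  let F : Fin m × K → stabilizer H (none : Option K) := fun li =>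
    ⟨⟨affP (k0u ^ (li.1 : ℕ)) li.2, S.affP_mem _ _⟩, by
      change affP (k0u ^ (li.1 : ℕ)) li.2 none = none
      rfl⟩
  have hinj : Function.Injective F := by
    rintro ⟨l, i⟩ ⟨l', i'⟩ h
    have h1 : affP (k0u ^ (l : ℕ)) i = affP (k0u ^ (l' : ℕ)) i' :=
      congrArg (fun z : stabilizer H (none : Option K) => ((z : H) : Equiv.Perm (Option K))) h
    obtain ⟨h2, h3⟩ := affP_inj h1
    have h4 : (k0u : K) ^ (l : ℕ) = (k0u : K) ^ (l' : ℕ) := by
      have := congrArg (fun u : Kˣ => (u : K)) h2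
      simpa [Units.val_pow_eq_pow_val] using this
    have h5 := hinjk l l.2 l' l'.2 h4
    exact Prod.ext (Fin.ext h5) h3
  have hcard : Nat.card (Fin m × K) = Nat.card (stabilizer H (none : Option K)) := by
    rw [S.card_stab, Nat.card_prod, Nat.card_fin, Nat.card_eq_fintype_card, mul_comm]
  have hbij := (Nat.bijective_iff_injective_and_card F).mpr ⟨hinj, hcard⟩
  obtain ⟨⟨l, i⟩, hli⟩ := hbij.2 ⟨⟨w, hw⟩, hw0⟩
  refine ⟨l, l.2, i, ?_⟩
  have := congrArg (fun z : stabilizer H (none : Option K) => ((z : H) : Equiv.Perm (Option K))) hli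
  exact this.symm

theorem Setup.mem_closure (S : Setup K e m k0u n0 n0i H) {s : Equiv.Perm (Option K)} (hs : s ∈ H)
    (hs0 : s none = some 0) {h : Equiv.Perm (Option K)} (hh : h ∈ H) :
    h ∈ Subgroup.closure (Set.range (affP (1 : Kˣ)) ∪ {affP k0u 0, s}) := by
  set C := Subgroup.closure (Set.range (affP (1 : Kˣ)) ∪ {affP k0u 0, s}) with hC
  have hcC : ∀ i : K, affP 1 i ∈ C := fun i => Subgroup.subset_closure (Or.inl ⟨i, rfl⟩)
  have hdC : affP k0u 0 ∈ C := Subgroup.subset_closure (Or.inr (by simp))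
  have hsC : s ∈ C := Subgroup.subset_closure (Or.inr (by simp))
  have claim : ∀ w ∈ H, w none = none → w ∈ C := by
    intro w hw hw0
    obtain ⟨l, -, i, rfl⟩ := S.aff_of_fix hw hw0
    have : affP (k0u ^ l) i = affP 1 i * affP k0u 0 ^ l := by
      rw [affP_pow_zero, affP_mul]; simp
    rw [this]
    exact C.mul_mem (hcC i) (C.pow_mem hdC _)
  rcases h0 : h none with _ | y
  · exact claim h hh h0
  · have h' : s⁻¹ * (affP 1 y)⁻¹ * h ∈ C := by
      apply claim
      · exact H.mul_mem (H.mul_mem (H.inv_mem hs) (H.inv_mem (S.htr y))) hh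
      · rw [Equiv.Perm.mul_apply, Equiv.Perm.mul_apply, h0, affP_one_inv, affP_some]
        simp only [Units.val_one, one_mul, add_neg_cancel]
        rw [Equiv.Perm.inv_eq_iff_eq]; exact hs0.symm
    have : h = affP 1 y * s * (s⁻¹ * (affP 1 y)⁻¹ * h) := by group
    rw [this]
    exact C.mul_mem (C.mul_mem (hcC y) hsC) h'

theorem Setup.exists_swap (S : Setup K e m k0u n0 n0i H) :
    ∃ t ∈ H, t none = some 0 ∧ t (some 0) = none := by
  obtain ⟨h, hh, hh0⟩ := S.hT
  have h1 : h⁻¹ (some 0) = none := by rw [Equiv.Perm.inv_eq_iff_eq]; exact hh0.symm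
  rcases h2 : h⁻¹ none with _ | y
  · exfalso
    have h3 : h none = none := ((Equiv.Perm.inv_eq_iff_eq).mp h2).symm
    rw [hh0] at h3; simp at h3
  · refine ⟨(affP 1 y)⁻¹ * h⁻¹, H.mul_mem (H.inv_mem (S.htr y)) (H.inv_mem hh), ?_, ?_⟩
    · rw [Equiv.Perm.mul_apply, h2, affP_one_inv, affP_some]; simp
    · rw [Equiv.Perm.mul_apply, h1, affP_one_inv, affP_none]

theorem Setup.eq_cand (S : Setup K e m k0u n0 n0i H) {t : Equiv.Perm (Option K)} (ht : t ∈ H)
    (ht1 : t none = some 0) (ht2 : t (some 0) = none) :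
    ∃ j < m, ∃ a b : K, ⇑t = candF m n0i j a b := by
  obtain ⟨he, hpm, hm1, hk0m, hk01, hn0, hn0m, hC4, hC2, -⟩ := S.h1
  have hd := S.hd
  have hti1 : t⁻¹ none = some 0 := by rw [Equiv.Perm.inv_eq_iff_eq]; exact ht2.symm
  have hti2 : t⁻¹ (some 0) = none := by rw [Equiv.Perm.inv_eq_iff_eq]; exact ht1.symm
  have hU : t * affP k0u 0 * t⁻¹ ∈ H := H.mul_mem (H.mul_mem ht hd) (H.inv_mem ht)
  have hU0 : (t * affP k0u 0 * t⁻¹) none = none := by
    simp only [Equiv.Perm.mul_apply, hti1, affP_some, mul_zero, zero_add, ht2]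
  obtain ⟨j, hj, i, hUa⟩ := S.aff_of_fix hU hU0
  have hi : i = 0 := by
    have := congrArg (fun f : Equiv.Perm (Option K) => f (some 0)) hUa
    simp only [Equiv.Perm.mul_apply, hti2, affP_none, ht1, affP_some, mul_zero, zero_add,
      Option.some.injEq] at this
    exact this.symm
  subst hi
  have hrel : ∀ z, t (affP k0u 0 z) = affP (k0u ^ j) 0 (t z) := by
    intro z
    have : t * affP k0u 0 = affP (k0u ^ j) 0 * t := by rw [← hUa]; group
    exact congrArg (fun f : Equiv.Perm (Option K) => f z) this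
  have hsome : ∀ x : K, x ≠ 0 → ∃ y, t (some x) = some y := by
    intro x hx
    rcases h : t (some x) with _ | y
    · exact absurd (Option.some.inj (t.injective (h.trans ht2.symm))) hx
    · exact ⟨y, rfl⟩
  let τ : K → K := fun x => (t (some x)).getD 0
  have hτ : ∀ x, x ≠ 0 → t (some x) = some (τ x) := by
    intro x hx; obtain ⟨y, hy⟩ := hsome x hx; simp [τ, hy]
  have hk0ne : (k0u : K) ≠ 0 := k0u.ne_zero
  have hτk : ∀ x, x ≠ 0 → τ (k0u * x) = (k0u : K) ^ j * τ x := by
    intro x hx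
    have := hrel (some x)
    rw [affP_some, add_zero, hτ _ (mul_ne_zero hk0ne hx), hτ x hx, affP_some, add_zero] at this
    simpa [Units.val_pow_eq_pow_val] using this
  have hn0ne : n0 ≠ 0 := by
    rintro rfl
    rw [zero_mul] at hn0
    exact zero_ne_one hn0
  have hres : ∀ l : ℕ, τ ((k0u : K) ^ l) = ((k0u : K) ^ j) ^ l * τ 1 := by
    intro l
    induction l with
    | zero => simp
    | succ l ih => rw [pow_succ', hτk _ (pow_ne_zero _ hk0ne), ih, pow_succ']; ring
  have hnon : ∀ l : ℕ, τ (n0 * (k0u : K) ^ l) = ((k0u : K) ^ j) ^ l * τ n0 := by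
    intro l
    induction l with
    | zero => simp
    | succ l ih =>
      have : n0 * (k0u : K) ^ (l + 1) = k0u * (n0 * (k0u : K) ^ l) := by ring
      rw [this, hτk _ (mul_ne_zero hn0ne (pow_ne_zero _ hk0ne)), ih, pow_succ']; ring
  refine ⟨j, hj, τ 1, τ n0, ?_⟩
  funext x
  rcases x with _ | x
  · exact ht1
  · by_cases hx : x = 0
    · subst hx; rw [ht2]; simp [candF]
    · rw [hτ x hx]
      by_cases hxm : x ^ m = 1
      · obtain ⟨l, -, rfl⟩ := hC4 x hxm
        rw [hres]
        simp only [candF, if_neg hx, if_pos hxm]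
        exact congrArg some (by ring)
      · obtain ⟨l, -, rfl⟩ := hC2 x hx hxm
        rw [hnon]
        simp only [candF, if_neg hx, if_neg hxm]
        have : n0 * (k0u : K) ^ l * n0i = (k0u : K) ^ l := by
          linear_combination (k0u : K) ^ l * hn0
        rw [this]
        exact congrArg some (by ring)

theorem Setup.isAffAt (S : Setup K e m k0u n0 n0i H) {t : Equiv.Perm (Option K)} (ht : t ∈ H)
    (ht1 : t none = some 0) (ht2 : t (some 0) = none) (i : K) (hi : i ≠ 0) :
    IsAffAt m ⇑t i := by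
  obtain ⟨he, hpm, hm1, hk0m, hk01, hn0, hn0m, hC4, hC2, -⟩ := S.h1
  obtain ⟨y, hy⟩ : ∃ y, t (some i) = some y := by
    rcases h : t (some i) with _ | y
    · exact absurd (Option.some.inj (t.injective (h.trans ht2.symm))) hi
    · exact ⟨y, rfl⟩
  set W := t * (affP 1 y)⁻¹ * t * affP 1 i * t with hW
  have hWH : W ∈ H :=
    H.mul_mem (H.mul_mem (H.mul_mem (H.mul_mem ht (H.inv_mem (S.htr y))) ht) (S.htr i)) ht
  have hWf : ∀ x, wF ⇑t i x = W x := by
    intro x
    simp only [wF, hy, Option.getD_some, hW, Equiv.Perm.mul_apply, affP_one_inv, affP_coe,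
      Units.val_one]
  have hW0 : W none = none := by
    rw [← hWf]; simp [wF, ht1, hy, ht2]
  obtain ⟨l, hl, i', hWa⟩ := S.aff_of_fix hWH hW0
  have hg : ∀ x, gF ⇑t i x = (k0u : K) ^ l * x + i' := by
    intro x; simp [gF, hWf, hWa, Units.val_pow_eq_pow_val]
  have hkl : ((k0u : K) ^ l) ^ m = 1 := by rw [← pow_mul, mul_comm, pow_mul, hk0m, one_pow]
  constructor
  · rw [hg, hg]
    have : (k0u : K) ^ l * 1 + i' - ((k0u : K) ^ l * 0 + i') = (k0u : K) ^ l := by ring
    rw [this, hkl]
  · intro x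
    rw [hWf, hWa, hg, hg, affP_some]
    exact congrArg some (by simp [Units.val_pow_eq_pow_val])

end Cfsg.Agent.H51.PSLQ
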