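import Mathlib
import Cfsg.Agent.H51.PSLQConc

/-! Recognition of `PSL₂(q)` on the projective line over a finite field, second part (helper51). -/

set_option autoImplicit false

namespace Cfsg.Agent.H51.PSLQ

open MulAction

variable {K : Type*} [Field K] [Fintype K] [DecidableEq K]
variable {e m : ℕ} {k0u : Kˣ} {n0 n0i : K} {H : Subgroup (Equiv.Perm (Option K))}

theorem Setup.not_bad (S : Setup K e m k0u n0 n0i H) {t : Equiv.Perm (Option K)} (ht : t ∈ H)
    (ht1 : t none = some 0) (ht2 : t (some 0) = none) (hb : IsBad (k0u : K) ⇑t) : False := by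
  obtain ⟨he, hpm, hm1, hk0m, hk01, hn0, hn0m, hC4, hC2, -⟩ := S.h1
  obtain ⟨hb1, hb2⟩ := hb
  have hd := S.hd
  set s := t * t * t with hs
  have hsH : s ∈ H := H.mul_mem (H.mul_mem ht ht) ht
  have hs0 : s none = some 0 := by simp [hs, Equiv.Perm.mul_apply, ht1, ht2]
  have htd : t * affP k0u 0 = affP k0u 0 * t := Equiv.ext fun x => by
    simpa [affP_coe] using hb1 x
  have hsd : affP k0u 0 * s * (affP k0u 0)⁻¹ = s := by
    have h1 : affP k0u 0 * t * (affP k0u 0)⁻¹ = t := by rw [← htd]; group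
    calc affP k0u 0 * s * (affP k0u 0)⁻¹
        = (affP k0u 0 * t * (affP k0u 0)⁻¹) * (affP k0u 0 * t * (affP k0u 0)⁻¹)
            * (affP k0u 0 * t * (affP k0u 0)⁻¹) := by rw [hs]; group
      _ = s := by rw [h1]
  have hsd' : (affP k0u 0)⁻¹ * s * affP k0u 0 = s := by
    nth_rewrite 1 [← hsd]; group
  let conj : K → Equiv.Perm (Option K) := fun i => affP 1 i * s * (affP 1 i)⁻¹
  have hconj_def : ∀ i, conj i = affP 1 i * s * (affP 1 i)⁻¹ := fun i => rfl
  have hcomm0 : ∀ i, s * conj i = conj i * s := by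
    intro i
    refine Equiv.ext fun x => ?_
    have := hb2 i x
    simp only [hconj_def, Equiv.Perm.mul_apply, hs, affP_one_inv, affP_coe, Units.val_one]
    exact this
  have hconj_c : ∀ i j, affP 1 j * conj i * (affP 1 j)⁻¹ = conj (j + i) := by
    intro i j
    have : affP (1 : Kˣ) (j + i) = affP 1 j * affP 1 i := (affP_trans_mul j i).symm
    rw [hconj_def, hconj_def, this]; group
  have hcomm : ∀ i j, conj i * conj j = conj j * conj i := by
    intro i j
    have h := hcomm0 (j - i)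
    have e1 : conj j = affP 1 i * conj (j - i) * (affP 1 i)⁻¹ := by
      rw [hconj_c]; congr 1; ring
    rw [e1, hconj_def i]
    calc affP 1 i * s * (affP 1 i)⁻¹ * (affP 1 i * conj (j - i) * (affP 1 i)⁻¹)
        = affP 1 i * (s * conj (j - i)) * (affP 1 i)⁻¹ := by group
      _ = affP 1 i * (conj (j - i) * s) * (affP 1 i)⁻¹ := by rw [h]
      _ = affP 1 i * conj (j - i) * (affP 1 i)⁻¹ * (affP 1 i * s * (affP 1 i)⁻¹) := by group
  have hnorm : ∀ g : Equiv.Perm (Option K), (∀ i, ∃ i', g * conj i * g⁻¹ = conj i') →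
      (∀ i, ∃ i', g⁻¹ * conj i * g = conj i') → g ∈ Subgroup.normalizer (Set.range conj) := by
    intro g h1 h2
    rw [Subgroup.mem_set_normalizer_iff]
    intro n
    constructor
    · rintro ⟨i, rfl⟩; obtain ⟨i', hi'⟩ := h1 i; exact ⟨i', hi'.symm⟩
    · rintro ⟨i, hi⟩
      obtain ⟨i', hi'⟩ := h2 i
      refine ⟨i', ?_⟩
      rw [← hi', hi]; group
  have hdc : ∀ i : K, affP k0u 0 * affP 1 i * (affP k0u 0)⁻¹ = affP 1 ((k0u : K) * i) := by
    intro i
    have : affP k0u 0 * affP 1 i = affP 1 ((k0u : K) * i) * affP k0u 0 := by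
      rw [affP_mul, affP_mul]; simp
    rw [this]; group
  have hdc' : ∀ i : K, (affP k0u 0)⁻¹ * affP 1 i * affP k0u 0
      = affP 1 (((k0u⁻¹ : Kˣ) : K) * i) := by
    intro i
    have h1 := hdc (((k0u⁻¹ : Kˣ) : K) * i)
    have h2 : (k0u : K) * (((k0u⁻¹ : Kˣ) : K) * i) = i := by
      rw [← mul_assoc, k0u.mul_inv, one_mul]
    rw [h2] at h1
    rw [← h1]; group
  have hgen : Subgroup.closure (Set.range (affP (1 : Kˣ)) ∪ {affP k0u 0, s})
      ≤ Subgroup.normalizer (Set.range conj) := by
    rw [Subgroup.closure_le]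
    rintro g (⟨j, rfl⟩ | hg)
    · apply hnorm
      · intro i; exact ⟨j + i, hconj_c i j⟩
      · intro i
        refine ⟨-j + i, ?_⟩
        have := hconj_c i (-j)
        rw [← affP_one_inv] at this
        simpa using this
    · simp only [Set.mem_insert_iff, Set.mem_singleton_iff] at hg
      rcases hg with rfl | rfl
      · apply hnorm
        · intro i
          refine ⟨(k0u : K) * i, ?_⟩
          rw [hconj_def, hconj_def, ← hdc i]
          nth_rewrite 2 [← hsd]
          group
        · intro i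
          refine ⟨((k0u⁻¹ : Kˣ) : K) * i, ?_⟩
          rw [hconj_def, hconj_def, ← hdc' i]
          nth_rewrite 2 [← hsd']
          group
      · apply hnorm
        · intro i; exact ⟨i, by rw [hcomm0 i]; group⟩
        · intro i; exact ⟨i, by rw [mul_assoc, ← hcomm0 i]; group⟩
  have hconjS : ∀ h ∈ H, h * s * h⁻¹ ∈ Set.range conj := by
    intro h hh
    have h1 := hgen (S.mem_closure hsH hs0 hh)
    exact (Subgroup.mem_set_normalizer_iff.mp h1 s).mp ⟨0, by simp [hconj_def, affP_one]⟩
  have hcomm' := Subgroup.isMulCommutative_closure (k := Set.range conj)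
    (by rintro _ ⟨i, rfl⟩ _ ⟨j, rfl⟩; exact hcomm i j)
  have hcl : ∀ x ∈ Subgroup.closure (Set.range conj), ∀ y ∈ Subgroup.closure (Set.range conj),
      x * y = y * x := by
    intro x hx y hy
    have := hcomm'.is_comm.comm (⟨x, hx⟩ : Subgroup.closure (Set.range conj)) ⟨y, hy⟩
    exact congrArg Subtype.val this
  have := S.simple
  have hsne : (⟨s, hsH⟩ : H) ≠ 1 := by
    intro h
    have h1 : s = 1 := congrArg Subtype.val h
    rw [h1] at hs0; simp at hs0
  have hNC : Subgroup.normalClosure ({⟨s, hsH⟩} : Set H) = ⊤ := by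
    rcases (Subgroup.normalClosure_normal (s := ({⟨s, hsH⟩} : Set H))).eq_bot_or_eq_top with h | h
    · exfalso; apply hsne
      have h1 : (⟨s, hsH⟩ : H) ∈ Subgroup.normalClosure ({⟨s, hsH⟩} : Set H) :=
        Subgroup.subset_normalClosure (by simp)
      rw [h] at h1; exact Subgroup.mem_bot.mp h1
    · exact h
  have hsub : Subgroup.normalClosure ({⟨s, hsH⟩} : Set H)
      ≤ (Subgroup.closure (Set.range conj)).comap H.subtype := by
    rw [Subgroup.normalClosure, Subgroup.closure_le]
    intro x hx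
    rw [Group.mem_conjugatesOfSet_iff] at hx
    obtain ⟨a, ha, hax⟩ := hx
    rw [Set.mem_singleton_iff] at ha; subst ha
    rw [isConj_iff] at hax
    obtain ⟨c, rfl⟩ := hax
    exact Subgroup.subset_closure (hconjS c c.2)
  have hall : ∀ h ∈ H, h ∈ Subgroup.closure (Set.range conj) := by
    intro h hh
    have h1 : (⟨h, hh⟩ : H) ∈ Subgroup.normalClosure ({⟨s, hsH⟩} : Set H) := by rw [hNC]; trivial
    exact hsub h1
  have hfin := hcl _ (hall _ (S.htr 1)) _ (hall _ hd)
  have h2 := congrArg (fun f : Equiv.Perm (Option K) => f (some 0)) hfin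
  simp [Equiv.Perm.mul_apply] at h2
  exact hk01 h2.symm

theorem Setup.tP_mem (S : Setup K e m k0u n0 n0i H) : tP S.h1.1 ∈ H := by
  obtain ⟨t, ht, ht1, ht2⟩ := S.exists_swap
  obtain ⟨j, hj, a, b, hcand⟩ := S.eq_cand ht ht1 ht2
  have hprem : ∀ i : K, i ≠ 0 → IsAffAt m (candF m n0i j a b) i := by
    intro i hi; rw [← hcand]; exact S.isAffAt ht ht1 ht2 i hi
  rcases S.h3 j hj a b hprem with hg | hb
  · obtain ⟨l, hl, hgl⟩ := hg
    rw [← hcand] at hgl
    have h1 : t = tP S.h1.1 * affP k0u 0 ^ l := by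
      refine Equiv.ext fun x => ?_
      rw [hgl, Equiv.Perm.mul_apply, affP_pow_zero, tP_coe, affP_coe, Units.val_pow_eq_pow_val]
    have h2 : tP S.h1.1 = t * (affP k0u 0 ^ l)⁻¹ := by rw [h1]; group
    rw [h2]
    exact H.mul_mem ht (H.inv_mem (H.pow_mem S.hd _))
  · rw [← hcand] at hb
    exact (S.not_bad ht ht1 ht2 hb).elim

/-- The concrete recognition theorem. -/
theorem Setup.eq_closure (S : Setup K e m k0u n0 n0i H) :
    H = Subgroup.closure (Set.range (affP (1 : Kˣ)) ∪ {affP k0u 0, tP S.h1.1}) := by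
  apply le_antisymm
  · intro h hh; exact S.mem_closure S.tP_mem (tP_none _) hh
  · rw [Subgroup.closure_le]
    rintro g (⟨j, rfl⟩ | hg)
    · exact S.htr j
    · simp only [Set.mem_insert_iff, Set.mem_singleton_iff] at hg
      rcases hg with rfl | rfl
      exacts [S.hd, S.tP_mem]

end Cfsg.Agent.H51.PSLQ
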