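import Mathlib
import Cfsg.Agent.H51.PSL9Act
import Cfsg.Agent.H51.F9
import Cfsg.Agent.H51.PSLQConc2

/-! A simple group of order 360 acts on its ten Sylow 3-subgroups as on the projective line over the
field with nine elements: the labelling (helper51). -/

set_option autoImplicit false

namespace Cfsg.Agent.H51.PSL9

open Subgroup PSLQ

section Pow

variable {G : Type*} [Group G]

/-- Powers indexed by `ZMod 3`. -/
def zp (a : G) (x : ZMod 3) : G := a ^ x.val

theorem zp_add {a : G} (ha : a ^ 3 = 1) (x y : ZMod 3) : zp a (x + y) = zp a x * zp a y := by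
  unfold zp
  rw [ZMod.val_add, ← pow_add, ← pow_eq_pow_mod _ ha]

theorem zp_zero (a : G) : zp a 0 = 1 := by simp [zp]

theorem zp_neg {a : G} (ha : a ^ 3 = 1) (x : ZMod 3) : zp a (-x) = (zp a x)⁻¹ := by
  rw [eq_inv_iff_mul_eq_one, ← zp_add ha, neg_add_cancel, zp_zero]

/-- The labelling of the elementary abelian group generated by `a` and `b`. -/
def Pm (a b : G) (u : F9) : G := zp a u.re * zp b u.im

theorem Pm_add {a b : G} (ha : a ^ 3 = 1) (hb : b ^ 3 = 1) (hab : a * b = b * a) (u v : F9) :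
    Pm a b (u + v) = Pm a b u * Pm a b v := by
  unfold Pm
  rw [QuadraticAlgebra.re_add, QuadraticAlgebra.im_add, zp_add ha, zp_add hb]
  have hc : ∀ x y, zp a x * zp b y = zp b y * zp a x := fun x y =>
    ((show Commute a b from hab).pow_pow x.val y.val).eq
  calc (zp a u.re * zp a v.re) * (zp b u.im * zp b v.im)
      = zp a u.re * (zp a v.re * zp b u.im) * zp b v.im := by simp only [mul_assoc]
    _ = zp a u.re * (zp b u.im * zp a v.re) * zp b v.im := by rw [hc]
    _ = (zp a u.re * zp b u.im) * (zp a v.re * zp b v.im) := by simp only [mul_assoc]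

theorem Pm_zero (a b : G) : Pm a b 0 = 1 := by simp [Pm, zp]

theorem Pm_eq_one {a b : G} (ha : a ^ 3 = 1) (hb : b ^ 3 = 1) (ha1 : a ≠ 1) (hb1 : b ≠ 1)
    (hba : b ≠ a) (hba' : b ≠ a⁻¹) (u : F9) (h : Pm a b u = 1) : u = 0 := by
  have ha2 : a ^ 2 = a⁻¹ := by rw [eq_inv_iff_mul_eq_one, ← pow_succ, ha]
  have hb2 : b ^ 2 = b⁻¹ := by rw [eq_inv_iff_mul_eq_one, ← pow_succ, hb]
  have key : ∀ i j : ℕ, i < 3 → j < 3 → a ^ i * b ^ j = 1 → i = 0 ∧ j = 0 := by
    intro i j hi hj h
    interval_cases i <;> interval_cases j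
    · exact ⟨rfl, rfl⟩
    · exfalso
      rw [pow_zero, pow_one, one_mul] at h
      exact hb1 h
    · exfalso
      rw [pow_zero, one_mul, hb2, inv_eq_one] at h
      exact hb1 h
    · exfalso
      rw [pow_zero, pow_one, mul_one] at h
      exact ha1 h
    · exfalso
      rw [pow_one, pow_one] at h
      exact hba' (eq_inv_of_mul_eq_one_right h)
    · exfalso
      rw [pow_one, hb2, mul_inv_eq_one] at h
      exact hba h.symm
    · exfalso
      rw [pow_zero, mul_one, ha2, inv_eq_one] at h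
      exact ha1 h
    · exfalso
      rw [pow_one, ha2, inv_mul_eq_one] at h
      exact hba h.symm
    · exfalso
      rw [ha2, hb2, inv_mul_eq_one] at h
      exact hba' (by rw [h, inv_inv])
  have := key u.re.val u.im.val (ZMod.val_lt _) (ZMod.val_lt _) h
  apply QuadraticAlgebra.ext
  · exact (ZMod.val_eq_zero _).mp this.1
  · exact (ZMod.val_eq_zero _).mp this.2

end Pow

variable {G : Type*} [Group G] [Finite G] [IsSimpleGroup G]

/-- The labelling of the ten Sylow 3-subgroups by the projective line over `F9`. -/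
theorem exists_labeling (hG : Nat.card G = 360) (Q Q0 : Sylow 3 G) (hne : Q0 ≠ Q) {a b : G}
    (haQ : a ∈ (Q : Subgroup G)) (hbQ : b ∈ (Q : Subgroup G)) (ha : a ^ 3 = 1) (hb : b ^ 3 = 1)
    (ha1 : a ≠ 1) (hb1 : b ≠ 1) (hba : b ≠ a) (hba' : b ≠ a⁻¹) :
    ∃ φ : G →* Equiv.Perm (Option F9), Function.Injective φ ∧
      (∀ u : F9, φ (Pm a b u) = affP 1 u) ∧
      (∀ (t : G) (f : F9 → F9), t • Q = Q → t • Q0 = Q0 →
        (∀ u, t * Pm a b u * t⁻¹ = Pm a b (f u)) →
          φ t none = none ∧ ∀ u, φ t (some u) = some (f u)) ∧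
      ∃ h : G, φ h none = some 0 := by
  have hcomm := sylow3_comm hG Q
  have hab : a * b = b * a :=
    congrArg Subtype.val (hcomm.is_comm.comm (⟨a, haQ⟩ : (Q : Subgroup G)) ⟨b, hbQ⟩)
  have hPQ : ∀ u, Pm a b u ∈ (Q : Subgroup G) := fun u =>
    mul_mem (pow_mem haQ _) (pow_mem hbQ _)
  have hPinj : ∀ u v, Pm a b u = Pm a b v → u = v := by
    intro u v h
    have h1 := Pm_add ha hb hab (u - v) v
    rw [sub_add_cancel, h] at h1
    exact sub_eq_zero.mp (Pm_eq_one ha hb ha1 hb1 hba hba' _ (right_eq_mul.mp h1))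
  let e : Option F9 → Sylow 3 G := fun x =>
    match x with
    | none => Q
    | some u => Pm a b u • Q0
  have he_inj : Function.Injective e := by
    rintro (_ | i) (_ | j) h
    · rfl
    · exfalso; apply hne
      have h' : Q = Pm a b j • Q0 := h
      have h2 : Q0 = (Pm a b j)⁻¹ • Q := eq_inv_smul_iff.mpr h'.symm
      exact h2.trans (inv_smul_eq_iff.mpr (smul_self_of_mem Q (hPQ j)).symm)
    · exfalso; apply hne
      have h' : Pm a b i • Q0 = Q := h
      have h2 : Q0 = (Pm a b i)⁻¹ • Q := eq_inv_smul_iff.mpr h'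
      exact h2.trans (inv_smul_eq_iff.mpr (smul_self_of_mem Q (hPQ i)).symm)
    · have h' : Pm a b i • Q0 = Pm a b j • Q0 := h
      have h1 : ((Pm a b j)⁻¹ * Pm a b i) • Q0 = Q0 := by rw [mul_smul, h', inv_smul_smul]
      have h2 := sylow3_free hG Q Q0 hne (mul_mem (inv_mem (hPQ j)) (hPQ i)) h1
      have h3 : Pm a b i = Pm a b j := by
        rw [inv_mul_eq_one] at h2; exact h2.symm
      exact congrArg some (hPinj _ _ h3)
  have hcard : Nat.card (Option F9) = Nat.card (Sylow 3 G) := by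
    rw [card_sylow3_eq hG, Finite.card_option, Nat.card_eq_fintype_card, card_F9]
  have he_bij : Function.Bijective e := (Nat.bijective_iff_injective_and_card e).mpr ⟨he_inj, hcard⟩
  let E : Option F9 ≃ Sylow 3 G := Equiv.ofBijective e he_bij
  have hE_none : E none = Q := rfl
  have hE_some : ∀ u : F9, E (some u) = Pm a b u • Q0 := fun u => rfl
  let φ : G →* Equiv.Perm (Option F9) :=
    (E.symm.permCongrHom).toMonoidHom.comp (MulAction.toPermHom G (Sylow 3 G))
  have hφ : ∀ g x, φ g x = E.symm (g • E x) := by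
    intro g x; rfl
  have hφP : ∀ v : F9, φ (Pm a b v) = affP 1 v := by
    intro v
    refine Equiv.ext fun x => ?_
    rcases x with _ | u
    · rw [hφ, hE_none, Equiv.symm_apply_eq, affP_none, hE_none]
      exact smul_self_of_mem Q (hPQ v)
    · rw [hφ, hE_some, Equiv.symm_apply_eq, affP_some, hE_some, ← mul_smul, ← Pm_add ha hb hab,
        Units.val_one, one_mul, add_comm]
  refine ⟨φ, ?_, hφP, ?_, ?_⟩
  · rw [← MonoidHom.ker_eq_bot_iff]
    rcases (MonoidHom.normal_ker φ).eq_bot_or_eq_top with h | h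
    · exact h
    · exfalso
      have h1 : Pm a b 1 ∈ φ.ker := by rw [h]; trivial
      rw [MonoidHom.mem_ker, hφP] at h1
      have h2 := congrArg (fun f : Equiv.Perm (Option F9) => f (some 0)) h1
      simp at h2
  · intro t f htQ htQ0 hf
    refine ⟨?_, fun u => ?_⟩
    · rw [hφ, hE_none, Equiv.symm_apply_eq, hE_none]
      exact htQ
    · rw [hφ, hE_some, Equiv.symm_apply_eq, hE_some, ← mul_smul]
      have h1 : t * Pm a b u = Pm a b (f u) * t := by rw [← hf u]; group
      rw [h1, mul_smul, htQ0]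
  · obtain ⟨g, hg⟩ := MulAction.exists_smul_eq G Q Q0
    refine ⟨g, ?_⟩
    rw [hφ, hE_none, hg, Equiv.symm_apply_eq, hE_some, Pm_zero, one_smul]

end Cfsg.Agent.H51.PSL9
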