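import Mathlib
import Cfsg.Agent.H51.PSL9Label

/-! A simple group of order 360 is isomorphic to a fixed permutation group of degree ten
(helper51). -/

set_option autoImplicit false

namespace Cfsg.Agent.H51.PSL9

open Subgroup PSLQ

/-- The conjugation of `F9`. -/
def conjF (u : F9) : F9 := ⟨u.re, -u.im⟩

/-- The conjugation of `F9` as a permutation of the projective line. -/
def conjP : Equiv.Perm (Option F9) where
  toFun := Option.map conjF
  invFun := Option.map conjF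
  left_inv := by decide
  right_inv := by decide

theorem sign_conjP : Equiv.Perm.sign conjP = -1 := by
  have h : conjP = Equiv.swap (some ⟨0, 1⟩) (some ⟨0, 2⟩) * Equiv.swap (some ⟨1, 1⟩) (some ⟨1, 2⟩) *
      Equiv.swap (some ⟨2, 1⟩) (some ⟨2, 2⟩) := by
    refine Equiv.ext ?_
    decide
  rw [h, map_mul, map_mul, Equiv.Perm.sign_swap (by decide), Equiv.Perm.sign_swap (by decide),
    Equiv.Perm.sign_swap (by decide)]
  rfl

/-- The square root of `-1` in `F9`, as a unit. -/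
def iU : F9ˣ := ⟨⟨0, 1⟩, ⟨0, 2⟩, by decide, by decide⟩

/-- The group `PSL₂(9)` as a permutation group of the projective line. -/
def K9 : Subgroup (Equiv.Perm (Option F9)) :=
  closure (Set.range (affP (1 : F9ˣ)) ∪ {affP iU 0, tP check1_9.1})

variable {G : Type*} [Group G] [Finite G] [IsSimpleGroup G]

omit [Finite G] in
theorem sign_eq_one (hG : Nat.card G = 360) (φ : G →* Equiv.Perm (Option F9)) (g : G) :
    Equiv.Perm.sign (φ g) = 1 := by
  let ψ : G →* ℤˣ := Equiv.Perm.sign.comp φ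
  rcases (MonoidHom.normal_ker ψ).eq_bot_or_eq_top with h | h
  · exfalso
    have hinj : Function.Injective ψ := (MonoidHom.ker_eq_bot_iff ψ).mp h
    have := Nat.card_le_card_of_injective ψ hinj
    rw [hG, Nat.card_eq_fintype_card, Fintype.card_units_int] at this
    omega
  · have : g ∈ ψ.ker := h ▸ Subgroup.mem_top g
    exact this

omit [Finite G] [IsSimpleGroup G] in
theorem inv_ne_self_of_pow_three {b : G} (hb : b ^ 3 = 1) (hb1 : b ≠ 1) : b⁻¹ ≠ b := by
  intro h
  apply hb1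
  have h2 : b * b = 1 := by
    nth_rewrite 1 [← h]; exact inv_mul_cancel b
  calc b = b ^ 3 * (b * b)⁻¹ := by group
    _ = 1 := by rw [hb, h2]; simp

/-- The two-point stabiliser contains no reflection. -/
theorem no_reflection (hG : Nat.card G = 360) (Q Q0 : Sylow 3 G) (hne : Q0 ≠ Q) {s a b : G}
    (hsQ : s • Q = Q) (hsQ0 : s • Q0 = Q0) (haQ : a ∈ (Q : Subgroup G))
    (hbQ : b ∈ (Q : Subgroup G)) (ha1 : a ≠ 1) (hb1 : b ≠ 1) (ha : a ^ 3 = 1) (hb : b ^ 3 = 1)
    (hsa : s * a * s⁻¹ = a) (hsb : s * b * s⁻¹ = b⁻¹) : False := by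
  have hbb : b⁻¹ ≠ b := inv_ne_self_of_pow_three hb hb1
  have hba : b ≠ a := by
    intro h
    apply hbb
    calc b⁻¹ = s * b * s⁻¹ := hsb.symm
      _ = s * a * s⁻¹ := by rw [h]
      _ = b := by rw [hsa, h]
  have hba' : b ≠ a⁻¹ := by
    intro h
    apply hbb
    calc b⁻¹ = s * b * s⁻¹ := hsb.symm
      _ = (s * a * s⁻¹)⁻¹ := by rw [h]; group
      _ = b := by rw [hsa, h]
  obtain ⟨φ, hinj, hφP, hφt, -⟩ := exists_labeling hG Q Q0 hne haQ hbQ ha hb ha1 hb1 hba hba'
  have hconj : ∀ u, s * Pm a b u * s⁻¹ = Pm a b (conjF u) := by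
    intro u
    show s * (zp a u.re * zp b u.im) * s⁻¹ = zp a u.re * zp b (-u.im)
    rw [zp_neg hb]
    calc s * (zp a u.re * zp b u.im) * s⁻¹
        = (s * zp a u.re * s⁻¹) * (s * zp b u.im * s⁻¹) := by group
      _ = zp a u.re * (zp b u.im)⁻¹ := by
          unfold zp
          rw [← conj_pow, ← conj_pow, hsa, hsb, inv_pow]
  obtain ⟨h1, h2⟩ := hφt s conjF hsQ hsQ0 hconj
  have h3 : φ s = conjP := by
    refine Equiv.ext fun x => ?_
    rcases x with _ | u
    · rw [h1]; rfl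
    · rw [h2]; rfl
  have h4 := sign_eq_one hG φ s
  rw [h3, sign_conjP] at h4
  exact absurd h4 (by decide)

/-- If the two-point stabiliser contains an element whose square inverts the Sylow 3-subgroup, the
group is `PSL₂(9)`. -/
theorem recog_of_order4 (hG : Nat.card G = 360) (Q Q0 : Sylow 3 G) (hne : Q0 ≠ Q) {g a : G}
    (hgQ : g • Q = Q) (hgQ0 : g • Q0 = Q0) (haQ : a ∈ (Q : Subgroup G)) (ha1 : a ≠ 1)
    (ha : a ^ 3 = 1) (hg2 : ∀ q ∈ (Q : Subgroup G), g * (g * q * g⁻¹) * g⁻¹ = q⁻¹) :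
    Nonempty (G ≃* K9) := by
  have haa : a⁻¹ ≠ a := inv_ne_self_of_pow_three ha ha1
  obtain ⟨b, hb_def⟩ : ∃ b : G, b = g * a * g⁻¹ := ⟨_, rfl⟩
  have hbQ : b ∈ (Q : Subgroup G) := by
    have h1 : g ∈ normalizer ((Q : Subgroup G) : Set G) := Sylow.smul_eq_iff_mem_normalizer.mp hgQ
    rw [hb_def]
    exact (Subgroup.mem_normalizer_iff.mp h1 a).mp haQ
  have hb : b ^ 3 = 1 := by rw [hb_def, conj_pow, ha]; group
  have hb1 : b ≠ 1 := by
    intro h; apply ha1
    rw [hb_def] at h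
    exact conj_eq_one_iff.mp h
  have hgb : g * b * g⁻¹ = a⁻¹ := by rw [hb_def]; exact hg2 a haQ
  have hba : b ≠ a := by
    intro h
    apply haa
    calc a⁻¹ = g * b * g⁻¹ := hgb.symm
      _ = g * a * g⁻¹ := by rw [h]
      _ = b := hb_def.symm
      _ = a := h
  have hba' : b ≠ a⁻¹ := by
    intro h
    apply haa
    calc a⁻¹ = g * b * g⁻¹ := hgb.symm
      _ = (g * a * g⁻¹)⁻¹ := by rw [h]; group
      _ = b⁻¹ := by rw [hb_def]
      _ = a := by rw [h, inv_inv]
  obtain ⟨φ, hinj, hφP, hφt, hT⟩ := exists_labeling hG Q Q0 hne haQ hbQ ha hb ha1 hb1 hba hba'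
  have hcomm := sylow3_comm hG Q
  have hab : a * b = b * a :=
    congrArg Subtype.val (hcomm.is_comm.comm (⟨a, haQ⟩ : (Q : Subgroup G)) ⟨b, hbQ⟩)
  have hconj : ∀ u, g * Pm a b u * g⁻¹ = Pm a b ((iU : F9) * u) := by
    intro u
    have hre : ((iU : F9) * u).re = -u.im := by simp [iU]
    have him : ((iU : F9) * u).im = u.re := by simp [iU]
    unfold Pm
    rw [hre, him, zp_neg ha]
    calc g * (zp a u.re * zp b u.im) * g⁻¹
        = (g * zp a u.re * g⁻¹) * (g * zp b u.im * g⁻¹) := by group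
      _ = zp b u.re * (zp a u.im)⁻¹ := by
          unfold zp
          rw [← conj_pow, ← conj_pow, ← hb_def, hgb, inv_pow]
      _ = (zp a u.im)⁻¹ * zp b u.re :=
          (((show Commute b a from hab.symm).pow_pow u.re.val u.im.val).inv_right).eq
  obtain ⟨h1, h2⟩ := hφt g (fun u => (iU : F9) * u) hgQ hgQ0 hconj
  have hφg : φ g = affP iU 0 := by
    refine Equiv.ext fun x => ?_
    rcases x with _ | u
    · rw [h1, affP_none]
    · rw [h2, affP_some, add_zero]
  have e : G ≃* φ.range := MonoidHom.ofInjective hinj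
  have S : Setup F9 7 4 iU ⟨1, 1⟩ ⟨2, 1⟩ φ.range :=
    { h1 := check1_9
      h3 := check3_9
      card := by rw [← Nat.card_congr e.toEquiv, hG, card_F9]
      simple := e.isSimpleGroup_congr.mp inferInstance
      htr := fun w => ⟨Pm a b w, hφP w⟩
      hd := ⟨g, hφg⟩
      hT := by
        obtain ⟨h, hh⟩ := hT
        exact ⟨φ h, ⟨h, rfl⟩, hh⟩ }
  exact ⟨e.trans (MulEquiv.subgroupCongr S.eq_closure)⟩

/-- A simple group of order 360 is isomorphic to `K9`. -/
theorem iso_K9 (hG : Nat.card G = 360) : Nonempty (G ≃* K9) := by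
  obtain ⟨Q⟩ : Nonempty (Sylow 3 G) := inferInstance
  have hnt : Nontrivial (Sylow 3 G) :=
    Finite.one_lt_card_iff_nontrivial.mp (by rw [card_sylow3_eq hG]; norm_num)
  obtain ⟨Q0, hne⟩ := exists_ne Q
  rcases exists_data hG Q Q0 hne with
    ⟨s, a, b, hsQ, hsQ0, haQ, hbQ, ha1, hb1, ha, hb, hsa, hsb⟩ | ⟨g, a, hgQ, hgQ0, haQ, ha1, ha, hg2⟩
  · exact (no_reflection hG Q Q0 hne hsQ hsQ0 haQ hbQ ha1 hb1 ha hb hsa hsb).elim
  · exact recog_of_order4 hG Q Q0 hne hgQ hgQ0 haQ ha1 ha hg2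

end Cfsg.Agent.H51.PSL9
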