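import Mathlib
import Cfsg.Agent.H64.Sixty
import Cfsg.Agent.S0494

/-!
# S2135-TABA5 (helper51, for helper34)

A group of order 60 given by a multiplication table with two elements of order 5 generating
different subgroups is isomorphic to `A₅`.
-/

set_option autoImplicit false

namespace Cfsg.Agent.H51.J3C

theorem a5_of_table {H : Type*} [Group H] (e : Fin 60 → H) (m : Fin 60 → Fin 60 → Fin 60)
    (he : Function.Bijective e) (h1 : e 0 = 1) (hm : ∀ a b, e a * e b = e (m a b))
    (b1 b2 : Fin 60) (hb1 : b1 ≠ 0) (h51 : m b1 (m b1 (m b1 (m b1 b1))) = 0)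
    (h52 : m b2 (m b2 (m b2 (m b2 b2))) = 0)
    (hb2 : b2 ≠ 0 ∧ b2 ≠ b1 ∧ b2 ≠ m b1 b1 ∧ b2 ≠ m b1 (m b1 b1) ∧
      b2 ≠ m b1 (m b1 (m b1 b1))) :
    Nonempty (H ≃* alternatingGroup (Fin 5)) := by
  classical
  have hfin : Finite H := Finite.of_surjective e he.2
  have hcard : Nat.card H = 60 := by
    rw [← Nat.card_congr (Equiv.ofBijective e he), Nat.card_eq_fintype_card, Fintype.card_fin]
  have hp5 : Fact (Nat.Prime 5) := ⟨by norm_num⟩
  -- powers
  have pow5 : ∀ b : Fin 60, m b (m b (m b (m b b))) = 0 → e b ^ 5 = 1 := by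
    intro b hb
    have : e b ^ 5 = e b * (e b * (e b * (e b * e b))) := by
      simp only [pow_succ, pow_zero, one_mul, mul_assoc]
    rw [this, hm, hm, hm, hm, hb, h1]
  have ne1 : ∀ b : Fin 60, b ≠ 0 → e b ≠ 1 := by
    intro b hb h
    apply hb
    apply he.1
    rw [h, h1]
  have ho1 : orderOf (e b1) = 5 := orderOf_eq_prime (pow5 b1 h51) (ne1 b1 hb1)
  have ho2 : orderOf (e b2) = 5 := orderOf_eq_prime (pow5 b2 h52) (ne1 b2 hb2.1)
  have hnot : e b2 ∉ Subgroup.zpowers (e b1) := by
    intro hmem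
    rw [mem_zpowers_iff_mem_range_orderOf, ho1] at hmem
    simp only [Finset.mem_image, Finset.mem_range] at hmem
    obtain ⟨k, hk, hk2⟩ := hmem
    have e2 : e b1 ^ 2 = e (m b1 b1) := by rw [pow_two, hm]
    have e3 : e b1 ^ 3 = e (m b1 (m b1 b1)) := by
      have : e b1 ^ 3 = e b1 * (e b1 * e b1) := by
        simp only [pow_succ, pow_zero, one_mul, mul_assoc]
      rw [this, hm, hm]
    have e4 : e b1 ^ 4 = e (m b1 (m b1 (m b1 b1))) := by
      have : e b1 ^ 4 = e b1 * (e b1 * (e b1 * e b1)) := by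
        simp only [pow_succ, pow_zero, one_mul, mul_assoc]
      rw [this, hm, hm, hm]
    interval_cases k
    · rw [pow_zero, ← h1] at hk2
      exact hb2.1 (he.1 hk2.symm)
    · rw [pow_one] at hk2
      exact hb2.2.1 (he.1 hk2.symm)
    · rw [e2] at hk2
      exact hb2.2.2.1 (he.1 hk2.symm)
    · rw [e3] at hk2
      exact hb2.2.2.2.1 (he.1 hk2.symm)
    · rw [e4] at hk2
      exact hb2.2.2.2.2 (he.1 hk2.symm)
  have h5 : Nat.card (Sylow 5 H) ≠ 1 := by
    intro hone
    have hz : ∀ g : H, orderOf g = 5 → IsPGroup 5 (Subgroup.zpowers g) := by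
      intro g hg
      apply IsPGroup.of_card (n := 1)
      rw [Nat.card_zpowers, hg, pow_one]
    obtain ⟨P1, hP1⟩ := (hz _ ho1).exists_le_sylow
    obtain ⟨P2, hP2⟩ := (hz _ ho2).exists_le_sylow
    have hsub : Subsingleton (Sylow 5 H) := (Finite.card_le_one_iff_subsingleton).1 hone.le
    have hPP : P1 = P2 := Subsingleton.elim _ _
    have hPc : Nat.card (P1 : Subgroup H) = 5 := by
      rw [Sylow.card_eq_multiplicity, hcard]
      have : (60 : ℕ).factorization 5 = 1 := by
        rw [show (60 : ℕ) = 5 ^ 1 * 12 by norm_num,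
          Nat.factorization_mul (by norm_num) (by norm_num), Finsupp.add_apply,
          Nat.Prime.factorization_pow (by norm_num),
          Nat.factorization_eq_zero_of_not_dvd (by norm_num)]
        simp
      rw [this, pow_one]
    have hz1 : Subgroup.zpowers (e b1) = (P1 : Subgroup H) := by
      apply Subgroup.eq_of_le_of_card_ge hP1
      rw [hPc, Nat.card_zpowers, ho1]
    have h2 : e b2 ∈ (P1 : Subgroup H) := by
      rw [hPP]
      exact hP2 (Subgroup.mem_zpowers _)
    rw [← hz1] at h2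
    exact hnot h2
  have hsimple : IsSimpleGroup H := Cfsg.Agent.H64.Sixty.isSimpleGroup_of_card_sixty hcard h5
  exact Cfsg.Agent.S0494.result hcard

end Cfsg.Agent.H51.J3C
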