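import Mathlib
import Cfsg.Prelude.Def_Transfer

/-!
# S2135-TABE8 (helper51, for helper34)

A group of order 32 given by a multiplication table without elementary abelian subgroups of order
8 (table condition `hE8`): every elementary abelian 2-subgroup has order at most 4.
-/

set_option autoImplicit false

namespace Cfsg.Agent.H51.J3C

theorem noE8_of_table {P : Type*} [Group P] (e : Fin 32 → P) (m : Fin 32 → Fin 32 → Fin 32)
    (he : Function.Bijective e) (h1 : e 0 = 1) (hm : ∀ a b, e a * e b = e (m a b))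
    (hE8 : ∀ a b c, m a a = 0 → m b b = 0 → m c c = 0 → m a b = m b a → m a c = m c a →
      m b c = m c b → a = 0 ∨ b = 0 ∨ a = b ∨ c = 0 ∨ c = a ∨ c = b ∨ c = m a b)
    (E : Subgroup P) (hE : Cfsg.IsElementaryAbelian 2 E) : Nat.card E ≤ 2 ^ 2 := by
  classical
  obtain ⟨hcomm, hsq⟩ := hE
  have hcomm' : ∀ x ∈ E, ∀ y ∈ E, x * y = y * x := by
    intro x hx y hy
    have := hcomm.is_comm.comm (⟨x, hx⟩ : E) ⟨y, hy⟩
    exact congrArg Subtype.val this
  have hsq' : ∀ x ∈ E, x * x = 1 := by
    intro x hx
    have := hsq x hx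
    rwa [pow_two] at this
  -- the table condition in the group
  have key : ∀ x ∈ E, ∀ y ∈ E, ∀ w ∈ E,
      x = 1 ∨ y = 1 ∨ x = y ∨ w = 1 ∨ w = x ∨ w = y ∨ w = x * y := by
    intro x hx y hy w hw
    obtain ⟨a, rfl⟩ := he.2 x
    obtain ⟨b, rfl⟩ := he.2 y
    obtain ⟨c, rfl⟩ := he.2 w
    have sq0 : ∀ d, e d * e d = 1 → m d d = 0 := by
      intro d hd
      apply he.1
      rw [← hm, hd, h1]
    have cm : ∀ d d', e d * e d' = e d' * e d → m d d' = m d' d := by
      intro d d' hd
      apply he.1
      rw [← hm, ← hm, hd]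
    rcases hE8 a b c (sq0 a (hsq' _ hx)) (sq0 b (hsq' _ hy)) (sq0 c (hsq' _ hw))
      (cm a b (hcomm' _ hx _ hy)) (cm a c (hcomm' _ hx _ hw)) (cm b c (hcomm' _ hy _ hw))
      with h | h | h | h | h | h | h
    · left; rw [h, h1]
    · right; left; rw [h, h1]
    · right; right; left; rw [h]
    · right; right; right; left; rw [h, h1]
    · right; right; right; right; left; rw [h]
    · right; right; right; right; right; left; rw [h]
    · right; right; right; right; right; right; rw [h, hm]
  have hfin : ∃ S : Finset P, S.card ≤ 4 ∧ ∀ w ∈ E, w ∈ S := by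
    by_cases h1E : ∀ x ∈ E, x = 1
    · refine ⟨{1}, by simp, ?_⟩
      intro w hw
      rw [h1E w hw]
      simp
    · push Not at h1E
      obtain ⟨x, hx, hx1⟩ := h1E
      by_cases h2E : ∀ y ∈ E, y = 1 ∨ y = x
      · refine ⟨{1, x}, (Finset.card_le_two).trans (by norm_num), ?_⟩
        intro w hw
        rcases h2E w hw with h | h
        · rw [h]; simp
        · rw [h]; simp
      · push Not at h2E
        obtain ⟨y, hy, hy1, hyx⟩ := h2E
        refine ⟨{1, x, y, x * y}, Finset.card_le_four, ?_⟩
        intro w hw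
        rcases key x hx y hy w hw with h | h | h | h | h | h | h
        · exact absurd h hx1
        · exact absurd h hy1
        · exact absurd h.symm hyx
        · rw [h]; simp
        · rw [h]; simp
        · rw [h]; simp
        · rw [h]; simp
  obtain ⟨S, hS, hES⟩ := hfin
  calc Nat.card E = Set.ncard (E : Set P) := Nat.card_coe_set_eq _
    _ ≤ Set.ncard (S : Set P) := Set.ncard_le_ncard (fun w hw => hES w hw) S.finite_toSet
    _ = S.card := Set.ncard_coe_finset S
    _ ≤ 4 := hS
    _ = 2 ^ 2 := by norm_num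

end Cfsg.Agent.H51.J3C
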