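import Mathlib
import Cfsg.Agent.H45.R2Abs
import Cfsg.Agent.S0807
import Cfsg.Agent.H18.KleinConj

/-!
# R2 piece L1 (helper51, for helper45's S1152 + S1157 project)

Subgroups of order 4 of `PSL₂(3^(2m+1))` have normaliser of order 12: the 2-part of the order is
4, so the subgroups of order 4 are the Sylow 2-subgroups, they are all conjugate and Klein four
groups, and there are `|G| / 12` Klein four subgroups (S0807).
-/

set_option autoImplicit false

universe u

namespace Cfsg.Agent.H51.R2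

/-- `3^(2m+1) = 8t + 3`. -/
theorem pow3_mod8 (m : ℕ) : ∃ t, 3 ^ (2 * m + 1) = 8 * t + 3 := by
  induction m with
  | zero => exact ⟨0, by norm_num⟩
  | succ n ih =>
    obtain ⟨t, ht⟩ := ih
    refine ⟨9 * t + 3, ?_⟩
    have : 3 ^ (2 * (n + 1) + 1) = 9 * 3 ^ (2 * n + 1) := by ring
    rw [this, ht]; ring

theorem odd_card_of_pow3 (K : Type u) [Field K] [Fintype K] (m : ℕ)
    (hK : Fintype.card K = 3 ^ (2 * m + 1)) : Odd (Fintype.card K) := by
  obtain ⟨t, ht⟩ := pow3_mod8 m
  rw [hK, ht]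
  exact ⟨4 * t + 1, by ring⟩

/-- `|PSL₂(3^(2m+1))| = 4 * odd`. -/
theorem card_psl2_four_odd (K : Type u) [Field K] [Fintype K] (m : ℕ)
    (hK : Fintype.card K = 3 ^ (2 * m + 1)) :
    ∃ k, Odd k ∧ Nat.card (Matrix.ProjectiveSpecialLinearGroup (Fin 2) K) = 4 * k := by
  obtain ⟨t, ht⟩ := pow3_mod8 m
  have hodd : Odd (Fintype.card K) := odd_card_of_pow3 K m hK
  have h := Cfsg.Agent.H7.card_PSL2_odd hodd
  rw [hK, ht] at h
  have h2 : (8 * t + 3) ^ 2 - 1 = 8 * ((4 * t + 1) * (2 * t + 1)) := by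
    have : (8 * t + 3) ^ 2 = 8 * ((4 * t + 1) * (2 * t + 1)) + 1 := by ring
    omega
  rw [h2] at h
  refine ⟨(8 * t + 3) * ((4 * t + 1) * (2 * t + 1)), ?_, ?_⟩
  · exact Odd.mul ⟨4 * t + 1, by ring⟩ (Odd.mul ⟨2 * t, by ring⟩ ⟨t, by ring⟩)
  · have h3 : 2 * Nat.card (Matrix.ProjectiveSpecialLinearGroup (Fin 2) K) =
        2 * (4 * ((8 * t + 3) * ((4 * t + 1) * (2 * t + 1)))) := by
      rw [h]; ring
    exact Nat.eq_of_mul_eq_mul_left (by norm_num) h3

/-- The 2-part of `4 * odd`. -/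
theorem factorization_two_of_four_odd {n k : ℕ} (h : n = 4 * k) (hk : Odd k) :
    n.factorization 2 = 2 := by
  subst h
  have hk0 : k ≠ 0 := by
    rintro rfl
    simp at hk
  have h2k : ¬ 2 ∣ k := by
    rw [← even_iff_two_dvd, Nat.not_even_iff_odd]
    exact hk
  rw [show 4 * k = 2 ^ 2 * k by ring, Nat.factorization_mul (by norm_num) hk0,
    Finsupp.add_apply, Nat.factorization_eq_zero_of_not_dvd h2k,
    Nat.Prime.factorization_pow Nat.prime_two]
  simp

/-- Two subgroups of order 4 of a group of order `4 * odd` are conjugate. -/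
theorem conj_of_card_four {G : Type u} [Group G] [Finite G]
    (hG : (Nat.card G).factorization 2 = 2) (A B : Subgroup G)
    (hA : Nat.card A = 4) (hB : Nat.card B = 4) :
    ∃ g : G, B = A.map (MulAut.conj g).toMonoidHom := by
  let P : Sylow 2 G := Sylow.ofCard A (by rw [hA, hG]; norm_num)
  let Q : Sylow 2 G := Sylow.ofCard B (by rw [hB, hG]; norm_num)
  obtain ⟨g, hg⟩ := MulAction.exists_smul_eq G P Q
  refine ⟨g, ?_⟩
  have h1 : ((g • P : Sylow 2 G) : Subgroup G) = B := by rw [hg]; rfl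
  rw [← h1, Sylow.coe_subgroup_smul]
  rfl

/-- **R2 piece L1**. -/
theorem pslNorm : Cfsg.Agent.H45.R2.PSLNormStmt.{u} := by
  intro K _ _ m hK V hV
  classical
  obtain ⟨k, hk, hcard⟩ := card_psl2_four_odd K m hK
  have hfac := factorization_two_of_four_odd hcard hk
  have hodd : Odd (Fintype.card K) := odd_card_of_pow3 K m hK
  have hres := Cfsg.Agent.S0807.result (F := K) rfl hodd
  have hkpos : 0 < k := hk.pos
  have hn : 0 < Nat.card {W : Subgroup (Matrix.ProjectiveSpecialLinearGroup (Fin 2) K) //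
      IsKleinFour W} := by
    rcases Nat.eq_zero_or_pos (Nat.card {W : Subgroup
      (Matrix.ProjectiveSpecialLinearGroup (Fin 2) K) // IsKleinFour W}) with h0 | h0
    · rw [h0] at hres; omega
    · exact h0
  have hne : Nonempty {W : Subgroup (Matrix.ProjectiveSpecialLinearGroup (Fin 2) K) //
      IsKleinFour W} := by
    by_contra hcon
    rw [not_nonempty_iff] at hcon
    rw [Nat.card_of_isEmpty] at hn
    exact lt_irrefl _ hn
  obtain ⟨⟨W0, hW0⟩⟩ := hne
  have hW0c : Nat.card W0 = 4 := hW0.card_four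
  have hVK : IsKleinFour V := by
    obtain ⟨g, hg⟩ := conj_of_card_four hfac W0 V hW0c hV
    rw [hg]
    exact Cfsg.Agent.H18.isKleinFour_map_conj W0 hW0 g
  have hiff : ∀ W : Subgroup (Matrix.ProjectiveSpecialLinearGroup (Fin 2) K),
      (∃ g, W = V.map (MulAut.conj g).toMonoidHom) ↔ IsKleinFour W := by
    intro W
    constructor
    · rintro ⟨g, rfl⟩
      exact Cfsg.Agent.H18.isKleinFour_map_conj V hVK g
    · intro hW
      exact conj_of_card_four hfac V W hV hW.card_four
  have h1 := Cfsg.Agent.H18.card_conj_mul_card_normalizer V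
  rw [Nat.card_congr (Equiv.subtypeEquivRight hiff)] at h1
  have h2 : Nat.card {W : Subgroup (Matrix.ProjectiveSpecialLinearGroup (Fin 2) K) //
        IsKleinFour W} * Nat.card ↥(Subgroup.normalizer
          (V : Set (Matrix.ProjectiveSpecialLinearGroup (Fin 2) K))) =
      Nat.card {W : Subgroup (Matrix.ProjectiveSpecialLinearGroup (Fin 2) K) //
        IsKleinFour W} * 12 := by
    rw [h1, ← hres]; ring
  exact Nat.eq_of_mul_eq_mul_left hn h2

example : Cfsg.Agent.H45.R2.PSLNormStmt.{u} := pslNorm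

end Cfsg.Agent.H51.R2
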