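import Mathlib
import Cfsg.Agent.H45.R2Abs
import Cfsg.Agent.S0802
import Cfsg.Agent.H51.R2PSLNorm

/-!
# R2 piece L2 (helper51, for helper45's S1152 + S1157 project)

Subgroups of order 4 of `PSL₂(3^(2m+1))` are self-centralising: `PSL₂` contains a copy `H` of
`A₄` (S0802); its four-group `V₁` has `N(V₁) = H` (orders, L1), so `C(V₁) = C_H(V₁) = V₁`; every
subgroup of order 4 is conjugate to `V₁`.
-/

set_option autoImplicit false

universe u

namespace Cfsg.Agent.H51.R2

set_option maxRecDepth 100000 in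
theorem a4_sq_mul : ∀ x y : alternatingGroup (Fin 4),
    x * x = 1 → y * y = 1 → (x * y) * (x * y) = 1 := by
  decide

set_option maxRecDepth 100000 in
theorem a4_cent : ∀ c : alternatingGroup (Fin 4),
    (∀ x : alternatingGroup (Fin 4), x * x = 1 → c * x = x * c) → c * c = 1 := by
  decide

set_option maxRecDepth 100000 in
theorem a4_card : Fintype.card {y : alternatingGroup (Fin 4) // y * y = 1} = 4 := by
  decide

set_option maxRecDepth 100000 in
theorem a4_card_top : Fintype.card (alternatingGroup (Fin 4)) = 12 := by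
  decide

/-- The four-group of `A₄`. -/
def a4V : Subgroup (alternatingGroup (Fin 4)) where
  carrier := {y | y * y = 1}
  one_mem' := mul_one 1
  mul_mem' := fun {x y} hx hy => a4_sq_mul x y hx hy
  inv_mem' := fun {x} hx => by
    show x⁻¹ * x⁻¹ = 1
    rw [← mul_inv_rev, hx, inv_one]

theorem mem_a4V (y : alternatingGroup (Fin 4)) : y ∈ a4V ↔ y * y = 1 := Iff.rfl

theorem a4V_card : Nat.card a4V = 4 := by
  have h : Nat.card a4V = Nat.card {y : alternatingGroup (Fin 4) // y * y = 1} := rfl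
  rw [h]
  exact Nat.card_eq_fintype_card.trans a4_card

/-- A subgroup `H ≅ A₄` of a finite group in which subgroups of order 4 have normalisers of order
12 contains a self-centralising subgroup of order 4. -/
theorem cent_of_A4 {G : Type u} [Group G] [Finite G] (H : Subgroup G)
    (e : H ≃* alternatingGroup (Fin 4))
    (hN : ∀ V : Subgroup G, Nat.card V = 4 →
      Nat.card ↥(Subgroup.normalizer (V : Set G)) = 12) :
    ∃ V₁ : Subgroup G, Nat.card V₁ = 4 ∧ Subgroup.centralizer (V₁ : Set G) = V₁ := by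
  let V₀ : Subgroup H := a4V.comap e.toMonoidHom
  let V₁ : Subgroup G := V₀.map H.subtype
  have hV₀ : ∀ x : H, x ∈ V₀ ↔ (x : G) * x = 1 := by
    intro x
    show e x * e x = 1 ↔ _
    rw [← map_mul, MulEquiv.map_eq_one_iff, ← Subtype.coe_inj]
    rfl
  have hmem : ∀ x : G, x ∈ V₁ ↔ x ∈ H ∧ x * x = 1 := by
    intro x
    constructor
    · rintro ⟨y, hy, rfl⟩
      exact ⟨y.2, (hV₀ y).1 hy⟩
    · rintro ⟨hx, h⟩
      exact ⟨⟨x, hx⟩, (hV₀ ⟨x, hx⟩).2 h, rfl⟩
  have hcard0 : Nat.card V₀ = 4 := by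
    rw [← a4V_card]
    apply Nat.card_congr
    exact
      { toFun := fun x => ⟨e x.1, x.2⟩
        invFun := fun y => ⟨e.symm y.1, by
          show e (e.symm y.1) ∈ a4V
          rw [e.apply_symm_apply]; exact y.2⟩
        left_inv := fun x => Subtype.ext (e.symm_apply_apply x.1)
        right_inv := fun y => Subtype.ext (e.apply_symm_apply y.1) }
  have hcard : Nat.card V₁ = 4 := by
    rw [← hcard0]
    exact Subgroup.card_map_of_injective H.subtype_injective
  have hconj : ∀ h ∈ H, ∀ n ∈ V₁, h * n * h⁻¹ ∈ V₁ := by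
    intro h hh n hn
    rw [hmem] at hn ⊢
    refine ⟨H.mul_mem (H.mul_mem hh hn.1) (H.inv_mem hh), ?_⟩
    calc h * n * h⁻¹ * (h * n * h⁻¹) = h * (n * n) * h⁻¹ := by group
      _ = 1 := by rw [hn.2, mul_one, mul_inv_cancel]
  have hHN : H ≤ Subgroup.normalizer (V₁ : Set G) := by
    intro h hh
    rw [Subgroup.mem_set_normalizer_iff]
    intro n
    constructor
    · exact hconj h hh n
    · intro hn
      have := hconj h⁻¹ (H.inv_mem hh) _ hn
      have h2 : h⁻¹ * (h * n * h⁻¹) * h⁻¹⁻¹ = n := by group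
      rw [h2] at this
      exact this
  have hHcard : Nat.card H = 12 := by
    rw [Nat.card_congr e.toEquiv, Nat.card_eq_fintype_card]
    exact a4_card_top
  have hNeq : H = Subgroup.normalizer (V₁ : Set G) := by
    apply Subgroup.eq_of_le_of_card_ge hHN
    rw [hN V₁ hcard, hHcard]
  refine ⟨V₁, hcard, le_antisymm ?_ ?_⟩
  · intro c hc
    have hcH : c ∈ H := by
      rw [hNeq]
      exact Subgroup.centralizer_le_normalizer (V₁ : Set G) hc
    rw [hmem]
    refine ⟨hcH, ?_⟩
    have h1 : ∀ y : alternatingGroup (Fin 4), y * y = 1 → e ⟨c, hcH⟩ * y = y * e ⟨c, hcH⟩ := by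
      intro y hy
      have hx : ((e.symm y : H) : G) ∈ V₁ := by
        rw [hmem]
        refine ⟨(e.symm y).2, ?_⟩
        have h3 : (e.symm y) * (e.symm y) = 1 := by rw [← map_mul, hy, map_one]
        exact congrArg Subtype.val h3
      have hcomm : ((e.symm y : H) : G) * c = c * (e.symm y : H) :=
        (Subgroup.mem_centralizer_iff.1 hc) _ hx
      have h4 : (e.symm y) * ⟨c, hcH⟩ = ⟨c, hcH⟩ * (e.symm y) := Subtype.ext hcomm
      have h5 := congrArg e h4
      rw [map_mul, map_mul, e.apply_symm_apply] at h5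
      exact h5.symm
    have h2 := a4_cent (e ⟨c, hcH⟩) h1
    have h3 : (⟨c, hcH⟩ : H) * ⟨c, hcH⟩ = 1 := by
      apply e.injective
      rw [map_mul, h2, map_one]
    exact congrArg Subtype.val h3
  · intro x hx
    rw [Subgroup.mem_centralizer_iff]
    intro y hy
    have hxy : x * y ∈ V₁ := V₁.mul_mem hx hy
    have hx2 := ((hmem x).1 hx).2
    have hy2 := ((hmem y).1 hy).2
    have hxy2 := ((hmem _).1 hxy).2
    have hxi : x⁻¹ = x := inv_eq_of_mul_eq_one_right hx2
    have hyi : y⁻¹ = y := inv_eq_of_mul_eq_one_right hy2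
    have hxyi : (x * y)⁻¹ = x * y := inv_eq_of_mul_eq_one_right hxy2
    calc y * x = y⁻¹ * x⁻¹ := by rw [hxi, hyi]
      _ = (x * y)⁻¹ := (mul_inv_rev x y).symm
      _ = x * y := hxyi

/-- The centraliser of a conjugate of a self-centralising subgroup. -/
theorem centralizer_map_conj {G : Type u} [Group G] (V : Subgroup G) (g : G)
    (h : Subgroup.centralizer (V : Set G) = V) :
    Subgroup.centralizer ((V.map (MulAut.conj g).toMonoidHom : Subgroup G) : Set G) =
      V.map (MulAut.conj g).toMonoidHom := by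
  ext x
  rw [Subgroup.mem_centralizer_iff]
  constructor
  · intro hx
    have h1 : g⁻¹ * x * g ∈ Subgroup.centralizer (V : Set G) := by
      rw [Subgroup.mem_centralizer_iff]
      intro y hy
      have h2 := hx (g * y * g⁻¹) ⟨y, hy, by simp [MulAut.conj_apply]⟩
      calc y * (g⁻¹ * x * g) = g⁻¹ * ((g * y * g⁻¹) * x) * g := by group
        _ = g⁻¹ * (x * (g * y * g⁻¹)) * g := by rw [h2]
        _ = g⁻¹ * x * g * y := by group
    rw [h] at h1
    exact ⟨g⁻¹ * x * g, h1, by simp [MulAut.conj_apply, mul_assoc]⟩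
  · rintro ⟨z, hz, rfl⟩ y ⟨w, hw, rfl⟩
    have hzC : z ∈ Subgroup.centralizer (V : Set G) := by rw [h]; exact hz
    have h2 := (Subgroup.mem_centralizer_iff.1 hzC) w hw
    simp only [MulEquiv.coe_toMonoidHom, MulAut.conj_apply]
    calc g * w * g⁻¹ * (g * z * g⁻¹) = g * (w * z) * g⁻¹ := by group
      _ = g * (z * w) * g⁻¹ := by rw [h2]
      _ = g * z * g⁻¹ * (g * w * g⁻¹) := by group

/-- **R2 piece L2**, from L1 as a hypothesis. -/
theorem pslCent_of (h1 : Cfsg.Agent.H45.R2.PSLNormStmt.{u}) :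
    Cfsg.Agent.H45.R2.PSLCentStmt.{u} := by
  intro K _ _ m hK V hV
  have : Fact (Nat.Prime 3) := ⟨Nat.prime_three⟩
  have : CharP K 3 := charP_of_card_eq_prime_pow hK
  obtain ⟨H, ⟨e⟩⟩ := (Cfsg.Agent.S0802.result (F := K) 3 (2 * m + 1) hK).2
    (by rintro ⟨h, -⟩; omega)
  obtain ⟨V₁, hV₁, hC⟩ := cent_of_A4 H e (fun W hW => h1 K m hK W hW)
  obtain ⟨k, hk, hcard⟩ := card_psl2_four_odd K m hK
  have hfac := factorization_two_of_four_odd hcard hk
  obtain ⟨g, rfl⟩ := conj_of_card_four hfac V₁ V hV₁ hV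
  exact centralizer_map_conj V₁ g hC

/-- **R2 piece L2**. -/
theorem pslCent : Cfsg.Agent.H45.R2.PSLCentStmt.{u} := pslCent_of pslNorm

example : Cfsg.Agent.H45.R2.PSLCentStmt.{u} := pslCent

end Cfsg.Agent.H51.R2
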