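import Mathlib
import Cfsg.Agent.H45.S8Defs0

/-!
# S8-DVD (helper51, for helper45, S1158)

Centralisers of elements of prime order dividing `M = q² - q + 1` have order dividing `M`:
by Cauchy, a prime `s ∣ |C(y)|` dividing `q³(q-1)(q+1)` gives `z ∈ C(y)` of order `s`, and the
three hypotheses on `C(z)` force `|y|` to divide `q(q-1)(q+1)`, which is coprime to `M`.
-/

set_option autoImplicit false

namespace Cfsg.Agent.H51.S8

open Cfsg.Agent.H45.S8

universe u

theorem qq_mod4 (m : ℕ) : qq m % 4 = 3 := by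
  unfold qq
  rw [pow_succ, pow_mul]
  have : (3 ^ 2) ^ m % 4 = 1 := by
    rw [Nat.pow_mod]; norm_num
  omega

theorem three_dvd_qq (m : ℕ) : 3 ∣ qq m := by
  unfold qq
  exact dvd_pow_self 3 (by omega)

theorem MM_eq (m : ℕ) : MM m = qq m * (qq m - 1) + 1 := by
  unfold MM
  have h4 := qq_mod4 m
  obtain ⟨t, ht⟩ : ∃ t, qq m = t + 1 := ⟨qq m - 1, by omega⟩
  rw [ht]
  have e : t + 1 - 1 = t := by omega
  have : (t + 1) ^ 2 - (t + 1) = (t + 1) * t := by
    apply Nat.sub_eq_of_eq_add; ring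
  rw [this, e]

theorem GG_eq (m : ℕ) : GG m = (qq m ^ 3 * (qq m - 1) * (qq m + 1)) * MM m := by
  rw [MM_eq]
  unfold GG
  have h4 := qq_mod4 m
  obtain ⟨t, ht⟩ : ∃ t, qq m = t + 1 := ⟨qq m - 1, by omega⟩
  rw [ht]
  have e : t + 1 - 1 = t := by omega
  rw [e]; ring

theorem dvd : StDvd.{u} := by
  intro G _ _ m hm hG h1 h2 h3 y hy hyM
  have hq3 : 3 ∣ qq m := three_dvd_qq m
  have hq4 : qq m % 4 = 3 := qq_mod4 m
  have hk : 4 * kk m = qq m + 1 := by unfold kk; omega
  have hMM := MM_eq m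
  have hGG := GG_eq m
  have hp1 : ¬ orderOf y ∣ 1 := fun h => hy.ne_one (Nat.dvd_one.1 h)
  have hpq : ¬ orderOf y ∣ qq m := fun h => hp1 <| by
    have h' : orderOf y ∣ qq m * (qq m - 1) := Dvd.dvd.mul_right h _
    rw [hMM] at hyM
    exact (Nat.dvd_add_right h').1 hyM
  have hpq1 : ¬ orderOf y ∣ qq m - 1 := fun h => hp1 <| by
    have h' : orderOf y ∣ qq m * (qq m - 1) := Dvd.dvd.mul_left h _
    rw [hMM] at hyM
    exact (Nat.dvd_add_right h').1 hyM
  have hpq2 : ¬ orderOf y ∣ qq m + 1 := fun h => by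
    have hM3 : MM m = (qq m + 1) * (qq m - 2) + 3 := by
      rw [hMM]
      obtain ⟨t, ht⟩ : ∃ t, qq m = t + 2 := ⟨qq m - 2, by omega⟩
      rw [ht]
      have e1 : t + 2 - 1 = t + 1 := by omega
      have e2 : t + 2 - 2 = t := by omega
      rw [e1, e2]; ring
    have h' : orderOf y ∣ (qq m + 1) * (qq m - 2) := Dvd.dvd.mul_right h _
    rw [hM3] at hyM
    have h3' : orderOf y ∣ 3 := (Nat.dvd_add_right h').1 hyM
    have h3'' : orderOf y = 3 := (Nat.prime_dvd_prime_iff_eq hy Nat.prime_three).1 h3'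
    rw [h3''] at h
    omega
  have hCG : Nat.card ↥(Subgroup.centralizer ({y} : Set G)) ∣ Nat.card G :=
    Subgroup.card_subgroup_dvd_card _
  rw [hG, hGG] at hCG
  refine Nat.Coprime.dvd_of_dvd_mul_left ?_ hCG
  apply Nat.coprime_of_dvd
  intro s hs hsC hsq
  have : Fact s.Prime := ⟨hs⟩
  obtain ⟨z, hz⟩ := exists_prime_orderOf_dvd_card' s hsC
  have hzG : orderOf (z : G) = s := by rw [Subgroup.orderOf_coe]; exact hz
  have hzy : y * (z : G) = (z : G) * y := (Subgroup.mem_centralizer_singleton_iff.1 z.2).symm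
  have hyCz : y ∈ Subgroup.centralizer ({(z : G)} : Set G) :=
    Subgroup.mem_centralizer_singleton_iff.2 hzy
  have hpC : orderOf y ∣ Nat.card ↥(Subgroup.centralizer ({(z : G)} : Set G)) :=
    Subgroup.orderOf_dvd_natCard _ hyCz
  by_cases hs2 : s = 2
  · have hz1 : (z : G) ≠ 1 := by
      intro h
      rw [h, orderOf_one] at hzG
      omega
    have hzz : (z : G) * (z : G) = 1 := by
      rw [← pow_two, ← hs2, ← hzG]; exact pow_orderOf_eq_one _
    rw [h1 _ hz1 hzz] at hpC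
    have e : qq m ^ 2 - 1 = (qq m - 1) * (qq m + 1) := by
      obtain ⟨t, ht⟩ : ∃ t, qq m = t + 1 := ⟨qq m - 1, by omega⟩
      rw [ht]
      have e1 : t + 1 - 1 = t := by omega
      rw [e1]
      apply Nat.sub_eq_of_eq_add; ring
    rw [e] at hpC
    rcases (Nat.Prime.dvd_mul hy).1 hpC with h | h
    · exact hpq h
    · rcases (Nat.Prime.dvd_mul hy).1 h with h | h
      · exact hpq1 h
      · exact hpq2 h
  · rcases (Nat.Prime.dvd_mul hs).1 hsq with h | h
    · have hsqq : s ∣ qq m * (qq m - 1) := by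
        rcases (Nat.Prime.dvd_mul hs).1 h with h | h
        · exact Dvd.dvd.mul_right (hs.dvd_of_dvd_pow h) _
        · exact Dvd.dvd.mul_left h _
      have hpow := h2 (z : G) y (by rw [hzG]; exact hs) (by rw [hzG]; exact hs2)
        (by rw [hzG]; exact hsqq) hzy
      have hp := orderOf_dvd_of_pow_eq_one hpow
      rcases (Nat.Prime.dvd_mul hy).1 hp with h | h
      · exact hpq (hy.dvd_of_dvd_pow h)
      · exact hpq1 h
    · rw [← hk] at h
      have hsk : s ∣ kk m := by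
        rcases (Nat.Prime.dvd_mul hs).1 h with h | h
        · exfalso
          have h4 : s ∣ 2 ^ 2 := by norm_num; exact h
          exact hs2 ((Nat.prime_dvd_prime_iff_eq hs Nat.prime_two).1 (hs.dvd_of_dvd_pow h4))
        · exact h
      rw [h3 (z : G) (by rw [hzG]; exact hs) (by rw [hzG]; exact hsk)] at hpC
      exact hpq2 hpC

example : Cfsg.Agent.H45.S8.StDvd.{u} := Cfsg.Agent.H51.S8.dvd

end Cfsg.Agent.H51.S8
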