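import Cfsg.Agent.H51.AnMom
import Cfsg.Agent.H16.PermChar
import Cfsg.Agent.H19.BSTransfer

set_option autoImplicit false
set_option linter.unusedSectionVars false

/-!
# S4560 (helper51), part 2: three irreducible characters of a 4-transitive group

For a finite group `G` acting 4-transitively on `Ω` (`|Ω| ≥ 4`), with `F` the number of fixed
points and `D` the number of points in 2-cycles:
`F - 1`, `(F² - 3F + D)/2`, `(F² - 3F + 2 - D)/2` are irreducible characters.
-/

namespace Cfsg.Agent.H51.AnCh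

open Cfsg Cfsg.Agent.H4
open scoped ComplexConjugate

universe u

section Abstract

variable {G : Type u} [Group G] [Fintype G]

/-- a virtual character `z / c` with `∑ z² = c² |G|` and `z 1 > 0` is irreducible. -/
theorem irr_of_int (θ : G → ℂ) (hgen : IsGeneralizedCharacter G θ) (z : G → ℤ) (c : ℤ)
    (hc : 0 < c) (hθ : ∀ g, θ g = (z g : ℂ) / (c : ℂ))
    (hsum : ∑ g : G, z g ^ 2 = c ^ 2 * (Nat.card G : ℤ)) (hpos : 0 < z 1) :
    IsIrrCharacter G θ := by
  have hc' : (c : ℂ) ≠ 0 := by exact_mod_cast hc.ne'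
  have hG : (Nat.card G : ℂ) ≠ 0 := by
    have : 0 < Nat.card G := Nat.card_pos
    exact_mod_cast this.ne'
  apply Cfsg.Agent.H19.isIrrCharacter_of_genChar_norm_one θ hgen
  · unfold classInner
    have h1 : ∀ g : G, θ g * conj (θ g) = ((z g ^ 2 : ℤ) : ℂ) / (c : ℂ) ^ 2 := by
      intro g
      rw [hθ g]
      simp only [map_div₀, map_intCast]
      push_cast
      field_simp
    simp only [h1]
    rw [← Finset.sum_div, ← Int.cast_sum, hsum]
    push_cast
    field_simp
  · rw [hθ 1]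
    have h2 : ((z 1 : ℂ) / (c : ℂ)) = (((z 1 : ℝ) / (c : ℝ) : ℝ) : ℂ) := by push_cast; rfl
    rw [h2, Complex.ofReal_re]
    have h3 : (0 : ℝ) < z 1 := by exact_mod_cast hpos
    have h4 : (0 : ℝ) < c := by exact_mod_cast hc
    positivity

end Abstract

section Pair

variable {G : Type u} [Group G] {Ω : Type} [Fintype Ω] [DecidableEq Ω] [MulAction G Ω]

/-- the 2-subsets. -/
def Pair (Ω : Type) : Type := {s : Finset Ω // s.card = 2}

instance pairFintype : Fintype (Pair Ω) := by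
  unfold Pair
  infer_instance

instance pairAction : MulAction G (Pair Ω) where
  smul g s := ⟨s.1.image (fun a => g • a), by
    rw [Finset.card_image_of_injective _ (MulAction.injective g)]; exact s.2⟩
  one_smul s := Subtype.ext (by
    show s.1.image (fun a => (1 : G) • a) = s.1
    simp)
  mul_smul g h s := Subtype.ext (by
    show s.1.image (fun a => (g * h) • a) = (s.1.image (fun a => h • a)).image (fun a => g • a)
    rw [Finset.image_image]
    congr 1
    ext a
    simp [mul_smul])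

theorem pair_smul_val (g : G) (s : Pair Ω) : (g • s).1 = s.1.image (fun a => g • a) := rfl

theorem card_fixedBy_pair (g : G) : Nat.card (MulAction.fixedBy (Pair Ω) g) = fixP Ω g := by
  rw [fixP_eq]
  apply Nat.card_congr
  exact
    { toFun := fun s => ⟨s.1.1, s.1.2, congrArg Subtype.val s.2⟩
      invFun := fun t => ⟨⟨t.1, t.2.1⟩, Subtype.ext t.2.2⟩
      left_inv := fun s => rfl
      right_inv := fun t => rfl }

theorem card_fixedBy_pt (g : G) : Nat.card (MulAction.fixedBy Ω g) = fixN Ω g := rfl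

theorem isCharacter_fixN : IsCharacter G (fun g => (fixN Ω g : ℂ)) := by
  have h := isCharacter_of_rep (Cfsg.permRep ℂ G Ω)
  have e : (Cfsg.permRep ℂ G Ω).character = fun g => (fixN Ω g : ℂ) :=
    funext fun g => by rw [Cfsg.Agent.H16.character_permRep, card_fixedBy_pt]
  rw [e] at h
  exact h

theorem isCharacter_fixP : IsCharacter G (fun g => (fixP Ω g : ℂ)) := by
  have h := isCharacter_of_rep (Cfsg.permRep ℂ G (Pair Ω))
  have e : (Cfsg.permRep ℂ G (Pair Ω)).character = fun g => (fixP Ω g : ℂ) :=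
    funext fun g => by rw [Cfsg.Agent.H16.character_permRep, card_fixedBy_pair]
  rw [e] at h
  exact h

theorem fixN_one : fixN Ω (1 : G) = Nat.card Ω := by
  unfold fixN
  exact Nat.card_congr (Equiv.subtypeUnivEquiv (fun a => one_smul G a))

theorem swpN_one : swpN Ω (1 : G) = 0 := by
  unfold swpN
  have : IsEmpty {a : Ω // (1 : G) • a ≠ a ∧ (1 : G) • (1 : G) • a = a} :=
    ⟨fun a => a.2.1 (one_smul _ _)⟩
  exact Nat.card_of_isEmpty

theorem fixP_cast (g : G) :
    (fixP Ω g : ℂ) = ((fixN Ω g : ℂ) ^ 2 + swpN Ω g - fixN Ω g) / 2 := by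
  have h := two_fixP (Ω := Ω) g
  have h' : (2 : ℂ) * fixP Ω g + fixN Ω g = (fixN Ω g : ℂ) * fixN Ω g + swpN Ω g := by
    exact_mod_cast h
  linear_combination (1 / 2 : ℂ) * h'

end Pair

section Irr

variable {G : Type u} [Group G] [Fintype G] {Ω : Type} [Fintype Ω] [DecidableEq Ω]
  [MulAction G Ω] (h4 : MulAction.IsMultiplyPretransitive G Ω 4) (hΩ : 4 ≤ Nat.card Ω)

include h4 hΩ

theorem irr1 : IsIrrCharacter G (fun g => (fixN Ω g : ℂ) - 1) := by
  refine irr_of_int _ ⟨fun g => (fixN Ω g : ℂ), fun _ => 1, isCharacter_fixN,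
    isCharacter_of_isIrrCharacter isIrrCharacter_one, rfl⟩ (fun g => FZ Ω g - 1) 1 one_pos ?_ ?_ ?_
  · intro g
    simp [FZ]
  · rw [sum1 h4 hΩ]
    ring
  · show 0 < FZ Ω (1 : G) - 1
    rw [FZ, fixN_one]
    omega

theorem irr2 : IsIrrCharacter G
    (fun g => ((fixN Ω g : ℂ) ^ 2 - 3 * fixN Ω g + swpN Ω g) / 2) := by
  refine irr_of_int _ ⟨fun g => (fixP Ω g : ℂ), fun g => (fixN Ω g : ℂ), isCharacter_fixP,
    isCharacter_fixN, ?_⟩ (fun g => FZ Ω g ^ 2 - 3 * FZ Ω g + DZ Ω g) 2 two_pos ?_ ?_ ?_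
  · funext g
    rw [Pi.sub_apply, fixP_cast]
    ring
  · intro g
    simp [FZ, DZ]
  · rw [sum2 h4 hΩ]
    ring
  · show 0 < FZ Ω (1 : G) ^ 2 - 3 * FZ Ω (1 : G) + DZ Ω (1 : G)
    rw [FZ, DZ, fixN_one, swpN_one]
    have : (4 : ℤ) ≤ Nat.card Ω := by exact_mod_cast hΩ
    push_cast
    nlinarith

theorem irr3 : IsIrrCharacter G
    (fun g => ((fixN Ω g : ℂ) ^ 2 - 3 * fixN Ω g + 2 - swpN Ω g) / 2) := by
  refine irr_of_int _ ⟨(fun g => (fixN Ω g : ℂ)) * (fun g => (fixN Ω g : ℂ)) + (fun _ => 1),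
    (fun g => (fixP Ω g : ℂ)) + ((fun g => (fixN Ω g : ℂ)) + (fun g => (fixN Ω g : ℂ))),
    isCharacter_add (isCharacter_mul isCharacter_fixN isCharacter_fixN)
      (isCharacter_of_isIrrCharacter isIrrCharacter_one),
    isCharacter_add isCharacter_fixP (isCharacter_add isCharacter_fixN isCharacter_fixN), ?_⟩
    (fun g => FZ Ω g ^ 2 - 3 * FZ Ω g + 2 - DZ Ω g) 2 two_pos ?_ ?_ ?_
  · funext g
    simp only [Pi.sub_apply, Pi.add_apply, Pi.mul_apply]
    rw [fixP_cast]
    ring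
  · intro g
    simp [FZ, DZ]
  · rw [sum3 h4 hΩ]
    ring
  · show 0 < FZ Ω (1 : G) ^ 2 - 3 * FZ Ω (1 : G) + 2 - DZ Ω (1 : G)
    rw [FZ, DZ, fixN_one, swpN_one]
    have : (4 : ℤ) ≤ Nat.card Ω := by exact_mod_cast hΩ
    push_cast
    nlinarith

end Irr

end Cfsg.Agent.H51.AnCh
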