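import Mathlib

set_option autoImplicit false

/-!
# S4560 (helper51), part 1: moments of fixed-point counts for 4-transitive groups

For a finite group `G` acting on a finite set `Ω`, with `F g` the number of fixed points of `g`
and `D g` the number of points lying in 2-cycles of `g`, we compute, for a 4-fold transitive
action, the sums over `G` of the polynomials in `F`, `D` needed to show that three virtual
characters have norm one.
-/

namespace Cfsg.Agent.H51.AnCh

open Finset

section TauCount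

variable {G X : Type*} [Group G] [Fintype G] [Finite X] [MulAction G X]

/-- For a transitive action and ANY self-map `τ` of `X`, the number of pairs `(g, x)` with
`g • x = τ x` is `|G|`. -/
theorem sum_card_tau [MulAction.IsPretransitive G X] [Nonempty X] (τ : X → X) :
    ∑ g : G, Nat.card {x : X // g • x = τ x} = Nat.card G := by
  classical
  have := Fintype.ofFinite X
  have h1 : ∀ x : X, Nat.card {g : G // g • x = τ x} * Nat.card X = Nat.card G := by
    intro x
    obtain ⟨h, hh⟩ := MulAction.exists_smul_eq G x (τ x)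
    have e : {g : G // g • x = τ x} ≃ MulAction.stabilizer G x :=
      { toFun := fun g => ⟨h⁻¹ * g.1, by
          rw [MulAction.mem_stabilizer_iff, mul_smul, g.2, ← hh, inv_smul_smul]⟩
        invFun := fun s => ⟨h * s.1, by
          rw [mul_smul, MulAction.mem_stabilizer_iff.1 s.2, hh]⟩
        left_inv := fun g => Subtype.ext (by simp)
        right_inv := fun s => Subtype.ext (by simp) }
    rw [Nat.card_congr e, ← MulAction.index_stabilizer_of_transitive G x, Subgroup.card_mul_index]
  have h2 : ∀ g : G, Nat.card {x : X // g • x = τ x} = ∑ x : X, if g • x = τ x then 1 else 0 := by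
    intro g
    rw [Nat.card_eq_fintype_card, Fintype.card_subtype, Finset.card_filter]
  have h3 : ∀ x : X, Nat.card {g : G // g • x = τ x} = ∑ g : G, if g • x = τ x then 1 else 0 := by
    intro x
    rw [Nat.card_eq_fintype_card, Fintype.card_subtype, Finset.card_filter]
  have hX : 0 < Nat.card X := Nat.card_pos
  apply Nat.eq_of_mul_eq_mul_right hX
  simp_rw [h2]
  rw [Finset.sum_comm, Finset.sum_mul]
  simp_rw [← h3, h1]
  rw [Finset.sum_const, Finset.card_univ, smul_eq_mul, Nat.card_eq_fintype_card (α := X), mul_comm]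

end TauCount

section Patterns

variable {G Ω : Type*} [Group G] [Finite Ω] [MulAction G Ω]

/-- number of fixed points. -/
noncomputable def fixN (Ω : Type*) [MulAction G Ω] (g : G) : ℕ := Nat.card {a : Ω // g • a = a}

/-- number of points in 2-cycles. -/
noncomputable def swpN (Ω : Type*) [MulAction G Ω] (g : G) : ℕ :=
  Nat.card {a : Ω // g • a ≠ a ∧ g • g • a = a}

/-- fixed injective tuples. -/
theorem card_fixed_emb (ι : Type*) [Finite ι] (g : G) :
    Nat.card {x : ι ↪ Ω // ∀ i, g • x i = x i} = (fixN Ω g).descFactorial (Nat.card ι) := by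
  classical
  have := Fintype.ofFinite Ω
  have := Fintype.ofFinite ι
  have e : {x : ι ↪ Ω // ∀ i, g • x i = x i} ≃ (ι ↪ {a : Ω // g • a = a}) :=
    { toFun := fun x => ⟨fun i => ⟨x.1 i, x.2 i⟩, fun i j h => x.1.injective (Subtype.ext_iff.1 h)⟩
      invFun := fun y => ⟨y.trans (Function.Embedding.subtype _), fun i => (y i).2⟩
      left_inv := fun x => by ext i; rfl
      right_inv := fun y => by ext i; rfl }
  rw [Nat.card_congr e, Nat.card_eq_fintype_card, Fintype.card_embedding_eq, fixN,
    Nat.card_eq_fintype_card, Nat.card_eq_fintype_card]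

/-- one swapped pair and fixed points. -/
theorem card_swap_emb (κ : Type*) [Finite κ] (g : G) :
    Nat.card {x : Fin 2 ⊕ κ ↪ Ω // g • x (Sum.inl 0) = x (Sum.inl 1) ∧
      g • x (Sum.inl 1) = x (Sum.inl 0) ∧ ∀ j, g • x (Sum.inr j) = x (Sum.inr j)} =
      swpN Ω g * (fixN Ω g).descFactorial (Nat.card κ) := by
  classical
  have e : {x : Fin 2 ⊕ κ ↪ Ω // g • x (Sum.inl 0) = x (Sum.inl 1) ∧
      g • x (Sum.inl 1) = x (Sum.inl 0) ∧ ∀ j, g • x (Sum.inr j) = x (Sum.inr j)} ≃
      {a : Ω // g • a ≠ a ∧ g • g • a = a} × {y : κ ↪ Ω // ∀ j, g • y j = y j} :=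
    { toFun := fun x => (⟨x.1 (Sum.inl 0), by
          rw [x.2.1]
          exact ⟨fun h => by simpa using x.1.injective h, x.2.2.1⟩⟩,
        ⟨Function.Embedding.inr.trans x.1, fun j => x.2.2.2 j⟩)
      invFun := fun p => ⟨⟨Sum.elim ![p.1.1, g • p.1.1] (fun j => p.2.1 j), by
          apply Function.Injective.sumElim
          · intro i j h
            fin_cases i <;> fin_cases j
            · rfl
            · exact absurd h.symm p.1.2.1
            · exact absurd h p.1.2.1
            · rfl
          · exact p.2.1.injective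
          · intro i j h
            have hj := p.2.2 j
            fin_cases i
            · simp only [Fin.zero_eta, Matrix.cons_val_zero] at h
              rw [← h] at hj
              exact p.1.2.1 hj
            · simp only [Fin.mk_one, Matrix.cons_val_one, Matrix.cons_val_zero] at h
              rw [← h] at hj
              exact p.1.2.1 (MulAction.injective g hj)⟩,
          by
            refine ⟨rfl, ?_, fun j => p.2.2 j⟩
            exact p.1.2.2⟩
      left_inv := fun x => by
        apply Subtype.ext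
        ext i
        rcases i with i | j
        · fin_cases i
          · rfl
          · exact x.2.1
        · rfl
      right_inv := fun p => by
        apply Prod.ext
        · rfl
        · apply Subtype.ext
          ext j
          rfl }
  rw [Nat.card_congr e, Nat.card_prod, card_fixed_emb]
  rfl

/-- two swapped pairs. -/
theorem card_swap_swap_emb (g : G) :
    Nat.card {x : Fin 2 ⊕ Fin 2 ↪ Ω // g • x (Sum.inl 0) = x (Sum.inl 1) ∧
      g • x (Sum.inl 1) = x (Sum.inl 0) ∧ g • x (Sum.inr 0) = x (Sum.inr 1) ∧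
      g • x (Sum.inr 1) = x (Sum.inr 0)} + 2 * swpN Ω g = swpN Ω g * swpN Ω g := by
  classical
  have := Fintype.ofFinite Ω
  set S : Finset Ω := univ.filter (fun a => g • a ≠ a ∧ g • g • a = a) with hS
  have hSmem : ∀ a, a ∈ S ↔ (g • a ≠ a ∧ g • g • a = a) := fun a => by simp [hS]
  have hSg : ∀ a ∈ S, g • a ∈ S := by
    intro a ha
    rw [hSmem] at ha ⊢
    refine ⟨?_, by rw [ha.2]⟩
    rw [ha.2]
    exact fun h => ha.1 h.symm
  have hcard : swpN Ω g = S.card := by
    rw [swpN, Nat.card_eq_fintype_card, Fintype.card_subtype]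
  have e : {x : Fin 2 ⊕ Fin 2 ↪ Ω // g • x (Sum.inl 0) = x (Sum.inl 1) ∧
      g • x (Sum.inl 1) = x (Sum.inl 0) ∧ g • x (Sum.inr 0) = x (Sum.inr 1) ∧
      g • x (Sum.inr 1) = x (Sum.inr 0)} ≃
      {p : Ω × Ω // p.1 ∈ S ∧ p.2 ∈ (S.erase p.1).erase (g • p.1)} :=
    { toFun := fun x => ⟨(x.1 (Sum.inl 0), x.1 (Sum.inr 0)), by
        have h0 : x.1 (Sum.inl 0) ∈ S := by
          rw [hSmem, x.2.1]
          exact ⟨fun h => by simpa using x.1.injective h, x.2.2.1⟩
        have h1 : x.1 (Sum.inr 0) ∈ S := by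
          rw [hSmem, x.2.2.2.1]
          exact ⟨fun h => by simpa using x.1.injective h, x.2.2.2.2⟩
        refine ⟨h0, ?_⟩
        rw [Finset.mem_erase, Finset.mem_erase]
        refine ⟨?_, ?_, h1⟩
        · rw [x.2.1]
          exact fun h => by simpa using x.1.injective h
        · exact fun h => by simpa using x.1.injective h⟩
      invFun := fun p => ⟨⟨Sum.elim ![p.1.1, g • p.1.1] ![p.1.2, g • p.1.2], by
          have ha := (hSmem _).1 p.2.1
          have hb' := p.2.2
          rw [Finset.mem_erase, Finset.mem_erase] at hb'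
          have hb := (hSmem _).1 hb'.2.2
          apply Function.Injective.sumElim
          · intro i j h
            fin_cases i <;> fin_cases j
            · rfl
            · exact absurd h.symm ha.1
            · exact absurd h ha.1
            · rfl
          · intro i j h
            fin_cases i <;> fin_cases j
            · rfl
            · exact absurd h.symm hb.1
            · exact absurd h hb.1
            · rfl
          · intro i j h
            fin_cases i <;> fin_cases j
            · exact hb'.2.1 h.symm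
            · simp only [Fin.zero_eta, Fin.mk_one, Matrix.cons_val_zero, Matrix.cons_val_one] at h
              apply hb'.1
              rw [h, hb.2]
            · simp only [Fin.zero_eta, Fin.mk_one, Matrix.cons_val_zero, Matrix.cons_val_one] at h
              exact hb'.1 h.symm
            · simp only [Fin.mk_one, Matrix.cons_val_one, Matrix.cons_val_zero] at h
              exact hb'.2.1 (MulAction.injective g h).symm⟩,
          by
            have ha := (hSmem _).1 p.2.1
            have hb' := p.2.2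
            rw [Finset.mem_erase, Finset.mem_erase] at hb'
            have hb := (hSmem _).1 hb'.2.2
            exact ⟨rfl, ha.2, rfl, hb.2⟩⟩
      left_inv := fun x => by
        apply Subtype.ext
        ext i
        rcases i with i | j
        · fin_cases i
          · rfl
          · exact x.2.1
        · fin_cases j
          · rfl
          · exact x.2.2.2.1
      right_inv := fun p => by
        apply Subtype.ext
        rfl }
  have hE : ∀ a ∈ S, ((S.erase a).erase (g • a)).card + 2 = S.card := by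
    intro a ha
    have h1 : g • a ∈ S.erase a := Finset.mem_erase.2 ⟨((hSmem a).1 ha).1, hSg a ha⟩
    have h2 : 0 < (S.erase a).card := Finset.card_pos.2 ⟨_, h1⟩
    have h3 := Finset.card_erase_of_mem ha
    rw [Finset.card_erase_of_mem h1]
    omega
  have hcount : Nat.card {p : Ω × Ω // p.1 ∈ S ∧ p.2 ∈ (S.erase p.1).erase (g • p.1)} =
      ∑ a ∈ S, ((S.erase a).erase (g • a)).card := by
    rw [Nat.card_eq_fintype_card, Fintype.card_subtype, Finset.card_filter, Fintype.sum_prod_type,
      ← Finset.sum_filter_add_sum_filter_not univ (fun a => a ∈ S)]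
    have hz : ∑ a ∈ univ.filter (fun a => a ∉ S), ∑ b : Ω,
        (if a ∈ S ∧ b ∈ (S.erase a).erase (g • a) then 1 else 0) = 0 := by
      apply Finset.sum_eq_zero
      intro a ha
      rw [Finset.mem_filter] at ha
      apply Finset.sum_eq_zero
      intro b _
      rw [if_neg (fun h => ha.2 h.1)]
    rw [hz, add_zero, Finset.filter_mem_eq_inter, Finset.univ_inter]
    apply Finset.sum_congr rfl
    intro a ha
    rw [Finset.card_eq_sum_ones, ← Finset.sum_filter]
    apply Finset.sum_congr _ (fun _ _ => rfl)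
    ext b
    simp [ha]
  rw [Nat.card_congr e, hcount, hcard]
  calc ∑ a ∈ S, ((S.erase a).erase (g • a)).card + 2 * S.card
      = ∑ a ∈ S, (((S.erase a).erase (g • a)).card + 2) := by
        rw [Finset.sum_add_distrib, Finset.sum_const, smul_eq_mul, mul_comm]
    _ = ∑ _a ∈ S, S.card := Finset.sum_congr rfl hE
    _ = S.card * S.card := by rw [Finset.sum_const, smul_eq_mul]

end Patterns

section Moments

variable {G Ω : Type*} [Group G] [Fintype G] [Finite Ω] [MulAction G Ω]

omit [Fintype G] in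
theorem pretrans_emb (h4 : MulAction.IsMultiplyPretransitive G Ω 4) (hΩ : 4 ≤ Nat.card Ω)
    (ι : Type*) [Finite ι] (hι : Nat.card ι ≤ 4) : MulAction.IsPretransitive G (ι ↪ Ω) := by
  have hm : MulAction.IsMultiplyPretransitive G Ω (Nat.card ι) :=
    MulAction.isMultiplyPretransitive_of_le hι hΩ
  let e : ι ≃ Fin (Nat.card ι) := Finite.equivFin ι
  constructor
  intro x y
  obtain ⟨g, hg⟩ := hm.exists_smul_eq (e.symm.toEmbedding.trans x) (e.symm.toEmbedding.trans y)
  refine ⟨g, ?_⟩
  ext i
  have := congrArg (fun z => z (e i)) hg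
  simpa [Function.Embedding.smul_apply] using this

theorem nonempty_emb (hΩ : 4 ≤ Nat.card Ω) (ι : Type*) [Finite ι] (hι : Nat.card ι ≤ 4) :
    Nonempty (ι ↪ Ω) := by
  have := Fintype.ofFinite Ω
  have := Fintype.ofFinite ι
  apply Function.Embedding.nonempty_of_card_le
  rw [← Nat.card_eq_fintype_card, ← Nat.card_eq_fintype_card]
  omega

/-- the general pattern count. -/
theorem sum_pattern (h4 : MulAction.IsMultiplyPretransitive G Ω 4) (hΩ : 4 ≤ Nat.card Ω)
    (ι : Type*) [Finite ι] (hι : Nat.card ι ≤ 4) (e : Equiv.Perm ι) :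
    ∑ g : G, Nat.card {x : ι ↪ Ω // ∀ i, g • x i = x (e i)} = Nat.card G := by
  have := pretrans_emb h4 hΩ ι hι
  have := nonempty_emb (Ω := Ω) hΩ ι hι
  rw [← sum_card_tau (G := G) (X := ι ↪ Ω) (fun x => e.toEmbedding.trans x)]
  apply Finset.sum_congr rfl
  intro g _
  apply Nat.card_congr
  apply Equiv.subtypeEquivRight
  intro x
  rw [Function.Embedding.ext_iff]
  simp [Function.Embedding.smul_apply]

theorem sum_desc (h4 : MulAction.IsMultiplyPretransitive G Ω 4) (hΩ : 4 ≤ Nat.card Ω)
    (k : ℕ) (hk : k ≤ 4) : ∑ g : G, (fixN Ω g).descFactorial k = Nat.card G := by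
  rw [← sum_pattern h4 hΩ (Fin k) (by rw [Nat.card_fin]; exact hk) 1]
  apply Finset.sum_congr rfl
  intro g _
  rw [← Nat.card_fin k, ← card_fixed_emb (Fin k) g, Nat.card_fin]
  rfl

theorem sum_swp_desc (h4 : MulAction.IsMultiplyPretransitive G Ω 4) (hΩ : 4 ≤ Nat.card Ω)
    (k : ℕ) (hk : k ≤ 2) :
    ∑ g : G, swpN Ω g * (fixN Ω g).descFactorial k = Nat.card G := by
  rw [← sum_pattern h4 hΩ (Fin 2 ⊕ Fin k)
    (by rw [Nat.card_sum, Nat.card_fin, Nat.card_fin]; omega)
    (Equiv.sumCongr (Equiv.swap 0 1) (Equiv.refl _))]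
  apply Finset.sum_congr rfl
  intro g _
  rw [← Nat.card_fin k, ← card_swap_emb (Fin k) g, Nat.card_fin]
  apply Nat.card_congr
  apply Equiv.subtypeEquivRight
  intro x
  simp [Fin.forall_fin_two, and_assoc, Equiv.swap_apply_of_ne_of_ne]

theorem sum_swp_swp (h4 : MulAction.IsMultiplyPretransitive G Ω 4) (hΩ : 4 ≤ Nat.card Ω) :
    ∑ g : G, swpN Ω g * swpN Ω g = Nat.card G + 2 * ∑ g : G, swpN Ω g := by
  rw [← sum_pattern h4 hΩ (Fin 2 ⊕ Fin 2)
    (by rw [Nat.card_sum, Nat.card_fin])
    (Equiv.sumCongr (Equiv.swap 0 1) (Equiv.swap 0 1)), Finset.mul_sum, ← Finset.sum_add_distrib]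
  apply Finset.sum_congr rfl
  intro g _
  rw [← card_swap_swap_emb g]
  congr 1
  apply Nat.card_congr
  apply Equiv.subtypeEquivRight
  intro x
  simp [Fin.forall_fin_two, and_assoc]

/-! ### integer forms -/

/-- `F g`, the number of fixed points, as an integer. -/
noncomputable def FZ (Ω : Type*) [MulAction G Ω] (g : G) : ℤ := (fixN Ω g : ℤ)

/-- `D g`, the number of points in 2-cycles, as an integer. -/
noncomputable def DZ (Ω : Type*) [MulAction G Ω] (g : G) : ℤ := (swpN Ω g : ℤ)

theorem cast_desc3 (a : ℕ) : ((a.descFactorial 3 : ℕ) : ℤ) = (a : ℤ) * (a - 1) * (a - 2) := by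
  rw [← descPochhammer_eval_eq_descFactorial ℤ a 3]
  simp [descPochhammer_succ_right]

theorem cast_desc4 (a : ℕ) :
    ((a.descFactorial 4 : ℕ) : ℤ) = (a : ℤ) * (a - 1) * (a - 2) * (a - 3) := by
  rw [← descPochhammer_eval_eq_descFactorial ℤ a 4]
  simp [descPochhammer_succ_right]

variable (h4 : MulAction.IsMultiplyPretransitive G Ω 4) (hΩ : 4 ≤ Nat.card Ω)

include h4 hΩ

theorem m1 : ∑ g : G, FZ Ω g = (Nat.card G : ℤ) := by
  have h := sum_desc h4 hΩ 1 (by norm_num)
  simp only [Nat.descFactorial_one] at h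
  rw [← h]
  push_cast
  rfl

theorem m2 : ∑ g : G, FZ Ω g * (FZ Ω g - 1) = (Nat.card G : ℤ) := by
  have h := sum_desc h4 hΩ 2 (by norm_num)
  rw [← h]
  push_cast
  apply Finset.sum_congr rfl
  intro g _
  rw [Nat.cast_descFactorial_two]
  rfl

theorem m3 : ∑ g : G, FZ Ω g * (FZ Ω g - 1) * (FZ Ω g - 2) = (Nat.card G : ℤ) := by
  have h := sum_desc h4 hΩ 3 (by norm_num)
  rw [← h]
  push_cast
  apply Finset.sum_congr rfl
  intro g _
  rw [cast_desc3]
  rfl

theorem m4 : ∑ g : G, FZ Ω g * (FZ Ω g - 1) * (FZ Ω g - 2) * (FZ Ω g - 3) = (Nat.card G : ℤ) := by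
  have h := sum_desc h4 hΩ 4 (by norm_num)
  rw [← h]
  push_cast
  apply Finset.sum_congr rfl
  intro g _
  rw [cast_desc4]
  rfl

theorem n0 : ∑ g : G, DZ Ω g = (Nat.card G : ℤ) := by
  have h := sum_swp_desc h4 hΩ 0 (by norm_num)
  simp only [Nat.descFactorial_zero, mul_one] at h
  rw [← h]
  push_cast
  rfl

theorem n1 : ∑ g : G, DZ Ω g * FZ Ω g = (Nat.card G : ℤ) := by
  have h := sum_swp_desc h4 hΩ 1 (by norm_num)
  simp only [Nat.descFactorial_one] at h
  rw [← h]
  push_cast
  rfl

theorem n2 : ∑ g : G, DZ Ω g * (FZ Ω g * (FZ Ω g - 1)) = (Nat.card G : ℤ) := by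
  have h := sum_swp_desc h4 hΩ 2 (by norm_num)
  rw [← h]
  push_cast
  apply Finset.sum_congr rfl
  intro g _
  rw [Nat.cast_descFactorial_two]
  rfl

theorem r0 : ∑ g : G, DZ Ω g * DZ Ω g = 3 * (Nat.card G : ℤ) := by
  have h := sum_swp_swp (G := G) h4 hΩ
  have h' : ∑ g : G, DZ Ω g * DZ Ω g = (Nat.card G : ℤ) + 2 * ∑ g : G, DZ Ω g := by
    have := congrArg (fun n : ℕ => (n : ℤ)) h
    simp only [Nat.cast_sum, Nat.cast_mul, Nat.cast_add, Nat.cast_ofNat] at this
    exact this
  rw [h', n0 h4 hΩ]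
  ring

/-- the norm sum for `F - 1`. -/
theorem sum1 : ∑ g : G, (FZ Ω g - 1) ^ 2 = (Nat.card G : ℤ) := by
  have key : ∀ g : G, (FZ Ω g - 1) ^ 2 = FZ Ω g * (FZ Ω g - 1) - FZ Ω g + 1 := fun g => by ring
  simp only [key, Finset.sum_add_distrib, Finset.sum_sub_distrib]
  rw [m1 h4 hΩ, m2 h4 hΩ]
  simp [Nat.card_eq_fintype_card]

/-- the norm sum for `F² - 3F + D`. -/
theorem sum2 : ∑ g : G, (FZ Ω g ^ 2 - 3 * FZ Ω g + DZ Ω g) ^ 2 = 4 * (Nat.card G : ℤ) := by
  have key : ∀ g : G, (FZ Ω g ^ 2 - 3 * FZ Ω g + DZ Ω g) ^ 2 =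
      FZ Ω g * (FZ Ω g - 1) * (FZ Ω g - 2) * (FZ Ω g - 3) - 2 * (FZ Ω g * (FZ Ω g - 1)) +
        4 * FZ Ω g + 2 * (DZ Ω g * (FZ Ω g * (FZ Ω g - 1))) - 4 * (DZ Ω g * FZ Ω g) +
        DZ Ω g * DZ Ω g := fun g => by ring
  simp only [key, Finset.sum_add_distrib, Finset.sum_sub_distrib, ← Finset.mul_sum]
  rw [m1 h4 hΩ, m2 h4 hΩ, m4 h4 hΩ, n1 h4 hΩ, n2 h4 hΩ, r0 h4 hΩ]
  ring

/-- the norm sum for `F² - 3F + 2 - D`. -/
theorem sum3 : ∑ g : G, (FZ Ω g ^ 2 - 3 * FZ Ω g + 2 - DZ Ω g) ^ 2 = 4 * (Nat.card G : ℤ) := by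
  have key : ∀ g : G, (FZ Ω g ^ 2 - 3 * FZ Ω g + 2 - DZ Ω g) ^ 2 =
      FZ Ω g * (FZ Ω g - 1) * (FZ Ω g - 2) * (FZ Ω g - 3) + 2 * (FZ Ω g * (FZ Ω g - 1)) -
        4 * FZ Ω g + 4 - 2 * (DZ Ω g * (FZ Ω g * (FZ Ω g - 1))) + 4 * (DZ Ω g * FZ Ω g) -
        4 * DZ Ω g + DZ Ω g * DZ Ω g := fun g => by ring
  simp only [key, Finset.sum_add_distrib, Finset.sum_sub_distrib, ← Finset.mul_sum]
  rw [m1 h4 hΩ, m2 h4 hΩ, m4 h4 hΩ, n0 h4 hΩ, n1 h4 hΩ, n2 h4 hΩ, r0 h4 hΩ]
  simp [Nat.card_eq_fintype_card]
  ring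

end Moments

section Pairs

variable {G Ω : Type*} [Group G] [Finite Ω] [MulAction G Ω]

/-- number of fixed 2-subsets. -/
noncomputable def fixP (Ω : Type*) [MulAction G Ω] (g : G) : ℕ := by
  classical
  exact Nat.card {s : Finset Ω // s.card = 2 ∧ s.image (fun a => g • a) = s}

omit [Finite Ω] in
theorem fixP_eq [DecidableEq Ω] (g : G) :
    fixP Ω g = Nat.card {s : Finset Ω // s.card = 2 ∧ s.image (fun a => g • a) = s} := by
  unfold fixP
  congr!

/-- twice the number of fixed 2-subsets. -/
theorem two_fixP (g : G) : 2 * fixP Ω g + fixN Ω g = fixN Ω g * fixN Ω g + swpN Ω g := by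
  classical
  have := Fintype.ofFinite Ω
  set Fx : Finset Ω := univ.filter (fun a => g • a = a) with hFx
  set S : Finset Ω := univ.filter (fun a => g • a ≠ a ∧ g • g • a = a) with hS
  set P : Finset (Finset Ω) := univ.filter (fun s => s.card = 2 ∧ s.image (fun a => g • a) = s)
    with hP
  set T : Finset (Ω × Ω) := univ.filter (fun p => p.1 ≠ p.2 ∧
    ((g • p.1 = p.1 ∧ g • p.2 = p.2) ∨ (g • p.1 = p.2 ∧ g • p.2 = p.1))) with hT
  have hTmem : ∀ p : Ω × Ω, p ∈ T ↔ (p.1 ≠ p.2 ∧
    ((g • p.1 = p.1 ∧ g • p.2 = p.2) ∨ (g • p.1 = p.2 ∧ g • p.2 = p.1))) := fun p => by simp [hT]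
  have hPmem : ∀ s : Finset Ω, s ∈ P ↔ (s.card = 2 ∧ s.image (fun a => g • a) = s) :=
    fun s => by simp [hP]
  have c1 : fixN Ω g = Fx.card := by
    rw [fixN, Nat.card_eq_fintype_card, Fintype.card_subtype]
  have c2 : swpN Ω g = S.card := by
    rw [swpN, Nat.card_eq_fintype_card, Fintype.card_subtype]
  have c3 : fixP Ω g = P.card := by
    rw [fixP_eq, Nat.card_eq_fintype_card, Fintype.card_subtype]
  -- (1) T is a double cover of P
  have h1 : T.card = 2 * P.card := by
    have hmaps : Set.MapsTo (fun p : Ω × Ω => ({p.1, p.2} : Finset Ω)) (T : Set (Ω × Ω))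
        (P : Set (Finset Ω)) := by
      intro p hp
      rw [Finset.mem_coe, hTmem] at hp
      rw [Finset.mem_coe, hPmem]
      refine ⟨Finset.card_pair hp.1, ?_⟩
      rw [Finset.image_insert, Finset.image_singleton]
      rcases hp.2 with ⟨h1, h2⟩ | ⟨h1, h2⟩
      · rw [h1, h2]
      · rw [h1, h2, Finset.pair_comm]
    rw [Finset.card_eq_sum_card_fiberwise hmaps]
    have hfib : ∀ s ∈ P, (T.filter (fun p => ({p.1, p.2} : Finset Ω) = s)).card = 2 := by
      intro s hs
      rw [hPmem] at hs
      obtain ⟨a, b, hab, rfl⟩ := Finset.card_eq_two.1 hs.1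
      have hga : g • a ∈ ({a, b} : Finset Ω) := by
        rw [← hs.2]
        exact Finset.mem_image_of_mem _ (Finset.mem_insert_self a _)
      have hgb : g • b ∈ ({a, b} : Finset Ω) := by
        rw [← hs.2]
        exact Finset.mem_image_of_mem _ (Finset.mem_insert_of_mem (Finset.mem_singleton_self b))
      rw [Finset.mem_insert, Finset.mem_singleton] at hga hgb
      have hne : g • a ≠ g • b := fun h => hab (MulAction.injective g h)
      have hcond : (g • a = a ∧ g • b = b) ∨ (g • a = b ∧ g • b = a) := by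
        rcases hga with h | h <;> rcases hgb with h' | h'
        · exact absurd (h.trans h'.symm) hne
        · exact Or.inl ⟨h, h'⟩
        · exact Or.inr ⟨h, h'⟩
        · exact absurd (h.trans h'.symm) hne
      have heq : T.filter (fun p => ({p.1, p.2} : Finset Ω) = {a, b}) = {(a, b), (b, a)} := by
        ext p
        rw [Finset.mem_filter, hTmem, Finset.mem_insert, Finset.mem_singleton]
        constructor
        · rintro ⟨⟨hp, -⟩, he⟩
          have h1 : p.1 ∈ ({a, b} : Finset Ω) := by
            rw [← he]; exact Finset.mem_insert_self _ _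
          have h2 : p.2 ∈ ({a, b} : Finset Ω) := by
            rw [← he]; exact Finset.mem_insert_of_mem (Finset.mem_singleton_self _)
          rw [Finset.mem_insert, Finset.mem_singleton] at h1 h2
          rcases h1 with h1 | h1 <;> rcases h2 with h2 | h2
          · exact absurd (h1.trans h2.symm) hp
          · exact Or.inl (Prod.ext h1 h2)
          · exact Or.inr (Prod.ext h1 h2)
          · exact absurd (h1.trans h2.symm) hp
        · rintro (rfl | rfl)
          · exact ⟨⟨hab, hcond⟩, rfl⟩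
          · refine ⟨⟨hab.symm, ?_⟩, Finset.pair_comm _ _⟩
            rcases hcond with ⟨h1, h2⟩ | ⟨h1, h2⟩
            · exact Or.inl ⟨h2, h1⟩
            · exact Or.inr ⟨h2, h1⟩
      rw [heq, Finset.card_pair]
      intro h
      exact hab (Prod.ext_iff.1 h).1
    rw [Finset.sum_congr rfl hfib, Finset.sum_const, smul_eq_mul, mul_comm]
  -- (2) count T
  have h2 : T.card + Fx.card = Fx.card * Fx.card + S.card := by
    rw [← Finset.card_filter_add_card_filter_not (s := T) (p := fun p : Ω × Ω => g • p.1 = p.1)]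
    have e1 : T.filter (fun p : Ω × Ω => g • p.1 = p.1) = Fx.offDiag := by
      ext p
      rw [Finset.mem_filter, hTmem, Finset.mem_offDiag, hFx, Finset.mem_filter, Finset.mem_filter]
      constructor
      · rintro ⟨⟨hp, h | h⟩, hf⟩
        · exact ⟨⟨Finset.mem_univ _, h.1⟩, ⟨Finset.mem_univ _, h.2⟩, hp⟩
        · exact absurd (hf.symm.trans h.1) hp
      · rintro ⟨⟨-, h1⟩, ⟨-, h2⟩, hp⟩
        exact ⟨⟨hp, Or.inl ⟨h1, h2⟩⟩, h1⟩
    have e2 : (T.filter (fun p : Ω × Ω => ¬ g • p.1 = p.1)).card = S.card := by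
      apply Finset.card_bij (fun p _ => p.1)
      · intro p hp
        rw [Finset.mem_filter, hTmem] at hp
        rw [hS, Finset.mem_filter]
        refine ⟨Finset.mem_univ _, hp.2, ?_⟩
        rcases hp.1.2 with h | h
        · exact absurd h.1 hp.2
        · rw [h.1, h.2]
      · intro p hp q hq hpq
        rw [Finset.mem_filter, hTmem] at hp hq
        have hp2 : g • p.1 = p.2 := by
          rcases hp.1.2 with h | h
          · exact absurd h.1 hp.2
          · exact h.1
        have hq2 : g • q.1 = q.2 := by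
          rcases hq.1.2 with h | h
          · exact absurd h.1 hq.2
          · exact h.1
        exact Prod.ext hpq (by rw [← hp2, ← hq2, hpq])
      · intro a ha
        rw [hS, Finset.mem_filter] at ha
        refine ⟨(a, g • a), ?_, rfl⟩
        rw [Finset.mem_filter, hTmem]
        exact ⟨⟨fun h => ha.2.1 h.symm, Or.inr ⟨rfl, ha.2.2⟩⟩, ha.2.1⟩
    rw [e1, e2, Finset.offDiag_card]
    have := Nat.le_mul_self Fx.card
    omega
  rw [c1, c2, c3, ← h1, h2]

end Pairs

end Cfsg.Agent.H51.AnCh
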