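import Cfsg.Agent.H87.CrDefs
import Cfsg.Agent.H15.CrIMG
import Cfsg.Agent.H86.GrpStab

set_option autoImplicit false

/-!
# Craven's theorem (S5141), piece STEPFN (helper51, for helper87)

For `P ≤ T` centric in `E` with `P C_S(T)` fully normalized in `F`: a map of `F` on `P C_S(T)`
fixing `P` elementwise extends to `N_T(P) C_S(T)`, moving `N_T(P)` by elements of `P`.
-/

namespace Cfsg.Agent.H51.Cr

open Cfsg Cfsg.FusionSystem Cfsg.Agent.H86 Cfsg.Agent.H87 Cfsg.Agent.H87.Cr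

variable {Ω : Type*} [Group Ω] {S T : Subgroup Ω}

/-- Conjugation by an element of `N_T(P)` moves every element of `P C_S(T)` by an element of `P`. -/
theorem conj_mod {P : Subgroup Ω} (hPT : P ≤ T) {n : Ω} (hn : n ∈ normalizerIn T P) {y : Ω}
    (hy : y ∈ P ⊔ centralizerIn S T) : y⁻¹ * (n * y * n⁻¹) ∈ P := by
  obtain ⟨hnT, hnN⟩ := mem_normalizerIn_iff.1 hn
  obtain ⟨x, hx, c, hc, rfl⟩ := mem_sup_cent hPT hy
  have hcT := (mem_centralizerIn_iff.1 hc).2
  have h1 : n⁻¹ * c = c * n⁻¹ := hcT n⁻¹ (T.inv_mem hnT)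
  have hq : x⁻¹ * (n * x * n⁻¹) ∈ P :=
    P.mul_mem (P.inv_mem hx) (conj_mem_of_mem_normalizer hnN hx)
  have h2 : (x⁻¹ * (n * x * n⁻¹)) * c = c * (x⁻¹ * (n * x * n⁻¹)) := hcT _ (hPT hq)
  have e : (x * c)⁻¹ * (n * (x * c) * n⁻¹) = x⁻¹ * (n * x * n⁻¹) := by
    calc (x * c)⁻¹ * (n * (x * c) * n⁻¹) = c⁻¹ * (x⁻¹ * (n * x * (c * n⁻¹))) := by group
      _ = c⁻¹ * (x⁻¹ * (n * x * (n⁻¹ * c))) := by rw [h1]
      _ = c⁻¹ * ((x⁻¹ * (n * x * n⁻¹)) * c) := by group
      _ = c⁻¹ * (c * (x⁻¹ * (n * x * n⁻¹))) := by rw [h2]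
      _ = x⁻¹ * (n * x * n⁻¹) := by group
  rw [e]
  exact hq

/-- Conjugation by an element of `N_T(P)` stabilizes `P C_S(T)`. -/
theorem conj_mem_sup {P : Subgroup Ω} (hPT : P ≤ T) {n : Ω} (hn : n ∈ normalizerIn T P) {y : Ω}
    (hy : y ∈ P ⊔ centralizerIn S T) : n * y * n⁻¹ ∈ P ⊔ centralizerIn S T := by
  have h := conj_mod (S := S) hPT hn hy
  have e : n * y * n⁻¹ = y * (y⁻¹ * (n * y * n⁻¹)) := by group
  rw [e]
  exact Subgroup.mul_mem _ hy (le_sup_left (a := P) (b := centralizerIn S T) h)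

theorem fix_step_fn [Finite S] {p : ℕ} [Fact p.Prime] (hS : IsPGroup p S) {F : FusionSystem S}
    {E : FusionSystem T} (hE : E.IsWeaklyNormalIn F p) {P : Subgroup Ω} (hP : E.IsCentric P)
    (hfn : F.IsFullyNormalized (P ⊔ centralizerIn S T)) {k : Ω → Ω}
    (hk : Mor F (P ⊔ centralizerIn S T) k) (hkP : ∀ x ∈ P, k x = x) :
    ∃ k₁, Mor F (normalizerIn T P ⊔ centralizerIn S T) k₁ ∧
      (∀ y ∈ P ⊔ centralizerIn S T, k₁ y = k y) ∧ ∀ n ∈ normalizerIn T P, n⁻¹ * k₁ n ∈ P := by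
  have hTS : T ≤ S := hE.2.2.2.1.1
  obtain ⟨hsub, hsc, hai, hfr⟩ := (isInvariantIn_iff hTS).1 hE.2.2
  have hPT : P ≤ T := hP.1
  have hYS : P ⊔ centralizerIn S T ≤ S := sup_le (hPT.trans hTS) inf_le_left
  haveI : Finite ↥(P ⊔ centralizerIn S T) := finite_of_le hYS
  have hPY : P ≤ P ⊔ centralizerIn S T := le_sup_left
  have hXY : centralizerIn S T ≤ P ⊔ centralizerIn S T := le_sup_right
  -- `k` maps `Y` onto `Y`
  have himgP : imgS P k = P := ((hk.restrict hPY).imgS_congr hkP).trans (Mor.imgS_id P)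
  have himgY : imgS (P ⊔ centralizerIn S T) k = P ⊔ centralizerIn S T := by
    rw [(Cfsg.Agent.H15.Cr.img_cent hS hE hP hk).2, himgP]
  -- `Y` is receptive and fully automized
  obtain ⟨hfc, hfa⟩ := saturated_fullyNormalized hS hE.2.1 hfn
  have hrec : F.IsReceptive (P ⊔ centralizerIn S T) :=
    saturated_receptive_of_fullyCentralized hS hE.2.1 hfc
  -- the automorphism of `Y` given by `k`
  set αk : MulAut ↥(P ⊔ centralizerIn S T) := mkAut hk himgY with hαk
  have hαkA : αk ∈ F.autGroup (P ⊔ centralizerIn S T) := mkAut_mem hk himgY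
  have hαk_apply : ∀ y : ↥(P ⊔ centralizerIn S T), ((αk y : ↥(P ⊔ centralizerIn S T)) : Ω) = k y :=
    fun y => mkAut_apply hk himgY y
  -- automorphisms of `F` on `Y` stabilize `P`
  have hAP : ∀ a ∈ F.autGroup (P ⊔ centralizerIn S T), ∀ y : ↥(P ⊔ centralizerIn S T),
      (y : Ω) ∈ P → ((a y : ↥(P ⊔ centralizerIn S T)) : Ω) ∈ P := by
    intro a ha y hy
    have hmor : Mor F (P ⊔ centralizerIn S T) (autFun _ a) := (mem_autGroup_iff hYS a).1 ha
    have h1 : autFun _ a (y : Ω) ∈ T :=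
      (stronglyClosed_iff.1 hsc).2 P (autFun _ a) hPT (hmor.restrict hPY) y hy
    rw [autFun_apply] at h1
    have h2 : ((a y : ↥(P ⊔ centralizerIn S T)) : Ω) ∈ T ⊓ (P ⊔ centralizerIn S T) :=
      ⟨h1, (a y).2⟩
    rw [inf_sup_cent hP] at h2
    exact h2
  -- the two stability groups
  let N1 : ℕ → Subgroup ↥(P ⊔ centralizerIn S T) :=
    fun i => if i = 0 then ⊥ else P.subgroupOf (P ⊔ centralizerIn S T)
  have hmono1 : Monotone N1 := by
    intro i j hij
    by_cases hi : i = 0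
    · simp [N1, hi]
    · have hj : j ≠ 0 := by omega
      simp [N1, hi, hj]
  let N2 : ℕ → Subgroup ↥(P ⊔ centralizerIn S T) := fun _ => P.subgroupOf (P ⊔ centralizerIn S T)
  have hmono2 : Monotone N2 := fun _ _ _ => le_rfl
  have hA1 : ∀ a ∈ F.autGroup (P ⊔ centralizerIn S T), ∀ i ≤ 1, ∀ y ∈ N1 i, a y ∈ N1 i := by
    intro a ha i hi y hy
    by_cases h0 : i = 0
    · subst h0
      have : y = 1 := by simpa [N1] using hy
      rw [this, map_one]
      exact Subgroup.one_mem _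
    · have hN : N1 i = P.subgroupOf (P ⊔ centralizerIn S T) := by simp [N1, h0]
      rw [hN] at hy ⊢
      exact Subgroup.mem_subgroupOf.2 (hAP a ha y (Subgroup.mem_subgroupOf.1 hy))
  have hA2 : ∀ a ∈ F.autGroup (P ⊔ centralizerIn S T), ∀ i ≤ 0, ∀ y ∈ N2 i, a y ∈ N2 i := by
    intro a ha i _ y hy
    exact Subgroup.mem_subgroupOf.2 (hAP a ha y (Subgroup.mem_subgroupOf.1 hy))
  have hnorm1 := stabSub_subgroupOf_normal N1 hmono1 1 (F.autGroup (P ⊔ centralizerIn S T)) hA1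
  have hnorm2 := stabSub_subgroupOf_normal N2 hmono2 0 (F.autGroup (P ⊔ centralizerIn S T)) hA2
  have hYp : IsPGroup p ↥(P ⊔ centralizerIn S T) := hS.to_le hYS
  have hMp : IsPGroup p
      ↥((stabSub N1 hmono1 1).subgroupOf (F.autGroup (P ⊔ centralizerIn S T))) :=
    (stabSub_isPGroup hYp N1 (by simp [N1]) hmono1 1).comap_of_injective _ Subtype.val_injective
  obtain ⟨-, R, hR⟩ := hfa
  have hMle := @IsPGroup.le_sylow_of_normal p _ _ _ hnorm1 hMp R
  -- the key: conjugation by `n ∈ N_T(P)` is compatible with `k` up to an element of `S`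
  have hkey : ∀ n ∈ normalizerIn T P, ∃ h ∈ S, ∀ x ∈ P ⊔ centralizerIn S T,
      k (n * x * n⁻¹) = h * k x * h⁻¹ := by
    intro n hn
    have hnT : n ∈ T := (mem_normalizerIn_iff.1 hn).1
    have hmorn : Mor F (P ⊔ centralizerIn S T) (fun x => n * x * n⁻¹) :=
      Mor.conj F hYS (hTS hnT)
    have himgn : imgS (P ⊔ centralizerIn S T) (fun x => n * x * n⁻¹) = P ⊔ centralizerIn S T :=
      imgS_eq_of_maps hmorn (fun y hy => conj_mem_sup hPT hn hy)
    set cn : MulAut ↥(P ⊔ centralizerIn S T) := mkAut hmorn himgn with hcn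
    have hcnA : cn ∈ F.autGroup (P ⊔ centralizerIn S T) := mkAut_mem hmorn himgn
    have hcn_apply : ∀ y : ↥(P ⊔ centralizerIn S T),
        ((cn y : ↥(P ⊔ centralizerIn S T)) : Ω) = n * y * n⁻¹ :=
      fun y => mkAut_apply hmorn himgn y
    set μ : MulAut ↥(P ⊔ centralizerIn S T) := αk * cn * αk⁻¹ * cn⁻¹ with hμ
    have hμA : μ ∈ F.autGroup (P ⊔ centralizerIn S T) :=
      Subgroup.mul_mem _ (Subgroup.mul_mem _ (Subgroup.mul_mem _ hαkA hcnA)
        (Subgroup.inv_mem _ hαkA)) (Subgroup.inv_mem _ hcnA)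
    -- `μ` acts trivially on `Y / P`
    have hcn2 : cn ∈ stabSub N2 hmono2 0 := by
      rw [mem_stabSub_iff]
      refine ⟨fun y => ?_, fun i hi => absurd hi (by omega)⟩
      show y⁻¹ * cn y ∈ P.subgroupOf (P ⊔ centralizerIn S T)
      rw [Subgroup.mem_subgroupOf, Subgroup.coe_mul, Subgroup.coe_inv, hcn_apply]
      exact conj_mod hPT hn y.2
    have hμ2 : μ ∈ stabSub N2 hmono2 0 := by
      have h1 : (⟨cn, hcnA⟩ : F.autGroup (P ⊔ centralizerIn S T)) ∈
          (stabSub N2 hmono2 0).subgroupOf (F.autGroup (P ⊔ centralizerIn S T)) :=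
        Subgroup.mem_subgroupOf.2 hcn2
      have h2 := hnorm2.conj_mem _ h1 ⟨αk, hαkA⟩
      have h3 := Subgroup.mul_mem _ h2 (Subgroup.inv_mem _ h1)
      exact Subgroup.mem_subgroupOf.1 h3
    -- `μ` fixes `P` elementwise
    have hμ1 : ∀ x : ↥(P ⊔ centralizerIn S T), (x : Ω) ∈ P → μ x = x := by
      intro x hx
      have hw : n⁻¹ * (x : Ω) * n ∈ P :=
        conj_inv_mem_of_mem_normalizer (mem_normalizerIn_iff.1 hn).2 hx
      let w : ↥(P ⊔ centralizerIn S T) := ⟨n⁻¹ * x * n, hPY hw⟩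
      have e1 : cn w = x := by
        apply Subtype.ext
        rw [hcn_apply]
        show n * (n⁻¹ * x * n) * n⁻¹ = x
        group
      have e2 : αk w = w := by
        apply Subtype.ext
        rw [hαk_apply]
        exact hkP _ hw
      have e3 : αk x = x := by
        apply Subtype.ext
        rw [hαk_apply]
        exact hkP _ hx
      have e4 : cn⁻¹ x = w := by
        rw [← e1]
        exact MulAut.inv_apply_self _ _ _
      have e5 : αk⁻¹ w = w := by
        conv_lhs => rw [← e2]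
        exact MulAut.inv_apply_self _ _ _
      show αk (cn (αk⁻¹ (cn⁻¹ x))) = x
      rw [e4, e5, e1, e3]
    have hμM : μ ∈ stabSub N1 hmono1 1 := by
      rw [mem_stabSub_iff]
      refine ⟨fun y => ?_, fun i hi y hy => ?_⟩
      · exact (mem_stabSub_iff.1 hμ2).1 y
      · have hi0 : i = 0 := by omega
        subst hi0
        have hy' : (y : Ω) ∈ P := by
          have : y ∈ P.subgroupOf (P ⊔ centralizerIn S T) := by simpa [N1] using hy
          exact Subgroup.mem_subgroupOf.1 this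
        rw [hμ1 y hy', inv_mul_cancel]
        exact Subgroup.one_mem _
    -- so `μ` is induced by an element of `S`
    have hμR : (⟨μ, hμA⟩ : F.autGroup (P ⊔ centralizerIn S T)) ∈
        (R : Subgroup (F.autGroup (P ⊔ centralizerIn S T))) :=
      hMle (Subgroup.mem_subgroupOf.2 hμM)
    rw [hR, Subgroup.mem_subgroupOf] at hμR
    obtain ⟨s, hs, hsμ⟩ := (mem_autInducedBy_iff S _ μ).1 hμR
    refine ⟨s * n, S.mul_mem hs (hTS hnT), fun x hx => ?_⟩
    have hrel : μ * cn * αk = αk * cn := by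
      rw [hμ]
      group
    have h4 := congrArg (fun β : MulAut ↥(P ⊔ centralizerIn S T) =>
      ((β ⟨x, hx⟩ : ↥(P ⊔ centralizerIn S T)) : Ω)) hrel
    simp only [MulAut.mul_apply] at h4
    rw [hsμ, hcn_apply, hαk_apply, hαk_apply, hcn_apply] at h4
    show k (n * x * n⁻¹) = s * n * k x * (s * n)⁻¹
    rw [← h4]
    group
  -- the extension condition on `N_T(P) ⊔ X`
  have hext : ∀ g ∈ normalizerIn T P ⊔ centralizerIn S T, g ∈ S ∧
      g ∈ Subgroup.normalizer ((P ⊔ centralizerIn S T : Subgroup Ω) : Set Ω) ∧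
      ∃ h ∈ S, ∀ x ∈ P ⊔ centralizerIn S T, k (g * x * g⁻¹) = h * k x * h⁻¹ := by
    intro g hg
    rw [Subgroup.sup_eq_closure] at hg
    induction hg using Subgroup.closure_induction with
    | mem z hz =>
      rcases hz with hz | hz
      · have hzT : z ∈ T := (mem_normalizerIn_iff.1 hz).1
        refine ⟨hTS hzT, ?_, hkey z hz⟩
        rw [Subgroup.mem_normalizer_iff]
        intro y
        constructor
        · intro hy
          exact conj_mem_sup hPT hz hy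
        · intro hy
          have hz' : z⁻¹ ∈ normalizerIn T P := Subgroup.inv_mem _ hz
          have h5 := conj_mem_sup (S := S) hPT hz' hy
          have e : z⁻¹ * (z * y * z⁻¹) * z⁻¹⁻¹ = y := by group
          rwa [e] at h5
      · have hzY : z ∈ P ⊔ centralizerIn S T := hXY hz
        refine ⟨hYS hzY, Subgroup.le_normalizer hzY, k z, hk.mem hzY, fun x hx => ?_⟩
        rw [hk.map_mul (Subgroup.mul_mem _ hzY hx) (Subgroup.inv_mem _ hzY),
          hk.map_mul hzY hx, hk.map_inv hzY]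
    | one =>
      refine ⟨S.one_mem, Subgroup.one_mem _, 1, S.one_mem, fun x hx => by simp⟩
    | mul a b _ _ iha ihb =>
      obtain ⟨haS, haN, h₁, hh₁, H₁⟩ := iha
      obtain ⟨hbS, hbN, h₂, hh₂, H₂⟩ := ihb
      refine ⟨S.mul_mem haS hbS, Subgroup.mul_mem _ haN hbN, h₁ * h₂, S.mul_mem hh₁ hh₂,
        fun x hx => ?_⟩
      have hbx : b * x * b⁻¹ ∈ P ⊔ centralizerIn S T := conj_mem_of_mem_normalizer hbN hx
      have e : a * b * x * (a * b)⁻¹ = a * (b * x * b⁻¹) * a⁻¹ := by group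
      rw [e, H₁ _ hbx, H₂ x hx]
      group
    | inv a _ iha =>
      obtain ⟨haS, haN, h₁, hh₁, H₁⟩ := iha
      refine ⟨S.inv_mem haS, Subgroup.inv_mem _ haN, h₁⁻¹, S.inv_mem hh₁, fun x hx => ?_⟩
      have hax : a⁻¹ * x * a ∈ P ⊔ centralizerIn S T := conj_inv_mem_of_mem_normalizer haN hx
      have h5 := H₁ _ hax
      have e : a * (a⁻¹ * x * a) * a⁻¹ = x := by group
      rw [e] at h5
      rw [inv_inv, h5]
      group
  obtain ⟨k₁, hk₁, hk₁k⟩ := receptive_extend hrec hk himgY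
    (sup_le_sup_right (Cfsg.Agent.H86.le_normalizerIn hPT) _) hext
  refine ⟨k₁, hk₁, hk₁k, fun n hn => ?_⟩
  have hnT : n ∈ T := (mem_normalizerIn_iff.1 hn).1
  have hnR : n ∈ normalizerIn T P ⊔ centralizerIn S T :=
    le_sup_left (a := normalizerIn T P) hn
  have hPR : P ≤ normalizerIn T P ⊔ centralizerIn S T := (Cfsg.Agent.H86.le_normalizerIn hPT).trans le_sup_left
  have hk₁T : k₁ n ∈ T :=
    (stronglyClosed_iff.1 hsc).2 (normalizerIn T P) k₁ inf_le_left (hk₁.restrict le_sup_left) n hn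
  apply isCentric_self_le hP
  rw [mem_centralizerIn_iff]
  refine ⟨T.mul_mem (T.inv_mem hnT) hk₁T, fun x hx => ?_⟩
  have hnx : n * x * n⁻¹ ∈ P := conj_mem_of_mem_normalizer (mem_normalizerIn_iff.1 hn).2 hx
  have h1 : k₁ (n * x * n⁻¹) = k₁ n * k₁ x * (k₁ n)⁻¹ := by
    rw [hk₁.map_mul (Subgroup.mul_mem _ hnR (hPR hx)) (Subgroup.inv_mem _ hnR),
      hk₁.map_mul hnR (hPR hx), hk₁.map_inv hnR]
  rw [hk₁k _ (hPY hnx), hkP _ hnx, hk₁k _ (hPY hx), hkP _ hx] at h1
  have h2 : n⁻¹ * (n * x * n⁻¹) * k₁ n = n⁻¹ * (k₁ n * x * (k₁ n)⁻¹) * k₁ n := by rw [h1]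
  calc x * (n⁻¹ * k₁ n) = n⁻¹ * (n * x * n⁻¹) * k₁ n := by group
    _ = n⁻¹ * (k₁ n * x * (k₁ n)⁻¹) * k₁ n := h2
    _ = n⁻¹ * k₁ n * x := by group

end Cfsg.Agent.H51.Cr
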