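import Mathlib
import Cfsg.Agent.H51.PSLQAff

/-! The field with sixteen elements as `𝔽₂[ζ]`, `ζ⁴ = ζ + 1`, with coordinates in `Bool` (helper51). -/

set_option autoImplicit false

namespace Cfsg.Agent.H51

/-- The field with sixteen elements: `c0 + c1 ζ + c2 ζ² + c3 ζ³` with `ζ⁴ = ζ + 1`. -/
structure F16 where
  c0 : Bool
  c1 : Bool
  c2 : Bool
  c3 : Bool
deriving DecidableEq, Fintype

namespace F16

/-- Addition. -/
def addF (x y : F16) : F16 := ⟨xor x.c0 y.c0, xor x.c1 y.c1, xor x.c2 y.c2, xor x.c3 y.c3⟩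

/-- Multiplication modulo `ζ⁴ = ζ + 1`. -/
def mulF (x y : F16) : F16 :=
  let p0 := x.c0 && y.c0
  let p1 := xor (x.c0 && y.c1) (x.c1 && y.c0)
  let p2 := xor (xor (x.c0 && y.c2) (x.c1 && y.c1)) (x.c2 && y.c0)
  let p3 := xor (xor (x.c0 && y.c3) (x.c1 && y.c2)) (xor (x.c2 && y.c1) (x.c3 && y.c0))
  let p4 := xor (xor (x.c1 && y.c3) (x.c2 && y.c2)) (x.c3 && y.c1)
  let p5 := xor (x.c2 && y.c3) (x.c3 && y.c2)
  let p6 := x.c3 && y.c3
  ⟨xor p0 p4, xor (xor p1 p4) p5, xor (xor p2 p5) p6, xor p3 p6⟩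

/-- The inverse, as the fourteenth power. -/
def invF (x : F16) : F16 :=
  let x2 := mulF x x
  let x4 := mulF x2 x2
  let x8 := mulF x4 x4
  mulF (mulF x8 x4) x2

instance : Add F16 := ⟨addF⟩
instance : Mul F16 := ⟨mulF⟩
instance : Neg F16 := ⟨id⟩
instance : Inv F16 := ⟨invF⟩
instance : Zero F16 := ⟨⟨false, false, false, false⟩⟩
instance : One F16 := ⟨⟨true, false, false, false⟩⟩

instance : Field F16 :=
  Field.ofMinimalAxioms F16 (by decide +kernel) (by decide +kernel) (by decide +kernel)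
    (by decide +kernel) (by decide +kernel) (by decide +kernel) (by decide +kernel)
    (by decide +kernel) (by decide +kernel) ⟨0, 1, by decide⟩

end F16

theorem card_F16 : Fintype.card F16 = 16 := by decide

/-- The element `ζ` as a unit. -/
def zeta16U : F16ˣ :=
  ⟨⟨false, true, false, false⟩, ⟨true, false, false, true⟩, by decide, by decide⟩

end Cfsg.Agent.H51
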