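import Mathlib
import Cfsg.Prelude.Def_GeometricClasses
import Cfsg.Agent.H51.FpBAOf
import Cfsg.Agent.H12.FpB2
import Cfsg.Agent.H58.FpB3
import Cfsg.Agent.H27.CliffP2

/-!
# S5876-BA (helper51, for helper17): the Clifford assembly `clifford_fpf`
-/

set_option autoImplicit false

namespace Cfsg.Agent.H51.Fp

open Matrix

/-- **S5876-BA**: a nontrivial element of a commutative set normalized by an irreducible
primitive group has no nonzero fixed vector. -/
theorem clifford_fpf {F : Type*} [Field F] [Fintype F] {n : ℕ} (G : Subgroup (GL (Fin n) F))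
    (hirr : Cfsg.Geo.ActsIrreducibly (Cfsg.Geo.matrixSet G))
    (hprim : ∀ (m t : ℕ) (D : Fin t → Submodule F (Fin n → F)), 2 ≤ t →
      Cfsg.Geo.IsMDecomposition m D → ¬ G ≤ Cfsg.Geo.decompositionStabilizer D)
    (A : Set (GL (Fin n) F))
    (hAcomm : ∀ a ∈ A, ∀ b ∈ A, a * b = b * a)
    (hAnorm : ∀ g ∈ G, ∀ a ∈ A, g * a * g⁻¹ ∈ A)
    (a : GL (Fin n) F) (ha : a ∈ A) (ha1 : a ≠ 1) :
    Module.End.eigenspace (Matrix.toLin' (a : Matrix (Fin n) (Fin n) F)) 1 = ⊥ :=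
  clifford_fpf_of G (fun b => Cfsg.Agent.H12.Fp.fitting_trichotomy b)
    (fun Z hc hj b hb hn => Cfsg.Agent.H58.Fp.nilpotent_eq_zero G hirr Z hc hj b hb hn)
    (fun Z hc hm hj e he hee => Cfsg.Agent.H27.Cliff.idem_trivial G hirr hprim Z hc hm hj e he hee)
    A hAcomm hAnorm a ha ha1

end Cfsg.Agent.H51.Fp
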