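import Cfsg.Agent.H51.JzKH1Abs

/-!
# Abstract conjugation step of (K2)/(K3) of the (R)-kill (S2951, team project JZ)

Every element of `V = ⨆ i, W i` is conjugate, by an element of `L`, into `Z0`.
-/

set_option autoImplicit false

namespace Cfsg.Agent.H51.JzK

universe u v

/-- The abstract conjugation step: every element of `⨆ i, W i` is `L`-conjugate into `Z0`. -/
theorem kconj_abs {G : Type u} [Group G] [Finite G] {ι : Type v} [Finite ι]
    (L Z0 : Subgroup G) (W Kc : ι → Subgroup G)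
    (hcard : ∀ i, Nat.card ↥(W i) = 4)
    (hKL : ∀ i, Kc i ≤ L)
    (hKN : ∀ i, Kc i ≤ Subgroup.normalizer (W i : Set G))
    (hgen : ∀ i, Subgroup.closure {g : G | g ∈ Kc i ∧ Odd (orderOf g)} = Kc i)
    (hcent : ∀ i j, i ≠ j → W i ≤ Subgroup.centralizer (Kc j : Set G))
    (hfix : ∀ i, W i ⊓ Subgroup.centralizer (Kc i : Set G) = ⊥)
    (hcomm : ∀ i j, ∀ a ∈ W i, ∀ b ∈ W j, a * b = b * a)
    (hZW : ∀ i, Z0 ⊓ W i ≠ ⊥) :
    ∀ u ∈ ⨆ i, W i, ∃ k ∈ L, k * u * k⁻¹ ∈ Z0 := by
  classical
  have := Fintype.ofFinite ι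
  -- moving one coordinate into Z0
  have hone : ∀ i, ∀ w ∈ W i, ∃ k ∈ Kc i, k * w * k⁻¹ ∈ Z0 ∧ k * w * k⁻¹ ∈ W i := by
    intro i w hw
    by_cases hw1 : w = 1
    · exact ⟨1, (Kc i).one_mem, by rw [hw1]; simp [Z0.one_mem], by rw [hw1]; simp [(W i).one_mem]⟩
    · obtain ⟨z, hz, hz1⟩ : ∃ z ∈ Z0 ⊓ W i, z ≠ 1 := by
        by_contra hno
        push_neg at hno
        exact hZW i ((Subgroup.eq_bot_iff_forall _).mpr hno)
      obtain ⟨k, hk, hkw⟩ := trans4 (W i) (Kc i) (hcard i) (hKN i) (hgen i) (hfix i) w hw hw1 z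
        hz.2 hz1
      exact ⟨k, hk, by rw [hkw]; exact hz.1, by rw [hkw]; exact hz.2⟩
  -- induction over finsets
  have hind : ∀ s : Finset ι, ∀ u ∈ ⨆ i ∈ s, W i, ∃ k ∈ L, k * u * k⁻¹ ∈ Z0 ∧
      k * u * k⁻¹ ∈ ⨆ i ∈ s, W i ∧ ∀ j, j ∉ s → ∀ w ∈ W j, k * w * k⁻¹ = w := by
    intro s
    induction s using Finset.induction_on with
    | empty =>
      intro u hu
      simp only [Finset.notMem_empty, iSup_false, iSup_bot, Subgroup.mem_bot] at hu
      subst hu
      refine ⟨1, L.one_mem, by simp [Z0.one_mem], by simp [Subgroup.one_mem], ?_⟩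
      intro j _ w _
      simp
    | insert a s has ih =>
      intro u hu
      rw [Finset.iSup_insert] at hu
      have hcomm' : ∀ h ∈ W a, ∀ k ∈ ⨆ i ∈ s, W i, h * k = k * h := by
        intro h hh k hk
        have hle : (⨆ i ∈ s, W i) ≤ Subgroup.centralizer ({h} : Set G) := by
          refine iSup₂_le ?_
          intro i _ b hb
          rw [Subgroup.mem_centralizer_iff]
          intro x hx
          rw [Set.mem_singleton_iff] at hx
          subst hx
          exact hcomm a i x hh b hb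
        have := hle hk
        rw [Subgroup.mem_centralizer_iff] at this
        exact this h (Set.mem_singleton h)
      obtain ⟨w, hw, u', hu', rfl⟩ := mem_sup_of_comm (W a) (⨆ i ∈ s, W i) hcomm' u hu
      obtain ⟨k', hk'L, hk'Z, hk'S, hk'c⟩ := ih u' hu'
      obtain ⟨ka, hka, hkaZ, hkaW⟩ := hone a w hw
      -- ka centralizes the join over s
      have hkacent : ∀ x ∈ ⨆ i ∈ s, W i, ka * x * ka⁻¹ = x := by
        intro x hx
        have hle : (⨆ i ∈ s, W i) ≤ Subgroup.centralizer (Kc a : Set G) := by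
          refine iSup₂_le ?_
          intro i hi
          exact hcent i a (by rintro rfl; exact has hi)
        have := hle hx
        rw [Subgroup.mem_centralizer_iff] at this
        have h2 := this ka hka
        rw [h2]; group
      have hk'w : k' * w * k'⁻¹ = w := hk'c a has w hw
      have hkey : ka * k' * (w * u') * (ka * k')⁻¹ = (ka * w * ka⁻¹) * (k' * u' * k'⁻¹) := by
        have e1 : ka * k' * (w * u') * (ka * k')⁻¹
            = ka * (k' * w * k'⁻¹) * ka⁻¹ * (ka * (k' * u' * k'⁻¹) * ka⁻¹) := by group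
        rw [e1, hk'w, hkacent _ hk'S]
      refine ⟨ka * k', L.mul_mem (hKL a hka) hk'L, ?_, ?_, ?_⟩
      · rw [hkey]; exact Z0.mul_mem hkaZ hk'Z
      · rw [hkey, Finset.iSup_insert]
        exact Subgroup.mul_mem _ (Subgroup.mem_sup_left hkaW) (Subgroup.mem_sup_right hk'S)
      · intro j hj x hx
        have hja : j ≠ a := by rintro rfl; exact hj (Finset.mem_insert_self _ _)
        have hjs : j ∉ s := fun h => hj (Finset.mem_insert_of_mem h)
        have h1 : k' * x * k'⁻¹ = x := hk'c j hjs x hx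
        have h2 : ka * x * ka⁻¹ = x := by
          have := hcent j a hja hx
          rw [Subgroup.mem_centralizer_iff] at this
          have h3 := this ka hka
          rw [h3]; group
        calc ka * k' * x * (ka * k')⁻¹ = ka * (k' * x * k'⁻¹) * ka⁻¹ := by group
          _ = x := by rw [h1, h2]
  intro u hu
  have hu' : u ∈ ⨆ i ∈ (Finset.univ : Finset ι), W i := by simpa using hu
  obtain ⟨k, hkL, hkZ, -, -⟩ := hind Finset.univ u hu'
  exact ⟨k, hkL, hkZ⟩

end Cfsg.Agent.H51.JzK
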