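import Mathlib

/-!
# Abstract core of (K2)/(H1) of the (R)-kill (S2951, team project JZ)

`V = ⨆ i, W i` with four-groups `W i`, subgroups `Kc i ≤ L` generated by elements of odd order,
normalizing `W i` without fixed points and centralizing the other `W j`; `Z0` meets every `W i`
and the centralizers of its nontrivial elements lie in `L`.  Then the centralizer of every
nontrivial element of `V` lies in `L`.
-/

set_option autoImplicit false

namespace Cfsg.Agent.H51.JzK

universe u v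

/-- A subgroup generated by elements of odd order, acting without fixed points on a normalized
subgroup of order 4, is transitive on its nontrivial elements. -/
theorem trans4 {G : Type u} [Group G] [Finite G] (W Kc : Subgroup G)
    (hcard : Nat.card ↥W = 4)
    (hKN : Kc ≤ Subgroup.normalizer (W : Set G))
    (hgen : Subgroup.closure {g : G | g ∈ Kc ∧ Odd (orderOf g)} = Kc)
    (hfix : W ⊓ Subgroup.centralizer (Kc : Set G) = ⊥) :
    ∀ w ∈ W, w ≠ 1 → ∀ w' ∈ W, w' ≠ 1 → ∃ k ∈ Kc, k * w * k⁻¹ = w' := by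
  classical
  -- an odd order element moving some element of W
  have hex : ∃ y ∈ Kc, Odd (orderOf y) ∧ ∃ w0 ∈ W, y * w0 * y⁻¹ ≠ w0 := by
    by_contra hno
    push_neg at hno
    have hle : Kc ≤ Subgroup.centralizer (W : Set G) := by
      rw [← hgen, Subgroup.closure_le]
      rintro g ⟨hgK, hgo⟩
      rw [SetLike.mem_coe, Subgroup.mem_centralizer_iff]
      intro w hw
      have := hno g hgK hgo w hw
      calc w * g = (g * w * g⁻¹)⁻¹⁻¹ * g := by rw [inv_inv, this]
        _ = g * w := by rw [inv_inv]; group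
    have hW : W ≤ W ⊓ Subgroup.centralizer (Kc : Set G) := by
      intro w hw
      refine Subgroup.mem_inf.mpr ⟨hw, ?_⟩
      rw [Subgroup.mem_centralizer_iff]
      intro k hk
      have := hle hk
      rw [Subgroup.mem_centralizer_iff] at this
      exact (this w hw).symm
    rw [hfix] at hW
    have : W = ⊥ := le_bot_iff.mp hW
    rw [this] at hcard
    simp at hcard
  obtain ⟨y, hyK, hyo, w0, hw0, hmove⟩ := hex
  have hyN : y ∈ Subgroup.normalizer (W : Set G) := hKN hyK
  have hconjW : ∀ (n : ℕ) (x : G), x ∈ W → y ^ n * x * (y ^ n)⁻¹ ∈ W := by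
    intro n x hx
    have hn : y ^ n ∈ Subgroup.normalizer (W : Set G) := Subgroup.pow_mem _ hyN n
    exact (Subgroup.mem_normalizer_iff.mp hn x).mp hx
  obtain ⟨c1, hc1⟩ : ∃ c1, c1 = y * w0 * y⁻¹ := ⟨_, rfl⟩
  obtain ⟨c2, hc2⟩ : ∃ c2, c2 = y ^ 2 * w0 * (y ^ 2)⁻¹ := ⟨_, rfl⟩
  have hc1W : c1 ∈ W := by rw [hc1]; simpa using hconjW 1 w0 hw0
  have hc2W : c2 ∈ W := by rw [hc2]; exact hconjW 2 w0 hw0
  have hc2' : c2 = y * c1 * y⁻¹ := by rw [hc2, hc1, pow_two]; group
  have h01 : w0 ≠ 1 := by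
    rintro rfl
    exact hmove (by group)
  have h11 : c1 ≠ 1 := by
    intro h
    apply h01
    have : w0 = y⁻¹ * c1 * y := by rw [hc1]; group
    rw [this, h]; group
  have h21 : c2 ≠ 1 := by
    intro h
    apply h11
    have : c1 = y⁻¹ * c2 * y := by rw [hc2']; group
    rw [this, h]; group
  have h0c1 : w0 ≠ c1 := fun h => hmove (by rw [← hc1]; exact h.symm)
  have hc1c2 : c1 ≠ c2 := by
    intro h
    apply hmove
    have h2 : y * w0 * y⁻¹ = y * (y * w0 * y⁻¹) * y⁻¹ := by rw [← hc1, ← hc2']; exact h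
    have h3 : w0 = y * w0 * y⁻¹ := by
      have := congrArg (fun t => y⁻¹ * t * y) h2
      beta_reduce at this
      have e1 : y⁻¹ * (y * w0 * y⁻¹) * y = w0 := by group
      have e2 : y⁻¹ * (y * (y * w0 * y⁻¹) * y⁻¹) * y = y * w0 * y⁻¹ := by group
      rw [e1, e2] at this
      exact this
    exact h3.symm
  have h0c2 : w0 ≠ c2 := by
    intro h
    apply hmove
    -- y^2 commutes with w0, and y is a power of y^2
    have hcomm : Commute (y ^ 2) w0 := by
      have : y ^ 2 * w0 = w0 * y ^ 2 := by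
        have h' : w0 * y ^ 2 = y ^ 2 * w0 * (y ^ 2)⁻¹ * y ^ 2 := by rw [← hc2, ← h]
        rw [h']; group
      exact this
    obtain ⟨m, hm⟩ := hyo
    have hy : (y ^ 2) ^ (m + 1) = y := by
      rw [← pow_mul]
      have : 2 * (m + 1) = orderOf y + 1 := by omega
      rw [this, pow_succ, pow_orderOf_eq_one, one_mul]
    have hcy : Commute y w0 := by
      have := hcomm.pow_left (m + 1)
      rwa [hy] at this
    have : y * w0 = w0 * y := hcy
    rw [this]; group
  -- W = {1, w0, c1, c2}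
  have hsub : ({1, w0, c1, c2} : Set G) ⊆ (W : Set G) := by
    intro x hx
    simp only [Set.mem_insert_iff, Set.mem_singleton_iff] at hx
    rcases hx with rfl | rfl | rfl | rfl
    · exact W.one_mem
    · exact hw0
    · exact hc1W
    · exact hc2W
  have hncard : ({1, w0, c1, c2} : Set G).ncard = 4 := by
    rw [Set.ncard_insert_of_notMem, Set.ncard_insert_of_notMem, Set.ncard_pair hc1c2]
    · simp only [Set.mem_insert_iff, Set.mem_singleton_iff]
      rintro (h | h)
      · exact h0c1 h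
      · exact h0c2 h
    · simp only [Set.mem_insert_iff, Set.mem_singleton_iff]
      rintro (h | h | h)
      · exact h01 h.symm
      · exact h11 h.symm
      · exact h21 h.symm
  have hWeq : ({1, w0, c1, c2} : Set G) = (W : Set G) := by
    apply Set.eq_of_subset_of_ncard_le hsub _ (Set.toFinite _)
    rw [hncard]
    have : (W : Set G).ncard = Nat.card ↥W := by
      rw [← Nat.card_coe_set_eq]; rfl
    rw [this, hcard]
  -- every nontrivial element of W is y^a w0 y^-a
  have hrep : ∀ w ∈ W, w ≠ 1 → ∃ a : ℕ, w = y ^ a * w0 * (y ^ a)⁻¹ := by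
    intro w hw hw1
    have : w ∈ ({1, w0, c1, c2} : Set G) := by rw [hWeq]; exact hw
    simp only [Set.mem_insert_iff, Set.mem_singleton_iff] at this
    rcases this with h | h | h | h
    · exact absurd h hw1
    · exact ⟨0, by rw [h]; simp⟩
    · exact ⟨1, by rw [h, hc1]; simp⟩
    · exact ⟨2, by rw [h, hc2]⟩
  intro w hw hw1 w' hw' hw'1
  obtain ⟨a, ha⟩ := hrep w hw hw1
  obtain ⟨b, hb⟩ := hrep w' hw' hw'1
  refine ⟨y ^ b * (y ^ a)⁻¹, Kc.mul_mem (Kc.pow_mem hyK b) (Kc.inv_mem (Kc.pow_mem hyK a)), ?_⟩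
  rw [ha, hb]; group

/-- Elementwise commuting subgroups: every element of the join is a product. -/
theorem mem_sup_of_comm {G : Type u} [Group G] (H K : Subgroup G)
    (hc : ∀ h ∈ H, ∀ k ∈ K, h * k = k * h) :
    ∀ x ∈ H ⊔ K, ∃ h ∈ H, ∃ k ∈ K, x = h * k := by
  intro x hx
  rw [Subgroup.sup_eq_closure] at hx
  induction hx using Subgroup.closure_induction with
  | mem x hx =>
    rcases hx with hx | hx
    · exact ⟨x, hx, 1, K.one_mem, by simp⟩
    · exact ⟨1, H.one_mem, x, hx, by simp⟩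
  | one => exact ⟨1, H.one_mem, 1, K.one_mem, by simp⟩
  | mul x y _ _ hx hy =>
    obtain ⟨h1, hh1, k1, hk1, rfl⟩ := hx
    obtain ⟨h2, hh2, k2, hk2, rfl⟩ := hy
    refine ⟨h1 * h2, H.mul_mem hh1 hh2, k1 * k2, K.mul_mem hk1 hk2, ?_⟩
    have := hc h2 hh2 k1 hk1
    calc h1 * k1 * (h2 * k2) = h1 * (k1 * h2) * k2 := by group
      _ = h1 * (h2 * k1) * k2 := by rw [this]
      _ = h1 * h2 * (k1 * k2) := by group
  | inv x _ hx =>
    obtain ⟨h1, hh1, k1, hk1, rfl⟩ := hx
    refine ⟨h1⁻¹, H.inv_mem hh1, k1⁻¹, K.inv_mem hk1, ?_⟩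
    have := hc h1⁻¹ (H.inv_mem hh1) k1⁻¹ (K.inv_mem hk1)
    rw [mul_inv_rev, this]

/-- The abstract (H1): centralizers of nontrivial elements of `V = ⨆ i, W i` lie in `L`. -/
theorem kh1_abs {G : Type u} [Group G] [Finite G] {ι : Type v} [Finite ι]
    (L Z0 : Subgroup G) (W Kc : ι → Subgroup G)
    (hcard : ∀ i, Nat.card ↥(W i) = 4)
    (hKL : ∀ i, Kc i ≤ L)
    (hKN : ∀ i, Kc i ≤ Subgroup.normalizer (W i : Set G))
    (hgen : ∀ i, Subgroup.closure {g : G | g ∈ Kc i ∧ Odd (orderOf g)} = Kc i)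
    (hcent : ∀ i j, i ≠ j → W i ≤ Subgroup.centralizer (Kc j : Set G))
    (hfix : ∀ i, W i ⊓ Subgroup.centralizer (Kc i : Set G) = ⊥)
    (hcomm : ∀ i j, ∀ a ∈ W i, ∀ b ∈ W j, a * b = b * a)
    (hZW : ∀ i, Z0 ⊓ W i ≠ ⊥)
    (hZ0 : ∀ y ∈ Z0, y ≠ 1 → Subgroup.centralizer ({y} : Set G) ≤ L) :
    ∀ u ∈ ⨆ i, W i, u ≠ 1 → Subgroup.centralizer ({u} : Set G) ≤ L := by
  classical
  have := Fintype.ofFinite ι
  -- moving one coordinate into Z0
  have hone : ∀ i, ∀ w ∈ W i, ∃ k ∈ Kc i, k * w * k⁻¹ ∈ Z0 ∧ k * w * k⁻¹ ∈ W i := by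
    intro i w hw
    by_cases hw1 : w = 1
    · exact ⟨1, (Kc i).one_mem, by rw [hw1]; simp [Z0.one_mem], by rw [hw1]; simp [(W i).one_mem]⟩
    · obtain ⟨z, hz, hz1⟩ : ∃ z ∈ Z0 ⊓ W i, z ≠ 1 := by
        by_contra hno
        push_neg at hno
        exact hZW i ((Subgroup.eq_bot_iff_forall _).mpr hno)
      obtain ⟨k, hk, hkw⟩ := trans4 (W i) (Kc i) (hcard i) (hKN i) (hgen i) (hfix i) w hw hw1 z
        hz.2 hz1
      exact ⟨k, hk, by rw [hkw]; exact hz.1, by rw [hkw]; exact hz.2⟩
  -- induction over finsets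
  have hind : ∀ s : Finset ι, ∀ u ∈ ⨆ i ∈ s, W i, ∃ k ∈ L, k * u * k⁻¹ ∈ Z0 ∧
      k * u * k⁻¹ ∈ ⨆ i ∈ s, W i ∧ ∀ j, j ∉ s → ∀ w ∈ W j, k * w * k⁻¹ = w := by
    intro s
    induction s using Finset.induction_on with
    | empty =>
      intro u hu
      simp only [Finset.notMem_empty, iSup_false, iSup_bot, Subgroup.mem_bot] at hu
      subst hu
      refine ⟨1, L.one_mem, by simp [Z0.one_mem], by simp [Subgroup.one_mem], ?_⟩
      intro j _ w _
      simp
    | insert a s has ih =>
      intro u hu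
      rw [Finset.iSup_insert] at hu
      have hcomm' : ∀ h ∈ W a, ∀ k ∈ ⨆ i ∈ s, W i, h * k = k * h := by
        intro h hh k hk
        have hle : (⨆ i ∈ s, W i) ≤ Subgroup.centralizer ({h} : Set G) := by
          refine iSup₂_le ?_
          intro i _ b hb
          rw [Subgroup.mem_centralizer_iff]
          intro x hx
          rw [Set.mem_singleton_iff] at hx
          subst hx
          exact hcomm a i x hh b hb
        have := hle hk
        rw [Subgroup.mem_centralizer_iff] at this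
        exact this h (Set.mem_singleton h)
      obtain ⟨w, hw, u', hu', rfl⟩ := mem_sup_of_comm (W a) (⨆ i ∈ s, W i) hcomm' u hu
      obtain ⟨k', hk'L, hk'Z, hk'S, hk'c⟩ := ih u' hu'
      obtain ⟨ka, hka, hkaZ, hkaW⟩ := hone a w hw
      -- ka centralizes the join over s
      have hkacent : ∀ x ∈ ⨆ i ∈ s, W i, ka * x * ka⁻¹ = x := by
        intro x hx
        have hle : (⨆ i ∈ s, W i) ≤ Subgroup.centralizer (Kc a : Set G) := by
          refine iSup₂_le ?_
          intro i hi
          exact hcent i a (by rintro rfl; exact has hi)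
        have := hle hx
        rw [Subgroup.mem_centralizer_iff] at this
        have h2 := this ka hka
        rw [h2]; group
      have hk'w : k' * w * k'⁻¹ = w := hk'c a has w hw
      have hkey : ka * k' * (w * u') * (ka * k')⁻¹ = (ka * w * ka⁻¹) * (k' * u' * k'⁻¹) := by
        have e1 : ka * k' * (w * u') * (ka * k')⁻¹
            = ka * (k' * w * k'⁻¹) * ka⁻¹ * (ka * (k' * u' * k'⁻¹) * ka⁻¹) := by group
        rw [e1, hk'w, hkacent _ hk'S]
      refine ⟨ka * k', L.mul_mem (hKL a hka) hk'L, ?_, ?_, ?_⟩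
      · rw [hkey]; exact Z0.mul_mem hkaZ hk'Z
      · rw [hkey, Finset.iSup_insert]
        exact Subgroup.mul_mem _ (Subgroup.mem_sup_left hkaW) (Subgroup.mem_sup_right hk'S)
      · intro j hj x hx
        have hja : j ≠ a := by rintro rfl; exact hj (Finset.mem_insert_self _ _)
        have hjs : j ∉ s := fun h => hj (Finset.mem_insert_of_mem h)
        have h1 : k' * x * k'⁻¹ = x := hk'c j hjs x hx
        have h2 : ka * x * ka⁻¹ = x := by
          have := hcent j a hja hx
          rw [Subgroup.mem_centralizer_iff] at this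
          have h3 := this ka hka
          rw [h3]; group
        calc ka * k' * x * (ka * k')⁻¹ = ka * (k' * x * k'⁻¹) * ka⁻¹ := by group
          _ = x := by rw [h1, h2]
  intro u hu hu1
  have hu' : u ∈ ⨆ i ∈ (Finset.univ : Finset ι), W i := by simpa using hu
  obtain ⟨k, hkL, hkZ, -, -⟩ := hind Finset.univ u hu'
  have hne : k * u * k⁻¹ ≠ 1 := by
    intro h
    apply hu1
    have : u = k⁻¹ * (k * u * k⁻¹) * k := by group
    rw [this, h]; group
  intro g hg
  rw [Subgroup.mem_centralizer_iff] at hg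
  have hg' : g * u = u * g := (hg u (Set.mem_singleton u)).symm
  have hmem : k * g * k⁻¹ ∈ Subgroup.centralizer ({k * u * k⁻¹} : Set G) := by
    rw [Subgroup.mem_centralizer_iff]
    intro x hx
    rw [Set.mem_singleton_iff] at hx
    subst hx
    calc k * u * k⁻¹ * (k * g * k⁻¹) = k * (u * g) * k⁻¹ := by group
      _ = k * (g * u) * k⁻¹ := by rw [hg']
      _ = k * g * k⁻¹ * (k * u * k⁻¹) := by group
  have hL := hZ0 _ hkZ hne hmem
  have : g = k⁻¹ * (k * g * k⁻¹) * k := by group
  rw [this]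
  exact L.mul_mem (L.mul_mem (L.inv_mem hkL) hL) hkL

end Cfsg.Agent.H51.JzK
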