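import Mathlib

set_option autoImplicit false

/-!
S0420 piece DQA (helper51, for helper93).
-/

namespace Cfsg.Agent.H51.M11

open Subgroup

theorem card_centralizer_inf_normalizer {G : Type*} [Group G] [Finite G]
    (P : Sylow 3 G) (hP9 : Nat.card (P : Subgroup G) = 9)
    (hN : Nat.card (normalizer ((P : Subgroup G) : Set G)) = 144)
    (hC : Nat.card (centralizer ((P : Subgroup G) : Set G)) = 9)
    (t : G) (ht : orderOf t = 2) (htP : ∀ p ∈ (P : Subgroup G), t * p * t⁻¹ = p⁻¹) :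
    Nat.card ↥(centralizer ({t} : Set G) ⊓ normalizer ((P : Subgroup G) : Set G)) = 16 := by
  -- `P` is abelian
  have hab : ∀ p ∈ (P : Subgroup G), ∀ q ∈ (P : Subgroup G), p * q = q * p := by
    intro p hp q hq
    have h1 := htP (p * q) (mul_mem hp hq)
    have h2 : t * (p * q) * t⁻¹ = (t * p * t⁻¹) * (t * q * t⁻¹) := by group
    rw [h2, htP p hp, htP q hq, mul_inv_rev] at h1
    -- h1 : p⁻¹ * q⁻¹ = q⁻¹ * p⁻¹
    have h3 := congrArg (fun x => x⁻¹) h1
    simp only [mul_inv_rev, inv_inv] at h3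
    exact h3.symm
  -- `C(P) = P`
  have hPC : (P : Subgroup G) ≤ centralizer ((P : Subgroup G) : Set G) := by
    intro p hp
    rw [Subgroup.mem_centralizer_iff]
    intro q hq
    exact hab q hq p hp
  have hCP : centralizer ((P : Subgroup G) : Set G) = (P : Subgroup G) :=
    (Subgroup.eq_of_le_of_card_ge hPC (by rw [hC, hP9])).symm
  have htinv : ∀ p ∈ (P : Subgroup G), t⁻¹ * p * t = p⁻¹ := by
    intro p hp
    have h1 := htP p⁻¹ (inv_mem hp)
    rw [inv_inv] at h1
    calc t⁻¹ * p * t = t⁻¹ * (t * p⁻¹ * t⁻¹) * t := by rw [h1]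
      _ = p⁻¹ := by group
  have hp9 : ∀ p ∈ (P : Subgroup G), p ^ 9 = 1 := by
    intro p hp
    have h1 : (⟨p, hp⟩ : (P : Subgroup G)) ^ Nat.card (P : Subgroup G) = 1 := pow_card_eq_one'
    rw [hP9] at h1
    exact congrArg Subtype.val h1
  set K : Subgroup G := centralizer ({t} : Set G) ⊓ normalizer ((P : Subgroup G) : Set G)
    with hK
  have hKt : ∀ k ∈ K, k * t = t * k := by
    intro k hk
    exact (Subgroup.mem_centralizer_iff.mp hk.1 t rfl).symm
  -- `P ⊓ K = 1`
  have hPK : ∀ p ∈ (P : Subgroup G), p ∈ K → p = 1 := by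
    intro p hp hpK
    have h1 := htP p hp
    have h2 : t * p * t⁻¹ = p := by
      rw [← hKt p hpK]; group
    rw [h2] at h1
    -- p = p⁻¹
    have h3 : p ^ 2 = 1 := by
      rw [pow_two]
      nth_rewrite 1 [h1]
      exact inv_mul_cancel p
    have h4 := hp9 p hp
    calc p = p ^ 9 * ((p ^ 2) ^ 4)⁻¹ := by
          rw [← pow_mul]; group
      _ = 1 := by rw [h4, h3]; group
  -- every `n ∈ N(P)` is in `P K`
  have hsurj : ∀ n ∈ normalizer ((P : Subgroup G) : Set G),
      ∃ p ∈ (P : Subgroup G), ∃ k ∈ K, n = p * k := by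
    intro n hn
    have hnP : ∀ p ∈ (P : Subgroup G), n⁻¹ * p * n ∈ (P : Subgroup G) := by
      intro p hp
      have := (Subgroup.mem_normalizer_iff.mp (inv_mem hn) p).mp hp
      simpa using this
    -- `c = n t n⁻¹ t⁻¹` centralizes `P`
    set c : G := n * t * n⁻¹ * t⁻¹ with hc
    have hcC : c ∈ centralizer ((P : Subgroup G) : Set G) := by
      rw [Subgroup.mem_centralizer_iff]
      intro p hp
      have e1 : t⁻¹ * p * t = p⁻¹ := htinv p hp
      have e2 : t * (n⁻¹ * p⁻¹ * n) * t⁻¹ = (n⁻¹ * p⁻¹ * n)⁻¹ :=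
        htP _ (hnP p⁻¹ (inv_mem hp))
      have e3 : c * p * c⁻¹ = p := by
        calc c * p * c⁻¹ = n * t * n⁻¹ * (t⁻¹ * p * t) * n * t⁻¹ * n⁻¹ := by
              rw [hc]; group
          _ = n * (t * (n⁻¹ * p⁻¹ * n) * t⁻¹) * n⁻¹ := by rw [e1]; group
          _ = n * (n⁻¹ * p⁻¹ * n)⁻¹ * n⁻¹ := by rw [e2]
          _ = p := by group
      calc p * c = (c * p * c⁻¹) * c := by rw [e3]
        _ = c * p := by group
    have hcP : c ∈ (P : Subgroup G) := hCP ▸ hcC
    have hc9 := hp9 c hcP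
    set p : G := c ^ 5 with hp
    have hpP : p ∈ (P : Subgroup G) := pow_mem hcP 5
    have hpt : p * t * p⁻¹ = n * t * n⁻¹ := by
      have e1 : t * p⁻¹ * t⁻¹ = p := by
        have := htP p⁻¹ (inv_mem hpP)
        rw [inv_inv] at this
        exact this
      calc p * t * p⁻¹ = p * (t * p⁻¹ * t⁻¹) * t := by group
        _ = p * p * t := by rw [e1]
        _ = c ^ 10 * t := by rw [hp, ← pow_add]
        _ = c ^ 9 * c * t := by rw [← pow_succ]
        _ = c * t := by rw [hc9, one_mul]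
        _ = n * t * n⁻¹ := by rw [hc]; group
    refine ⟨p, hpP, p⁻¹ * n, Subgroup.mem_inf.mpr ⟨?_, ?_⟩, by group⟩
    · rw [Subgroup.mem_centralizer_iff]
      intro x hx
      rw [Set.mem_singleton_iff] at hx
      rw [hx]
      have e : n * t = p * t * p⁻¹ * n := by rw [hpt]; group
      calc t * (p⁻¹ * n) = p⁻¹ * (p * t * p⁻¹ * n) := by group
        _ = p⁻¹ * (n * t) := by rw [e]
        _ = p⁻¹ * n * t := by group
    · exact mul_mem (inv_mem (le_normalizer hpP)) hn
  -- the bijection `P × K ≃ N(P)`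
  let f : ↥(P : Subgroup G) × ↥K → ↥(normalizer ((P : Subgroup G) : Set G)) :=
    fun x => ⟨x.1 * x.2, mul_mem (le_normalizer x.1.2) x.2.2.2⟩
  have hf : Function.Bijective f := by
    constructor
    · rintro ⟨⟨p, hp⟩, ⟨k, hk⟩⟩ ⟨⟨p', hp'⟩, ⟨k', hk'⟩⟩ h
      have h1 : p * k = p' * k' := congrArg Subtype.val h
      have h2 : p'⁻¹ * p = k' * k⁻¹ := by
        calc p'⁻¹ * p = p'⁻¹ * (p * k) * k⁻¹ := by group
          _ = p'⁻¹ * (p' * k') * k⁻¹ := by rw [h1]
          _ = k' * k⁻¹ := by group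
      have h3 : p'⁻¹ * p = 1 :=
        hPK _ (mul_mem (inv_mem hp') hp) (h2 ▸ mul_mem hk' (inv_mem hk))
      have h4 : p = p' := by
        calc p = p' * (p'⁻¹ * p) := by group
          _ = p' := by rw [h3, mul_one]
      have h5 : k = k' := by
        rw [h4] at h1
        exact mul_left_cancel h1
      subst h4
      subst h5
      rfl
    · rintro ⟨n, hn⟩
      obtain ⟨p, hp, k, hk, rfl⟩ := hsurj n hn
      exact ⟨⟨⟨p, hp⟩, ⟨k, hk⟩⟩, rfl⟩
  have hcard := Nat.card_congr (Equiv.ofBijective f hf)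
  rw [Nat.card_prod, hP9, hN] at hcard
  omega

end Cfsg.Agent.H51.M11
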