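import Mathlib
import Cfsg.Agent.H17.MnDefs
import Cfsg.Agent.H77.MnBas2

/-!
# S5634-MOV (helper51, for helper17): moving a coordinate column to position `(0, 0)`
-/

set_option autoImplicit false

namespace Cfsg.Agent.H51.Mn

open Cfsg Cfsg.Geo Cfsg.Agent.H17.Mn
open scoped MatrixGroups Matrix

variable {ι : Type} [Fintype ι] [DecidableEq ι] {F : Type*} [Field F]

/-- an element of `monoS` whose column `p` is supported at row `q` -/
theorem exists_mover (p q : ι) : ∃ g : GL ι F, g ∈ monoS ι F ∧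
    ∀ r, r ≠ q → (g : Matrix ι ι F) r p = 0 := by
  by_cases hpq : p = q
  · subst hpq
    refine ⟨1, one_mem _, ?_⟩
    intro r hr
    rw [Units.val_one, Matrix.one_apply_ne hr]
  · obtain ⟨g, hg, -, -, h3, -, -⟩ := Cfsg.Agent.H77.Mn.exists_sswap (F := F) p q hpq
    exact ⟨g, hg, h3⟩

theorem move_col {k : ℕ} (M : Subgroup (GL (Fin (k + 1)) F)) (hM : monoS (Fin (k + 1)) F ≤ M) (m : GL (Fin (k + 1)) F) (hm : m ∈ M) (i j : Fin (k + 1)) (h : ∀ i', i' ≠ i → (m : Matrix (Fin (k + 1)) (Fin (k + 1)) F) i' j = 0) : ∃ m' ∈ M, (∀ i : Fin k, (m' : Matrix (Fin (k + 1)) (Fin (k + 1)) F) i.succ 0 = 0) ∧ (m' ∈ mono (Fin (k + 1)) F ↔ m ∈ mono (Fin (k + 1)) F) := by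
  obtain ⟨n', hn', hn'0⟩ := exists_mover (F := F) (0 : Fin (k + 1)) j
  obtain ⟨n, hn, hn0⟩ := exists_mover (F := F) i (0 : Fin (k + 1))
  have hX : ∀ r, r ≠ i → ((m * n' : GL (Fin (k + 1)) F) : Matrix (Fin (k + 1)) (Fin (k + 1)) F) r 0
      = 0 := by
    intro r hr
    rw [Units.val_mul, Matrix.mul_apply]
    refine Finset.sum_eq_zero (fun l _ => ?_)
    by_cases hl : l = j
    · rw [hl, h r hr, zero_mul]
    · rw [hn'0 l hl, mul_zero]
  refine ⟨n * (m * n'), M.mul_mem (hM hn) (M.mul_mem hm (hM hn')), ?_, ?_⟩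
  · intro r
    rw [Units.val_mul, Matrix.mul_apply]
    refine Finset.sum_eq_zero (fun l _ => ?_)
    by_cases hl : l = i
    · rw [hl, hn0 r.succ (Fin.succ_ne_zero r), zero_mul]
    · rw [hX l hl, mul_zero]
  · rw [(mono (Fin (k + 1)) F).mul_mem_cancel_left hn.1,
      (mono (Fin (k + 1)) F).mul_mem_cancel_right hn'.1]

/-- verbatim check of the posted statement -/
example {k : ℕ} (M : Subgroup (GL (Fin (k + 1)) F)) (hM : monoS (Fin (k + 1)) F ≤ M) (m : GL (Fin (k + 1)) F) (hm : m ∈ M) (i j : Fin (k + 1)) (h : ∀ i', i' ≠ i → (m : Matrix (Fin (k + 1)) (Fin (k + 1)) F) i' j = 0) : ∃ m' ∈ M, (∀ i : Fin k, (m' : Matrix (Fin (k + 1)) (Fin (k + 1)) F) i.succ 0 = 0) ∧ (m' ∈ mono (Fin (k + 1)) F ↔ m ∈ mono (Fin (k + 1)) F) :=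
  move_col M hM m hm i j h

end Cfsg.Agent.H51.Mn
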