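import Mathlib
import Cfsg.Agent.H17.MnDefs

/-!
# S5634-SECG (helper51, for helper17): the section group

Matrices whose column `0` is a multiple of `e₀` are block upper triangular; the lower right block
(the section) is multiplicative on them.  The sections of the elements of `M ≥ monoS` form a
subgroup of `GL_k` containing the full monomial group.
-/

set_option autoImplicit false

namespace Cfsg.Agent.H51.Mn

open Cfsg Cfsg.Geo Cfsg.Agent.H17.Mn
open scoped MatrixGroups Matrix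

variable {ι : Type} [Fintype ι] [DecidableEq ι] {F : Type*} [Field F]

/-- the section (lower right block) -/
def sec {k : ℕ} (A : Matrix (Fin (k + 1)) (Fin (k + 1)) F) : Matrix (Fin k) (Fin k) F :=
  A.submatrix Fin.succ Fin.succ

theorem sec_apply {k : ℕ} (A : Matrix (Fin (k + 1)) (Fin (k + 1)) F) (i j : Fin k) :
    sec A i j = A i.succ j.succ := rfl

theorem sec_mul {k : ℕ} (A B : Matrix (Fin (k + 1)) (Fin (k + 1)) F)
    (hA : ∀ i : Fin k, A i.succ 0 = 0) : sec (A * B) = sec A * sec B := by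
  ext i j
  simp only [sec_apply, Matrix.mul_apply, Fin.sum_univ_succ, hA i, zero_mul, zero_add]

theorem col_mul {k : ℕ} (A B : Matrix (Fin (k + 1)) (Fin (k + 1)) F)
    (hA : ∀ i : Fin k, A i.succ 0 = 0) (hB : ∀ i : Fin k, B i.succ 0 = 0) (i : Fin k) :
    (A * B) i.succ 0 = 0 := by
  simp only [Matrix.mul_apply, Fin.sum_univ_succ, hA i, hB, zero_mul, mul_zero,
    Finset.sum_const_zero, add_zero]

theorem det_eq_mul_sec {k : ℕ} (A : Matrix (Fin (k + 1)) (Fin (k + 1)) F)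
    (hA : ∀ i : Fin k, A i.succ 0 = 0) : A.det = A 0 0 * (sec A).det := by
  rw [Matrix.det_succ_column_zero, Fin.sum_univ_succ]
  simp only [hA, mul_zero, zero_mul, Finset.sum_const_zero, add_zero]
  simp [sec]

theorem gl_det_ne_zero {n : ℕ} (m : GL (Fin n) F) : (m : Matrix (Fin n) (Fin n) F).det ≠ 0 :=
  (Matrix.isUnits_det_units m).ne_zero

theorem gl_zero_zero_ne {k : ℕ} (m : GL (Fin (k + 1)) F)
    (h0 : ∀ i : Fin k, (m : Matrix (Fin (k + 1)) (Fin (k + 1)) F) i.succ 0 = 0) :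
    (m : Matrix (Fin (k + 1)) (Fin (k + 1)) F) 0 0 ≠ 0 := by
  intro h
  apply gl_det_ne_zero m
  rw [det_eq_mul_sec _ h0, h, zero_mul]

theorem inv_col {k : ℕ} (m : GL (Fin (k + 1)) F)
    (h0 : ∀ i : Fin k, (m : Matrix (Fin (k + 1)) (Fin (k + 1)) F) i.succ 0 = 0) (i : Fin k) :
    ((m⁻¹ : GL (Fin (k + 1)) F) : Matrix (Fin (k + 1)) (Fin (k + 1)) F) i.succ 0 = 0 := by
  have h00 := gl_zero_zero_ne m h0
  have h1 : ((m⁻¹ : GL (Fin (k + 1)) F) : Matrix (Fin (k + 1)) (Fin (k + 1)) F) *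
      (m : Matrix (Fin (k + 1)) (Fin (k + 1)) F) = 1 := by
    rw [← Units.val_mul, inv_mul_cancel, Units.val_one]
  have h2 := congrFun (congrFun h1 i.succ) 0
  rw [Matrix.mul_apply, Fin.sum_univ_succ] at h2
  simp only [h0, mul_zero, Finset.sum_const_zero, add_zero] at h2
  rw [Matrix.one_apply_ne (Fin.succ_ne_zero i)] at h2
  exact (mul_eq_zero.mp h2).resolve_right h00

/-- the block diagonal matrix `diag(d, S)` -/
def blk {k : ℕ} (d : F) (S : Matrix (Fin k) (Fin k) F) : Matrix (Fin (k + 1)) (Fin (k + 1)) F :=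
  Matrix.of (fun i j =>
    Fin.cases (Fin.cases d (fun _ => 0) j) (fun i' => Fin.cases 0 (fun j' => S i' j') j) i)

@[simp] theorem blk_zero_zero {k : ℕ} (d : F) (S : Matrix (Fin k) (Fin k) F) :
    blk d S 0 0 = d := rfl

@[simp] theorem blk_zero_succ {k : ℕ} (d : F) (S : Matrix (Fin k) (Fin k) F) (j : Fin k) :
    blk d S 0 j.succ = 0 := rfl

@[simp] theorem blk_succ_zero {k : ℕ} (d : F) (S : Matrix (Fin k) (Fin k) F) (i : Fin k) :
    blk d S i.succ 0 = 0 := rfl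

@[simp] theorem blk_succ_succ {k : ℕ} (d : F) (S : Matrix (Fin k) (Fin k) F) (i j : Fin k) :
    blk d S i.succ j.succ = S i j := rfl

theorem blk_mul {k : ℕ} (d d' : F) (S S' : Matrix (Fin k) (Fin k) F) :
    blk d S * blk d' S' = blk (d * d') (S * S') := by
  ext i j
  refine Fin.cases ?_ (fun i' => ?_) i <;> refine Fin.cases ?_ (fun j' => ?_) j <;>
    simp [Matrix.mul_apply, Fin.sum_univ_succ]

theorem blk_one {k : ℕ} : blk (1 : F) (1 : Matrix (Fin k) (Fin k) F) = 1 := by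
  ext i j
  refine Fin.cases ?_ (fun i' => ?_) i <;> refine Fin.cases ?_ (fun j' => ?_) j
  · simp
  · rw [blk_zero_succ, Matrix.one_apply_ne (Fin.succ_ne_zero j').symm]
  · rw [blk_succ_zero, Matrix.one_apply_ne (Fin.succ_ne_zero i')]
  · rw [blk_succ_succ, Matrix.one_apply, Matrix.one_apply]
    simp [Fin.succ_inj]

theorem sec_blk {k : ℕ} (d : F) (S : Matrix (Fin k) (Fin k) F) : sec (blk d S) = S := by
  ext i j
  rfl

theorem blk_det {k : ℕ} (d : F) (S : Matrix (Fin k) (Fin k) F) : (blk d S).det = d * S.det := by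
  rw [det_eq_mul_sec _ (fun i => rfl), sec_blk, blk_zero_zero]

theorem isMon_blk {k : ℕ} (d : F) (S : Matrix (Fin k) (Fin k) F) (hS : IsMon S) :
    IsMon (blk d S) := by
  intro j i i'
  refine Fin.cases ?_ (fun j' => ?_) j
  · refine Fin.cases ?_ (fun i1 => ?_) i <;> refine Fin.cases ?_ (fun i2 => ?_) i' <;> simp
  · refine Fin.cases ?_ (fun i1 => ?_) i <;> refine Fin.cases ?_ (fun i2 => ?_) i' <;> simp
    intro h1 h2
    exact hS j' i1 i2 h1 h2

/-- `diag((det s)⁻¹, s)` as an element of `GL` -/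
noncomputable def blkGL {k : ℕ} (s : GL (Fin k) F) : GL (Fin (k + 1)) F where
  val := blk ((s : Matrix (Fin k) (Fin k) F).det)⁻¹ (s : Matrix (Fin k) (Fin k) F)
  inv := blk ((s : Matrix (Fin k) (Fin k) F).det) ((s⁻¹ : GL (Fin k) F) : Matrix (Fin k) (Fin k) F)
  val_inv := by
    rw [blk_mul, inv_mul_cancel₀ (gl_det_ne_zero s), ← Units.val_mul, mul_inv_cancel,
      Units.val_one, blk_one]
  inv_val := by
    rw [blk_mul, mul_inv_cancel₀ (gl_det_ne_zero s), ← Units.val_mul, inv_mul_cancel,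
      Units.val_one, blk_one]

theorem blkGL_mem_monoS {k : ℕ} (s : GL (Fin k) F) (hs : s ∈ mono (Fin k) F) :
    blkGL s ∈ monoS (Fin (k + 1)) F := by
  rw [mem_monoS_iff]
  refine ⟨⟨isMon_blk _ _ hs.1, isMon_blk _ _ hs.2⟩, ?_⟩
  rw [Cfsg.Agent.H95.mem_specialLinear_iff]
  show (blk _ _).det = 1
  rw [blk_det, inv_mul_cancel₀ (gl_det_ne_zero s)]

theorem exists_section {k : ℕ} (m : GL (Fin (k + 1)) F)
    (h0 : ∀ i : Fin k, (m : Matrix (Fin (k + 1)) (Fin (k + 1)) F) i.succ 0 = 0) :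
    ∃ s : GL (Fin k) F, ∀ i j, (s : Matrix (Fin k) (Fin k) F) i j =
      (m : Matrix (Fin (k + 1)) (Fin (k + 1)) F) i.succ j.succ := by
  have hdet : (sec (m : Matrix (Fin (k + 1)) (Fin (k + 1)) F)).det ≠ 0 := by
    intro h
    apply gl_det_ne_zero m
    rw [det_eq_mul_sec _ h0, h, mul_zero]
  exact ⟨Matrix.GeneralLinearGroup.mkOfDetNeZero _ hdet, fun i j => rfl⟩

theorem exists_secGrp {k : ℕ} (M : Subgroup (GL (Fin (k + 1)) F))
    (hM : monoS (Fin (k + 1)) F ≤ M) :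
    ∃ M' : Subgroup (GL (Fin k) F), mono (Fin k) F ≤ M' ∧ ∀ s, s ∈ M' ↔ Lifts M s := by
  refine ⟨{ carrier := {s | Lifts M s}, mul_mem' := ?_, one_mem' := ?_, inv_mem' := ?_ }, ?_,
    fun s => Iff.rfl⟩
  · rintro s s' ⟨m, hm, hm0, hms⟩ ⟨m', hm', hm0', hms'⟩
    refine ⟨m * m', M.mul_mem hm hm', ?_, ?_⟩
    · intro i
      rw [Units.val_mul]
      exact col_mul _ _ hm0 hm0' i
    · intro i j
      have h1 := congrFun (congrFun (sec_mul (m : Matrix (Fin (k + 1)) (Fin (k + 1)) F)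
        (m' : Matrix (Fin (k + 1)) (Fin (k + 1)) F) hm0) i) j
      rw [sec_apply] at h1
      rw [Units.val_mul, Units.val_mul, h1, Matrix.mul_apply, Matrix.mul_apply]
      exact Finset.sum_congr rfl (fun l _ => by rw [sec_apply, sec_apply, hms, hms'])
  · refine ⟨1, M.one_mem, ?_, ?_⟩
    · intro i
      rw [Units.val_one, Matrix.one_apply_ne (Fin.succ_ne_zero i)]
    · intro i j
      rw [Units.val_one, Units.val_one, Matrix.one_apply, Matrix.one_apply]
      simp [Fin.succ_inj]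
  · rintro s ⟨m, hm, hm0, hms⟩
    refine ⟨m⁻¹, M.inv_mem hm, inv_col m hm0, ?_⟩
    have hsec : sec (m : Matrix (Fin (k + 1)) (Fin (k + 1)) F) = (s : Matrix (Fin k) (Fin k) F) := by
      ext i j
      exact hms i j
    have h1 : sec ((m⁻¹ : GL (Fin (k + 1)) F) : Matrix (Fin (k + 1)) (Fin (k + 1)) F) *
        (s : Matrix (Fin k) (Fin k) F) = 1 := by
      rw [← hsec, ← sec_mul _ _ (inv_col m hm0), ← Units.val_mul, inv_mul_cancel, Units.val_one]
      ext i j
      rw [sec_apply, Matrix.one_apply, Matrix.one_apply]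
      simp [Fin.succ_inj]
    have h2 : ((s⁻¹ : GL (Fin k) F) : Matrix (Fin k) (Fin k) F) =
        sec ((m⁻¹ : GL (Fin (k + 1)) F) : Matrix (Fin (k + 1)) (Fin (k + 1)) F) :=
      Units.inv_eq_of_mul_eq_one_left h1
    intro i j
    rw [h2]
    rfl
  · intro s hs
    refine ⟨blkGL s, hM (blkGL_mem_monoS s hs), fun i => rfl, fun i j => rfl⟩

/-- verbatim checks of the posted statements -/
example {k : ℕ} (M : Subgroup (GL (Fin (k + 1)) F)) (hM : monoS (Fin (k + 1)) F ≤ M) : ∃ M' : Subgroup (GL (Fin k) F), mono (Fin k) F ≤ M' ∧ ∀ s, s ∈ M' ↔ Lifts M s :=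
  exists_secGrp M hM

example {k : ℕ} (m : GL (Fin (k + 1)) F) (h0 : ∀ i : Fin k, (m : Matrix (Fin (k + 1)) (Fin (k + 1)) F) i.succ 0 = 0) : ∃ s : GL (Fin k) F, ∀ i j, (s : Matrix (Fin k) (Fin k) F) i j = (m : Matrix (Fin (k + 1)) (Fin (k + 1)) F) i.succ j.succ :=
  exists_section m h0

end Cfsg.Agent.H51.Mn
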