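import Mathlib
import Cfsg.Agent.H17.MnDefs
import Cfsg.Agent.H51.MnSECG
import Cfsg.Agent.H10.MnKER

/-!
# S5634-SECC (helper51, for helper17): an elementary transvection in the section group lifts
-/

set_option autoImplicit false

namespace Cfsg.Agent.H51.Mn

open Cfsg Cfsg.Geo Cfsg.Agent.H17.Mn
open scoped MatrixGroups Matrix

variable {ι : Type} [Fintype ι] [DecidableEq ι] {F : Type*} [Field F]

theorem zz_mul {k : ℕ} (A B : Matrix (Fin (k + 1)) (Fin (k + 1)) F)
    (hB : ∀ i : Fin k, B i.succ 0 = 0) : (A * B) 0 0 = A 0 0 * B 0 0 := by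
  simp only [Matrix.mul_apply, Fin.sum_univ_succ, hB, mul_zero, Finset.sum_const_zero, add_zero]

theorem sec_one {k : ℕ} : sec (1 : Matrix (Fin (k + 1)) (Fin (k + 1)) F) = 1 := by
  ext i j
  rw [sec_apply, Matrix.one_apply, Matrix.one_apply]
  simp [Fin.succ_inj]

theorem sec_mul_inv {k : ℕ} (m : GL (Fin (k + 1)) F)
    (h0 : ∀ i : Fin k, (m : Matrix (Fin (k + 1)) (Fin (k + 1)) F) i.succ 0 = 0) :
    sec (m : Matrix (Fin (k + 1)) (Fin (k + 1)) F) *
      sec ((m⁻¹ : GL (Fin (k + 1)) F) : Matrix (Fin (k + 1)) (Fin (k + 1)) F) = 1 := by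
  rw [← sec_mul _ _ h0, ← Units.val_mul, mul_inv_cancel, Units.val_one, sec_one]

theorem zz_mul_inv {k : ℕ} (m : GL (Fin (k + 1)) F)
    (h0 : ∀ i : Fin k, (m : Matrix (Fin (k + 1)) (Fin (k + 1)) F) i.succ 0 = 0) :
    (m : Matrix (Fin (k + 1)) (Fin (k + 1)) F) 0 0 *
      ((m⁻¹ : GL (Fin (k + 1)) F) : Matrix (Fin (k + 1)) (Fin (k + 1)) F) 0 0 = 1 := by
  rw [← zz_mul _ _ (inv_col m h0), ← Units.val_mul, mul_inv_cancel, Units.val_one,
    Matrix.one_apply_eq]

/-- the commutator of two block triangular elements with commuting sections is the identity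
outside row `0` and has `(0,0)` entry `1` -/
theorem comm_shape {k : ℕ} (t y : GL (Fin (k + 1)) F)
    (ht0 : ∀ i : Fin k, (t : Matrix (Fin (k + 1)) (Fin (k + 1)) F) i.succ 0 = 0)
    (hy0 : ∀ i : Fin k, (y : Matrix (Fin (k + 1)) (Fin (k + 1)) F) i.succ 0 = 0)
    (hcomm : sec (t : Matrix (Fin (k + 1)) (Fin (k + 1)) F) *
        sec (y : Matrix (Fin (k + 1)) (Fin (k + 1)) F) =
      sec (y : Matrix (Fin (k + 1)) (Fin (k + 1)) F) *
        sec (t : Matrix (Fin (k + 1)) (Fin (k + 1)) F)) :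
    (∀ r l, r ≠ 0 → ((t * y * t⁻¹ * y⁻¹ : GL (Fin (k + 1)) F) :
        Matrix (Fin (k + 1)) (Fin (k + 1)) F) r l = (1 : Matrix (Fin (k + 1)) (Fin (k + 1)) F) r l) ∧
      ((t * y * t⁻¹ * y⁻¹ : GL (Fin (k + 1)) F) : Matrix (Fin (k + 1)) (Fin (k + 1)) F) 0 0 = 1 := by
  have hti := inv_col t ht0
  have hyi := inv_col y hy0
  have h1 := col_mul _ _ ht0 hy0
  have h2 := col_mul _ _ h1 hti
  have h3 := col_mul _ _ h2 hyi
  have hval : ((t * y * t⁻¹ * y⁻¹ : GL (Fin (k + 1)) F) : Matrix (Fin (k + 1)) (Fin (k + 1)) F) =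
      (t : Matrix (Fin (k + 1)) (Fin (k + 1)) F) * (y : Matrix (Fin (k + 1)) (Fin (k + 1)) F) *
        ((t⁻¹ : GL (Fin (k + 1)) F) : Matrix (Fin (k + 1)) (Fin (k + 1)) F) *
        ((y⁻¹ : GL (Fin (k + 1)) F) : Matrix (Fin (k + 1)) (Fin (k + 1)) F) := by
    simp only [Units.val_mul]
  have hsec : sec ((t * y * t⁻¹ * y⁻¹ : GL (Fin (k + 1)) F) :
      Matrix (Fin (k + 1)) (Fin (k + 1)) F) = 1 := by
    rw [hval, sec_mul _ _ h2, sec_mul _ _ h1, sec_mul _ _ ht0, hcomm, mul_assoc (sec _) (sec _),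
      sec_mul_inv t ht0, mul_one, sec_mul_inv y hy0]
  refine ⟨?_, ?_⟩
  · intro r l hr
    obtain ⟨r', rfl⟩ := Fin.exists_succ_eq.mpr hr
    refine Fin.cases ?_ (fun l' => ?_) l
    · rw [hval, h3 r', Matrix.one_apply_ne (Fin.succ_ne_zero r')]
    · have := congrFun (congrFun hsec r') l'
      rw [sec_apply] at this
      rw [this, Matrix.one_apply, Matrix.one_apply]
      simp [Fin.succ_inj]
  · rw [hval, zz_mul _ _ hyi, zz_mul _ _ hti, zz_mul _ _ hy0]
    have e1 := zz_mul_inv t ht0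
    have e2 := zz_mul_inv y hy0
    calc (t : Matrix (Fin (k + 1)) (Fin (k + 1)) F) 0 0 *
          (y : Matrix (Fin (k + 1)) (Fin (k + 1)) F) 0 0 *
          ((t⁻¹ : GL (Fin (k + 1)) F) : Matrix (Fin (k + 1)) (Fin (k + 1)) F) 0 0 *
          ((y⁻¹ : GL (Fin (k + 1)) F) : Matrix (Fin (k + 1)) (Fin (k + 1)) F) 0 0
        = ((t : Matrix (Fin (k + 1)) (Fin (k + 1)) F) 0 0 *
          ((t⁻¹ : GL (Fin (k + 1)) F) : Matrix (Fin (k + 1)) (Fin (k + 1)) F) 0 0) *
          ((y : Matrix (Fin (k + 1)) (Fin (k + 1)) F) 0 0 *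
          ((y⁻¹ : GL (Fin (k + 1)) F) : Matrix (Fin (k + 1)) (Fin (k + 1)) F) 0 0) := by ring
      _ = 1 := by rw [e1, e2, mul_one]

theorem exists_beta [Fintype F] (hq : 5 ≤ Fintype.card F) :
    ∃ β : F, β ≠ 0 ∧ β ^ 2 ≠ 1 ∧ β ^ 3 ≠ 1 := by
  classical
  obtain ⟨g, hg⟩ := IsCyclic.exists_generator (α := Fˣ)
  have hord : orderOf g = Fintype.card F - 1 := by
    rw [orderOf_eq_card_of_forall_mem_zpowers hg, Nat.card_eq_fintype_card, Fintype.card_units]
  refine ⟨(g : F), g.ne_zero, ?_, ?_⟩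
  · intro h
    have h1 : g ^ 2 = 1 := Units.ext (by simpa using h)
    have h2 := Nat.le_of_dvd (by norm_num) (orderOf_dvd_of_pow_eq_one h1)
    omega
  · intro h
    have h1 : g ^ 3 = 1 := Units.ext (by simpa using h)
    have h2 := Nat.le_of_dvd (by norm_num) (orderOf_dvd_of_pow_eq_one h1)
    omega

theorem diagonal_eq_blk {k : ℕ} (d : Fin (k + 1) → F) :
    Matrix.diagonal d = blk (d 0) (Matrix.diagonal (fun j : Fin k => d j.succ)) := by
  ext i j
  refine Fin.cases ?_ (fun i' => ?_) i <;> refine Fin.cases ?_ (fun j' => ?_) j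
  · simp
  · rw [blk_zero_succ, Matrix.diagonal_apply_ne _ (Fin.succ_ne_zero j').symm]
  · rw [blk_succ_zero, Matrix.diagonal_apply_ne _ (Fin.succ_ne_zero i')]
  · rw [blk_succ_succ, Matrix.diagonal_apply, Matrix.diagonal_apply]
    simp [Fin.succ_inj]

theorem tv_apply {n : Type*} [DecidableEq n] (a b : n) (c : F) (i j : n) :
    Matrix.transvection a b c i j =
      (1 : Matrix n n F) i j + if a = i ∧ b = j then c else 0 := rfl

theorem transvection_succ_eq_blk {k : ℕ} (a b : Fin k) (c : F) :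
    Matrix.transvection a.succ b.succ c = blk 1 (Matrix.transvection a b c) := by
  ext i j
  refine Fin.cases ?_ (fun i' => ?_) i <;> refine Fin.cases ?_ (fun j' => ?_) j
  · rw [tv_apply, blk_zero_zero, Matrix.one_apply_eq,
      if_neg (fun h => Fin.succ_ne_zero a h.1), add_zero]
  · rw [tv_apply, blk_zero_succ, Matrix.one_apply_ne (Fin.succ_ne_zero j').symm,
      if_neg (fun h => Fin.succ_ne_zero a h.1), add_zero]
  · rw [tv_apply, blk_succ_zero, Matrix.one_apply_ne (Fin.succ_ne_zero i'),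
      if_neg (fun h => Fin.succ_ne_zero b h.2), add_zero]
  · rw [tv_apply, blk_succ_succ, tv_apply, Matrix.one_apply, Matrix.one_apply]
    simp [Fin.succ_inj]

theorem transvection_apply_of_row_ne {k : ℕ} (a b : Fin k) (c : F) (i j : Fin k) (hi : i ≠ a) :
    Matrix.transvection a b c i j = (1 : Matrix (Fin k) (Fin k) F) i j := by
  rw [tv_apply, if_neg (fun h => hi h.1.symm), add_zero]

/-- the key identity: `T_ab(ξ(1-β)) * (Δ * T_ab(ξ)) = T_ab(ξ) * Δ` for `Δ = diag(β at a)` -/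
theorem key_tv {k : ℕ} (a b : Fin k) (hab : a ≠ b) (ξ β : F) :
    Matrix.transvection a b (ξ * (1 - β)) *
        (Matrix.diagonal (fun j : Fin k => if j = a then β else 1) * Matrix.transvection a b ξ) =
      Matrix.transvection a b ξ * Matrix.diagonal (fun j : Fin k => if j = a then β else (1 : F)) := by
  ext i j
  rw [Matrix.mul_diagonal]
  by_cases hi : i = a
  · subst hi
    rw [Matrix.transvection_mul_apply_same, Matrix.diagonal_mul, Matrix.diagonal_mul,
      if_pos rfl, if_neg hab.symm, one_mul, transvection_apply_of_row_ne _ _ _ _ _ hab.symm,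
      tv_apply]
    by_cases hj : j = b
    · subst hj
      rw [Matrix.one_apply_ne hab, Matrix.one_apply_eq, if_pos ⟨rfl, rfl⟩, if_neg hab.symm]
      ring
    · rw [if_neg (fun h => hj h.2.symm), Matrix.one_apply_ne (Ne.symm hj)]
      by_cases hji : j = i
      · subst hji
        rw [Matrix.one_apply_eq, if_pos rfl]
        ring
      · rw [Matrix.one_apply_ne (Ne.symm hji)]
        ring
  · rw [Matrix.transvection_mul_apply_of_ne _ _ _ _ hi, Matrix.diagonal_mul, if_neg hi, one_mul,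
      transvection_apply_of_row_ne _ _ _ _ _ hi]
    by_cases hij : i = j
    · subst hij
      rw [if_neg hi, mul_one]
    · rw [Matrix.one_apply_ne hij, zero_mul]

theorem elemTv_of_section [Fintype F] {k : ℕ} (hk : 2 ≤ k) (hq : 5 ≤ Fintype.card F) (M : Subgroup (GL (Fin (k + 1)) F)) (hM : monoS (Fin (k + 1)) F ≤ M) (s : GL (Fin k) F) (hs : IsElemTv s) (hl : Lifts M s) : ∃ g ∈ M, IsElemTv g := by
  classical
  by_cases htame : ∀ g ∈ M, ¬ IsElemTv g
  swap
  · by_contra hcon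
    exact htame (fun g hg hgt => hcon ⟨g, hg, hgt⟩)
  obtain ⟨a, b, hab, ξ, hξ, hsm⟩ := hs
  obtain ⟨y, hyM, hy0, hys⟩ := hl
  obtain ⟨β, hβ0, hβ2, hβ3⟩ := exists_beta (F := F) hq
  have hβ1 : β ≠ 1 := by
    intro h
    apply hβ2
    rw [h, one_pow]
  have hsecy : sec (y : Matrix (Fin (k + 1)) (Fin (k + 1)) F) = Matrix.transvection a b ξ := by
    rw [← hsm]
    ext i j
    exact hys i j
  -- Step 1: the top row of `y` vanishes
  let d' : Fin k → F := fun j => (if j = a then β else 1) * (if j = b then β else 1)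
  let d : Fin (k + 1) → F := Fin.cases (β⁻¹ * β⁻¹) d'
  have hd'val : ∀ j, d' j = β ∨ d' j = 1 := by
    intro j
    show (if j = a then β else 1) * (if j = b then β else 1) = β ∨
      (if j = a then β else 1) * (if j = b then β else 1) = 1
    by_cases h1 : j = a
    · have h2 : j ≠ b := fun h => hab (h1.symm.trans h)
      rw [if_pos h1, if_neg h2, mul_one]
      exact Or.inl rfl
    · by_cases h2 : j = b
      · rw [if_neg h1, if_pos h2, one_mul]
        exact Or.inl rfl
      · rw [if_neg h1, if_neg h2, one_mul]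
        exact Or.inr rfl
  have hd'a : d' a = β := by
    show (if a = a then β else 1) * (if a = b then β else 1) = β
    rw [if_pos rfl, if_neg hab, mul_one]
  have hd'b : d' b = β := by
    show (if b = a then β else 1) * (if b = b then β else 1) = β
    rw [if_neg hab.symm, if_pos rfl, one_mul]
  have hd : ∀ l, d l ≠ 0 := by
    intro l
    refine Fin.cases ?_ (fun j => ?_) l
    · exact mul_ne_zero (inv_ne_zero hβ0) (inv_ne_zero hβ0)
    · show d' j ≠ 0
      rcases hd'val j with h | h <;> rw [h]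
      · exact hβ0
      · exact one_ne_zero
  have hdprod : ∏ l, d l = 1 := by
    rw [Fin.prod_univ_succ]
    show β⁻¹ * β⁻¹ * ∏ j : Fin k, ((if j = a then β else 1) * (if j = b then β else 1)) = 1
    rw [Finset.prod_mul_distrib, Finset.prod_ite_eq' Finset.univ a (fun _ => β),
      Finset.prod_ite_eq' Finset.univ b (fun _ => β)]
    simp only [Finset.mem_univ, if_true]
    field_simp
  obtain ⟨t, htv, -, htS⟩ := Cfsg.Agent.H10.Mn.diag_gl d hd hdprod
  have htM : t ∈ M := hM htS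
  have ht0 : ∀ i : Fin k, (t : Matrix (Fin (k + 1)) (Fin (k + 1)) F) i.succ 0 = 0 := by
    intro i
    rw [htv, Matrix.diagonal_apply_ne _ (Fin.succ_ne_zero i)]
  have hsect : sec (t : Matrix (Fin (k + 1)) (Fin (k + 1)) F) = Matrix.diagonal d' := by
    rw [htv, diagonal_eq_blk, sec_blk]
    rfl
  have hcomm : sec (t : Matrix (Fin (k + 1)) (Fin (k + 1)) F) *
      sec (y : Matrix (Fin (k + 1)) (Fin (k + 1)) F) =
      sec (y : Matrix (Fin (k + 1)) (Fin (k + 1)) F) *
        sec (t : Matrix (Fin (k + 1)) (Fin (k + 1)) F) := by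
    rw [hsect, hsecy]
    ext i j
    rw [Matrix.diagonal_mul, Matrix.mul_diagonal]
    by_cases hi : i = a
    · subst hi
      by_cases hj : j = b
      · subst hj
        rw [hd'a, hd'b, mul_comm]
      · by_cases hji : j = i
        · subst hji
          rw [mul_comm]
        · have : Matrix.transvection i b ξ i j = 0 := by
            rw [tv_apply, Matrix.one_apply_ne (Ne.symm hji), if_neg (fun h => hj h.2.symm),
              add_zero]
          rw [this, mul_zero, zero_mul]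
    · rw [transvection_apply_of_row_ne _ _ _ _ _ hi]
      by_cases hij : i = j
      · subst hij
        rw [mul_comm]
      · rw [Matrix.one_apply_ne hij, mul_zero, zero_mul]
  obtain ⟨hrow, hii⟩ := comm_shape t y ht0 hy0 hcomm
  have hu1 : t * y * t⁻¹ * y⁻¹ = 1 :=
    Cfsg.Agent.H10.Mn.kernel_trivial (by rw [Fintype.card_fin]; omega) hq M hM htame _
      (M.mul_mem (M.mul_mem (M.mul_mem htM hyM) (M.inv_mem htM)) (M.inv_mem hyM)) 0 hrow hii
  have hty : t * y = y * t := by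
    have h1 : t * y * t⁻¹ = y := mul_inv_eq_one.mp hu1
    exact mul_inv_eq_iff_eq_mul.mp h1
  have hytop : ∀ l : Fin k, (y : Matrix (Fin (k + 1)) (Fin (k + 1)) F) 0 l.succ = 0 := by
    intro l
    have h1 := congrArg (fun g : GL (Fin (k + 1)) F =>
      (g : Matrix (Fin (k + 1)) (Fin (k + 1)) F) 0 l.succ) hty
    simp only [Units.val_mul, htv, Matrix.diagonal_mul, Matrix.mul_diagonal] at h1
    have hd0 : d 0 = β⁻¹ * β⁻¹ := rfl
    have hdl : d l.succ = d' l := rfl
    rw [hd0, hdl] at h1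
    have hne : β⁻¹ * β⁻¹ ≠ d' l := by
      intro h
      rcases hd'val l with h2 | h2
      · apply hβ3
        rw [h2] at h
        have : β ^ 3 = (β⁻¹ * β⁻¹) * β * β := by rw [h]; ring
        rw [this]
        field_simp
      · apply hβ2
        rw [h2] at h
        have : β ^ 2 = (β⁻¹ * β⁻¹) * β * β := by rw [h]; ring
        rw [this]
        field_simp
    have h3 : (β⁻¹ * β⁻¹ - d' l) * (y : Matrix (Fin (k + 1)) (Fin (k + 1)) F) 0 l.succ = 0 := by
      rw [sub_mul, h1]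
      ring
    exact (mul_eq_zero.mp h3).resolve_left (sub_ne_zero.mpr hne)
  set c : F := (y : Matrix (Fin (k + 1)) (Fin (k + 1)) F) 0 0 with hc
  have hyblk : (y : Matrix (Fin (k + 1)) (Fin (k + 1)) F) = blk c (Matrix.transvection a b ξ) := by
    ext i j
    refine Fin.cases ?_ (fun i' => ?_) i <;> refine Fin.cases ?_ (fun j' => ?_) j
    · rfl
    · rw [blk_zero_succ, hytop j']
    · rw [blk_succ_zero, hy0 i']
    · rw [blk_succ_succ, ← hsecy]
      rfl
  -- Step 2: the commutator with a second diagonal element is an elementary transvection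
  let δ : Fin k → F := fun j => if j = a then β else 1
  let d2 : Fin (k + 1) → F := Fin.cases β⁻¹ δ
  have hd2 : ∀ l, d2 l ≠ 0 := by
    intro l
    refine Fin.cases ?_ (fun j => ?_) l
    · exact inv_ne_zero hβ0
    · show (if j = a then β else 1) ≠ 0
      split_ifs
      · exact hβ0
      · exact one_ne_zero
  have hd2prod : ∏ l, d2 l = 1 := by
    rw [Fin.prod_univ_succ]
    show β⁻¹ * ∏ j : Fin k, (if j = a then β else 1) = 1
    rw [Finset.prod_ite_eq' Finset.univ a (fun _ => β)]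
    simp only [Finset.mem_univ, if_true]
    exact inv_mul_cancel₀ hβ0
  obtain ⟨t2, ht2v, -, ht2S⟩ := Cfsg.Agent.H10.Mn.diag_gl d2 hd2 hd2prod
  have ht2M : t2 ∈ M := hM ht2S
  have ht2blk : (t2 : Matrix (Fin (k + 1)) (Fin (k + 1)) F) = blk β⁻¹ (Matrix.diagonal δ) := by
    rw [ht2v, diagonal_eq_blk]
    rfl
  refine ⟨y * t2 * y⁻¹ * t2⁻¹,
    M.mul_mem (M.mul_mem (M.mul_mem hyM ht2M) (M.inv_mem hyM)) (M.inv_mem ht2M),
    a.succ, b.succ, fun h => hab (Fin.succ_inj.mp h), ξ * (1 - β),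
    mul_ne_zero hξ (sub_ne_zero.mpr (Ne.symm hβ1)), ?_⟩
  have hgrp : (y * t2 * y⁻¹ * t2⁻¹) * (t2 * y) = y * t2 := by group
  have hX : Matrix.transvection a.succ b.succ (ξ * (1 - β)) *
      ((t2 : Matrix (Fin (k + 1)) (Fin (k + 1)) F) * (y : Matrix (Fin (k + 1)) (Fin (k + 1)) F)) =
      (y : Matrix (Fin (k + 1)) (Fin (k + 1)) F) * (t2 : Matrix (Fin (k + 1)) (Fin (k + 1)) F) := by
    rw [transvection_succ_eq_blk, ht2blk, hyblk, blk_mul, blk_mul, blk_mul, key_tv a b hab ξ β]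
    congr 1
    ring
  have hfin : ((y * t2 * y⁻¹ * t2⁻¹ : GL (Fin (k + 1)) F) :
      Matrix (Fin (k + 1)) (Fin (k + 1)) F) * ((t2 * y : GL (Fin (k + 1)) F) :
      Matrix (Fin (k + 1)) (Fin (k + 1)) F) =
      Matrix.transvection a.succ b.succ (ξ * (1 - β)) * ((t2 * y : GL (Fin (k + 1)) F) :
      Matrix (Fin (k + 1)) (Fin (k + 1)) F) := by
    have e1 : ((y * t2 * y⁻¹ * t2⁻¹ : GL (Fin (k + 1)) F) :
        Matrix (Fin (k + 1)) (Fin (k + 1)) F) * ((t2 * y : GL (Fin (k + 1)) F) :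
        Matrix (Fin (k + 1)) (Fin (k + 1)) F) =
        (y : Matrix (Fin (k + 1)) (Fin (k + 1)) F) *
          (t2 : Matrix (Fin (k + 1)) (Fin (k + 1)) F) := by
      rw [← Units.val_mul, hgrp, Units.val_mul]
    rw [e1, Units.val_mul t2 y, hX]
  exact (Units.mul_left_inj (t2 * y)).mp hfin

/-- verbatim check of the posted statement -/
example [Fintype F] {k : ℕ} (hk : 2 ≤ k) (hq : 5 ≤ Fintype.card F) (M : Subgroup (GL (Fin (k + 1)) F)) (hM : monoS (Fin (k + 1)) F ≤ M) (s : GL (Fin k) F) (hs : IsElemTv s) (hl : Lifts M s) : ∃ g ∈ M, IsElemTv g :=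
  elemTv_of_section hk hq M hM s hs hl

end Cfsg.Agent.H51.Mn
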