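import Cfsg.Agent.H51.Qd
import Cfsg.Agent.H51.Local

set_option autoImplicit false
open Cfsg Matrix

namespace Cfsg.Agent.H51

theorem sl2_eq_one_of_mulVec {R : Type*} [CommRing R] (A : SpecialLinearGroup (Fin 2) R)
    (h1 : (A : Matrix (Fin 2) (Fin 2) R).mulVec ![1, 0] = ![1, 0])
    (h2 : (A : Matrix (Fin 2) (Fin 2) R).mulVec ![0, 1] = ![0, 1]) : A = 1 := by
  apply Subtype.ext
  have a00 := congrFun h1 0
  have a10 := congrFun h1 1
  have a01 := congrFun h2 0
  have a11 := congrFun h2 1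
  simp [Matrix.mulVec, dotProduct] at a00 a10 a01 a11
  ext i j
  fin_cases i <;> fin_cases j <;> simp [a00, a10, a01, a11]

/-- `O_p(SL₂(F)) = 1` for a finite field of characteristic `p`. -/
theorem sl2_normal_pgroup_trivial {F : Type*} [Field F] [Fintype F] {p : ℕ} [Fact p.Prime] [CharP F p]
    (N : Subgroup (SpecialLinearGroup (Fin 2) F)) (hn : N.Normal) (hN : IsPGroup p N) : N = ⊥ := by
  classical
  have hpF : p ∣ Fintype.card F := (CharP.cast_eq_zero_iff F p _).1 (Nat.cast_card_eq_zero F)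
  have hcard : p ∣ Nat.card (Fin 2 → F) := by
    rw [Nat.card_eq_fintype_card, Fintype.card_fun]
    simp only [Fintype.card_fin]
    exact dvd_pow hpF two_ne_zero
  have h0 : (0 : Fin 2 → F) ∈ MulAction.fixedPoints N (Fin 2 → F) := by
    intro n; exact smul_zero _
  obtain ⟨v, hv, hv0⟩ := hN.exists_fixed_point_of_prime_dvd_card_of_fixed_point (Fin 2 → F) hcard h0
  have hPv : ∀ n ∈ N, (n : Matrix (Fin 2) (Fin 2) F).mulVec v = v := by
    intro n hn'
    exact hv ⟨n, hn'⟩
  have hW : ∀ (g : SpecialLinearGroup (Fin 2) F) (w : Fin 2 → F),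
      (∀ n ∈ N, (n : Matrix (Fin 2) (Fin 2) F).mulVec w = w) →
      ∀ n ∈ N, (n : Matrix (Fin 2) (Fin 2) F).mulVec ((g : Matrix (Fin 2) (Fin 2) F).mulVec w) =
        (g : Matrix (Fin 2) (Fin 2) F).mulVec w := by
    intro g w hw n hn'
    have hconj : g⁻¹ * n * g ∈ N := by simpa using hn.conj_mem n hn' g⁻¹
    have h1 := hw _ hconj
    have e : (n : Matrix (Fin 2) (Fin 2) F).mulVec ((g : Matrix (Fin 2) (Fin 2) F).mulVec w) =
        (g : Matrix (Fin 2) (Fin 2) F).mulVec (((g⁻¹ * n * g : SpecialLinearGroup (Fin 2) F) :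
          Matrix (Fin 2) (Fin 2) F).mulVec w) := by
      rw [Matrix.mulVec_mulVec, Matrix.mulVec_mulVec]
      congr 1
      have : g * (g⁻¹ * n * g) = n * g := by group
      exact (congrArg (fun A : SpecialLinearGroup (Fin 2) F => (A : Matrix (Fin 2) (Fin 2) F)) this).symm
    rw [e, h1]
  have hsub : ∀ (w w' : Fin 2 → F), (∀ n ∈ N, (n : Matrix (Fin 2) (Fin 2) F).mulVec w = w) →
      (∀ n ∈ N, (n : Matrix (Fin 2) (Fin 2) F).mulVec w' = w') →
      ∀ n ∈ N, (n : Matrix (Fin 2) (Fin 2) F).mulVec (w - w') = w - w' := by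
    intro w w' hw hw' n hn'
    rw [Matrix.mulVec_sub, hw n hn', hw' n hn']
  have hsmul : ∀ (c : F) (w : Fin 2 → F), (∀ n ∈ N, (n : Matrix (Fin 2) (Fin 2) F).mulVec w = w) →
      ∀ n ∈ N, (n : Matrix (Fin 2) (Fin 2) F).mulVec (c • w) = c • w := by
    intro c w hw n hn'
    rw [Matrix.mulVec_smul, hw n hn']
  let T₁ : SpecialLinearGroup (Fin 2) F := ⟨!![1, 1; 0, 1], by simp [Matrix.det_fin_two_of]⟩
  let T₂ : SpecialLinearGroup (Fin 2) F := ⟨!![1, 0; 1, 1], by simp [Matrix.det_fin_two_of]⟩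
  have key : (∀ n ∈ N, (n : Matrix (Fin 2) (Fin 2) F).mulVec ![1, 0] = ![1, 0]) ∧
      (∀ n ∈ N, (n : Matrix (Fin 2) (Fin 2) F).mulVec ![0, 1] = ![0, 1]) := by
    by_cases hv1 : v 1 = 0
    · have hv0' : v 0 ≠ 0 := by
        intro h00
        apply hv0
        ext i
        fin_cases i <;> simp [h00, hv1]
      have e1 : (v 0)⁻¹ • ((T₂ : Matrix (Fin 2) (Fin 2) F).mulVec v - v) = ![0, 1] := by
        ext i
        fin_cases i <;> simp [T₂, Matrix.mulVec, dotProduct, hv1, hv0', Matrix.vecHead, Matrix.vecTail]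
      have P2 : ∀ n ∈ N, (n : Matrix (Fin 2) (Fin 2) F).mulVec ![0, 1] = ![0, 1] := by
        rw [← e1]
        exact hsmul _ _ (hsub _ _ (hW T₂ v hPv) hPv)
      have e2 : (T₁ : Matrix (Fin 2) (Fin 2) F).mulVec ![0, 1] - ![0, 1] = ![1, 0] := by
        ext i
        fin_cases i <;> simp [T₁, Matrix.mulVec, dotProduct]
      have P1 : ∀ n ∈ N, (n : Matrix (Fin 2) (Fin 2) F).mulVec ![1, 0] = ![1, 0] := by
        rw [← e2]
        exact hsub _ _ (hW T₁ _ P2) P2
      exact ⟨P1, P2⟩
    · have e1 : (v 1)⁻¹ • ((T₁ : Matrix (Fin 2) (Fin 2) F).mulVec v - v) = ![1, 0] := by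
        ext i
        fin_cases i <;> simp [T₁, Matrix.mulVec, dotProduct, hv1, Matrix.vecHead, Matrix.vecTail]
      have P1 : ∀ n ∈ N, (n : Matrix (Fin 2) (Fin 2) F).mulVec ![1, 0] = ![1, 0] := by
        rw [← e1]
        exact hsmul _ _ (hsub _ _ (hW T₁ v hPv) hPv)
      have e2 : (T₂ : Matrix (Fin 2) (Fin 2) F).mulVec ![1, 0] - ![1, 0] = ![0, 1] := by
        ext i
        fin_cases i <;> simp [T₂, Matrix.mulVec, dotProduct]
      have P2 : ∀ n ∈ N, (n : Matrix (Fin 2) (Fin 2) F).mulVec ![0, 1] = ![0, 1] := by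
        rw [← e2]
        exact hsub _ _ (hW T₂ _ P1) P1
      exact ⟨P1, P2⟩
  rw [eq_bot_iff]
  intro n hn'
  rw [Subgroup.mem_bot]
  exact sl2_eq_one_of_mulVec n (key.1 n hn') (key.2 n hn')

section field
variable {F : Type*} [Field F] [Fintype F] {p : ℕ} [Fact p.Prime] [CharP F p]

theorem ker_pow_transl {R : Type*} [CommRing R] (M : affSub R) (hM : M ∈ (blockHom R).ker) (n : ℕ) :
    M ^ n ∈ (blockHom R).ker ∧ transl (M ^ n) = n • transl M := by
  induction n with
  | zero => exact ⟨Subgroup.one_mem _, by rw [pow_zero, transl_one, zero_smul]⟩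
  | succ n ih =>
    refine ⟨Subgroup.pow_mem _ hM _, ?_⟩
    rw [pow_succ, transl_mul_of_ker ih.1, ih.2, succ_nsmul, add_comm]

theorem ker_isPGroup : IsPGroup p (blockHom F).ker := by
  intro g
  refine ⟨1, ?_⟩
  apply Subtype.ext
  rw [pow_one, Subgroup.coe_pow, Subgroup.coe_one]
  obtain ⟨h1, h2⟩ := ker_pow_transl (g : affSub F) g.2 p
  apply eq_one_of_ker_of_transl h1
  rw [h2]
  ext i
  simp [CharP.cast_eq_zero F p]

theorem pCore_aff_eq : Cfsg.pCore p ↥(affSub F) = (blockHom F).ker := by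
  apply le_antisymm
  · rw [← Subgroup.map_eq_bot_iff]
    apply sl2_normal_pgroup_trivial (p := p)
    · have := pCore_normal p (G := ↥(affSub F))
      exact Subgroup.Normal.map inferInstance _ blockHom_surjective
    · exact (pCore_isPGroup p).map _
  · exact le_pCore p (MonoidHom.normal_ker _) ker_isPGroup

theorem transl_conj {R : Type*} [CommRing R] (l v : affSub R) (hl : l ∈ affK R) :
    transl (l * v * l⁻¹) = (blockA l : Matrix (Fin 2) (Fin 2) R).mulVec (transl v) := by
  have hl' : transl l = 0 := hl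
  have hli : transl l⁻¹ = 0 := (affK R).inv_mem hl
  rw [transl_mul, hli, transl_mul, hl']
  simp

theorem qdOver_structure (Q : Subgroup (SpecialLinearGroup (Fin 3) F)) (hQ : Q = affSub F) :
    (∀ M : ↥Q, M ∈ Cfsg.pCore p ↥Q ↔
      ((M : SpecialLinearGroup (Fin 3) F) : Matrix (Fin 3) (Fin 3) F) 0 0 = 1 ∧
      ((M : SpecialLinearGroup (Fin 3) F) : Matrix (Fin 3) (Fin 3) F) 0 1 = 0 ∧
      ((M : SpecialLinearGroup (Fin 3) F) : Matrix (Fin 3) (Fin 3) F) 1 0 = 0 ∧
      ((M : SpecialLinearGroup (Fin 3) F) : Matrix (Fin 3) (Fin 3) F) 1 1 = 1) ∧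
    ∃ K : Subgroup ↥Q,
      (∀ M : ↥Q, M ∈ K ↔ ((M : SpecialLinearGroup (Fin 3) F) : Matrix (Fin 3) (Fin 3) F) 0 2 = 0 ∧
        ((M : SpecialLinearGroup (Fin 3) F) : Matrix (Fin 3) (Fin 3) F) 1 2 = 0) ∧
      K ⊓ Cfsg.pCore p ↥Q = ⊥ ∧ K ⊔ Cfsg.pCore p ↥Q = ⊤ ∧
      Nonempty (↥K ≃* SpecialLinearGroup (Fin 2) F) ∧
      Cfsg.IsNaturalSL2Module F (Cfsg.pCore p ↥Q) K := by
  subst hQ
  rw [pCore_aff_eq]
  refine ⟨fun M => mem_ker_blockHom M, affK F, fun M => mem_affK M, ?_, ?_, ?_, ?_⟩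
  · rw [eq_bot_iff]
    intro M hM
    rw [Subgroup.mem_bot]
    exact eq_one_of_ker_of_transl hM.2 hM.1
  · rw [eq_top_iff]
    intro M _
    rw [aff_decomp M, sup_comm]
    exact Subgroup.mul_mem_sup (mkAff_one_mem_ker _) (mkAff_zero_mem_affK _)
  · refine ⟨MulEquiv.ofBijective ((blockHom F).comp (affK F).subtype) ⟨?_, ?_⟩⟩
    · intro k k' h
      apply Subtype.ext
      apply aff_ext h
      exact (show transl (k : affSub F) = 0 from k.2).trans (show transl (k' : affSub F) = 0 from k'.2).symm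
    · intro A
      exact ⟨⟨mkAff A 0, mkAff_zero_mem_affK A⟩, blockA_mkAff A 0⟩
  · refine ⟨?_, (blockHom F).comp (affK F).subtype, ?_, ?_, ?_, ?_⟩
    · rw [Subgroup.normalizer_eq_top_iff.2 (MonoidHom.normal_ker _)]
      exact le_top
    · exact
        { toFun := fun v => transl ((Additive.toMul v : ↥(blockHom F).ker) : affSub F)
          invFun := fun t => Additive.ofMul ⟨mkAff 1 t, mkAff_one_mem_ker t⟩
          left_inv := by
            intro v
            apply congrArg Additive.ofMul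
            apply Subtype.ext
            apply aff_ext
            · rw [blockA_mkAff]
              exact ((Additive.toMul v : ↥(blockHom F).ker).2 : blockA _ = 1).symm
            · rw [transl_mkAff]; rfl
          right_inv := by
            intro t
            exact transl_mkAff _ _
          map_add' := by
            intro v w
            show transl (((Additive.toMul v : ↥(blockHom F).ker) : affSub F) *
              ((Additive.toMul w : ↥(blockHom F).ker) : affSub F)) = _
            rw [transl_mul_of_ker (Additive.toMul v : ↥(blockHom F).ker).2, add_comm] }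
    · intro A
      exact ⟨⟨mkAff A 0, mkAff_zero_mem_affK A⟩, blockA_mkAff A 0⟩
    · ext l
      rw [MonoidHom.mem_ker, Subgroup.mem_subgroupOf, Subgroup.mem_centralizer_iff]
      constructor
      · intro h
        have hl1 : (l : affSub F) = 1 := eq_one_of_ker_of_transl h l.2
        intro v _
        rw [hl1]; simp
      · intro h
        show blockA (l : affSub F) = 1
        have hl0 : transl (l : affSub F) = 0 := l.2
        have hfix : ∀ t : Fin 2 → F, (blockA (l : affSub F) : Matrix (Fin 2) (Fin 2) F).mulVec t = t := by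
          intro t
          have := h (mkAff 1 t) (mkAff_one_mem_ker t)
          have h3 := congrArg transl this
          rw [transl_mul, transl_mul, blockA_mkAff, transl_mkAff, hl0] at h3
          simpa using h3.symm
        exact sl2_eq_one_of_mulVec _ (hfix _) (hfix _)
    · intro l v
      refine ⟨⟨(l : affSub F) * v * (l : affSub F)⁻¹,
        (MonoidHom.normal_ker (blockHom F)).conj_mem _ v.2 _⟩, rfl, ?_⟩
      exact transl_conj (l : affSub F) (v : affSub F) l.2

end field

end Cfsg.Agent.H51
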