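import Mathlib
import Cfsg.Agent.H45.R2Abs

/-!
# R2 piece I (helper51, for helper45's S1152 + S1157 project)

`C(a) ≃* Z₂ × PSL₂(K)` from a homomorphism `ψ : SL₂(K) → G` with kernel `{±1}` whose image
commutes with the involution `a`, does not contain `a`, and with `C(a) = ψ(SL₂) ∪ a ψ(SL₂)`.
-/

set_option autoImplicit false

universe u v

namespace Cfsg.Agent.H51.R2

open Matrix

/-- The centre of `SL₂(K)` is `{±1}`. -/
theorem center_sl2 {K : Type u} [Field K] (s : Matrix.SpecialLinearGroup (Fin 2) K) :
    s ∈ Subgroup.center (Matrix.SpecialLinearGroup (Fin 2) K) ↔ s = 1 ∨ s = -1 := by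
  rw [Matrix.SpecialLinearGroup.mem_center_iff]
  constructor
  · rintro ⟨r, hr, hs⟩
    have hr2 : r * r = 1 := by
      have : r ^ 2 = 1 := by simpa using hr
      rw [← this]; ring
    rcases mul_self_eq_one_iff.1 hr2 with rfl | rfl
    · left
      apply Subtype.ext
      rw [← hs]
      simp
    · right
      apply Subtype.ext
      rw [← hs]
      ext i j
      simp only [Matrix.scalar_apply, Matrix.diagonal_apply, Matrix.SpecialLinearGroup.coe_neg,
        Matrix.SpecialLinearGroup.coe_one, Matrix.neg_apply, Matrix.one_apply]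
      split_ifs <;> simp
  · rintro (rfl | rfl)
    · exact ⟨1, by simp, by simp⟩
    · refine ⟨-1, by simp, ?_⟩
      ext i j
      simp only [Matrix.scalar_apply, Matrix.diagonal_apply, Matrix.SpecialLinearGroup.coe_neg,
        Matrix.SpecialLinearGroup.coe_one, Matrix.neg_apply, Matrix.one_apply]
      split_ifs <;> simp

/-- The homomorphism `Z₂ → G` of an element with `a * a = 1`. -/
noncomputable def alpha {G : Type v} [Group G] (a : G) (haa : a * a = 1) :
    Multiplicative (ZMod 2) →* G where
  toFun i := if Multiplicative.toAdd i = 0 then 1 else a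
  map_one' := by simp
  map_mul' := by
    intro x y
    have key : ∀ x y : ZMod 2, (if x + y = 0 then (1 : G) else a) =
        (if x = 0 then 1 else a) * (if y = 0 then 1 else a) := by
      intro x y
      have hx : x = 0 ∨ x = 1 := by revert x; decide
      have hy : y = 0 ∨ y = 1 := by revert y; decide
      have h10 : (1 : ZMod 2) ≠ 0 := by decide
      have h11 : (1 : ZMod 2) + 1 = 0 := by decide
      rcases hx with rfl | rfl <;> rcases hy with rfl | rfl <;> simp [haa, h10, h11]
    exact key (Multiplicative.toAdd x) (Multiplicative.toAdd y)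

theorem alpha_one {G : Type v} [Group G] (a : G) (haa : a * a = 1) :
    alpha a haa (Multiplicative.ofAdd (1 : ZMod 2)) = a := by
  simp [alpha]

theorem alpha_cases {G : Type v} [Group G] (a : G) (haa : a * a = 1)
    (i : Multiplicative (ZMod 2)) :
    (i = 1 ∧ alpha a haa i = 1) ∨ (i = Multiplicative.ofAdd (1 : ZMod 2) ∧ alpha a haa i = a) := by
  have key : ∀ x : ZMod 2, x = 0 ∨ x = 1 := by decide
  rcases key (Multiplicative.toAdd i) with h | h
  · left
    have hi : i = 1 := by
      apply Multiplicative.toAdd.injective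
      rw [h]; rfl
    refine ⟨hi, ?_⟩
    rw [hi, map_one]
  · right
    have hi : i = Multiplicative.ofAdd (1 : ZMod 2) := by
      apply Multiplicative.toAdd.injective
      rw [h]; rfl
    refine ⟨hi, ?_⟩
    rw [hi, alpha_one]

/-- **R2 piece I**. -/
theorem iso : Cfsg.Agent.H45.R2.IsoStmt.{u, v} := by
  intro K _ G _ a ψ h2 ha1 haa hcomm hker hneg hna hsurj
  -- the induced map on `PSL₂(K)`
  have hcen : Subgroup.center (Matrix.SpecialLinearGroup (Fin 2) K) ≤ ψ.ker := by
    intro s hs
    rw [MonoidHom.mem_ker]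
    rcases (center_sl2 s).1 hs with rfl | rfl
    · exact map_one ψ
    · exact hneg
  let ψb : Matrix.ProjectiveSpecialLinearGroup (Fin 2) K →* G :=
    QuotientGroup.lift (Subgroup.center (Matrix.SpecialLinearGroup (Fin 2) K)) ψ hcen
  have hψb : ∀ s : Matrix.SpecialLinearGroup (Fin 2) K,
      ψb (QuotientGroup.mk s) = ψ s := fun s => rfl
  have hcomm' : ∀ (i : Multiplicative (ZMod 2))
      (t : Matrix.ProjectiveSpecialLinearGroup (Fin 2) K), Commute (alpha a haa i) (ψb t) := by
    intro i t
    obtain ⟨s, rfl⟩ := QuotientGroup.mk_surjective t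
    rw [hψb]
    rcases alpha_cases a haa i with ⟨-, h⟩ | ⟨-, h⟩
    · rw [h]; exact Commute.one_left _
    · rw [h]; exact hcomm s
  let f0 : Multiplicative (ZMod 2) × Matrix.ProjectiveSpecialLinearGroup (Fin 2) K →* G :=
    MonoidHom.noncommCoprod (alpha a haa) ψb hcomm'
  have hf0 : ∀ i t, f0 (i, t) = alpha a haa i * ψb t := fun i t => rfl
  have hmem : ∀ x, f0 x ∈ Subgroup.centralizer ({a} : Set G) := by
    rintro ⟨i, t⟩
    rw [Subgroup.mem_centralizer_iff]
    intro y hy
    rw [Set.mem_singleton_iff] at hy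
    rw [hy, hf0]
    obtain ⟨s, rfl⟩ := QuotientGroup.mk_surjective t
    rw [hψb]
    rcases alpha_cases a haa i with ⟨-, h⟩ | ⟨-, h⟩
    · rw [h, one_mul, hcomm s]
    · rw [h, hcomm s, ← mul_assoc, hcomm s]
  let f : Multiplicative (ZMod 2) × Matrix.ProjectiveSpecialLinearGroup (Fin 2) K →*
      ↥(Subgroup.centralizer ({a} : Set G)) := f0.codRestrict _ hmem
  have hf : ∀ x, ((f x : ↥(Subgroup.centralizer ({a} : Set G))) : G) = f0 x := fun x => rfl
  have hinj : Function.Injective f := by
    rw [injective_iff_map_eq_one]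
    rintro ⟨i, t⟩ hx
    have hx' : f0 (i, t) = 1 := by rw [← hf, hx]; rfl
    rw [hf0] at hx'
    obtain ⟨s, rfl⟩ := QuotientGroup.mk_surjective t
    rw [hψb] at hx'
    rcases alpha_cases a haa i with ⟨hi, h⟩ | ⟨hi, h⟩
    · rw [h, one_mul] at hx'
      have hs : s ∈ Subgroup.center (Matrix.SpecialLinearGroup (Fin 2) K) :=
        (center_sl2 s).2 (hker s hx')
      rw [hi]
      have : (QuotientGroup.mk s : Matrix.ProjectiveSpecialLinearGroup (Fin 2) K) = 1 :=
        (QuotientGroup.eq_one_iff s).2 hs
      rw [this]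
      rfl
    · exfalso
      rw [h] at hx'
      apply hna s
      calc ψ s = (a * a) * ψ s := by rw [haa, one_mul]
        _ = a * (a * ψ s) := by rw [mul_assoc]
        _ = a := by rw [hx', mul_one]
  have hsur : Function.Surjective f := by
    rintro ⟨g, hg⟩
    have hga : g * a = a * g := by
      rw [Subgroup.mem_centralizer_iff] at hg
      exact (hg a rfl).symm
    obtain ⟨s, hs | hs⟩ := hsurj g hga
    · refine ⟨(1, QuotientGroup.mk s), ?_⟩
      apply Subtype.ext
      show f0 (1, QuotientGroup.mk s) = g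
      rw [hf0, hψb, map_one, one_mul, hs]
    · refine ⟨(Multiplicative.ofAdd (1 : ZMod 2), QuotientGroup.mk s), ?_⟩
      apply Subtype.ext
      show f0 (Multiplicative.ofAdd (1 : ZMod 2), QuotientGroup.mk s) = g
      rw [hf0, hψb, alpha_one, hs]
  exact ⟨(MulEquiv.ofBijective f ⟨hinj, hsur⟩).symm⟩

example : Cfsg.Agent.H45.R2.IsoStmt.{u, v} := iso

end Cfsg.Agent.H51.R2
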