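import Mathlib
import Cfsg.Agent.H97.SuRDefs

/-!
# S2282-CONV (helper51, for helper97): a unitary `eU c S` / `eL c S` satisfies the condition
`S + S* + c c* = 0`
-/

set_option autoImplicit false

namespace Cfsg.Agent.H51.SuR

open Matrix Cfsg.Agent.H45.U Cfsg.Agent.H97.SuR

variable {F : Type*} [Field F]

theorem mulVec_single_one' {ι : Type*} [Fintype ι] {k : ℕ} (M : Matrix ι (Fin k) F) (a : Fin k)
    (i : ι) : (M *ᵥ (Pi.single a 1 : Fin k → F)) i = M i a := by
  simp [Matrix.mulVec, dotProduct, Pi.single_apply]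

theorem sum_single_mul' {k : ℕ} (f : Fin k → F) (a : Fin k) :
    ∑ i, (Pi.single a 1 : Fin k → F) i * f i = f a := by
  simp [Pi.single_apply]

theorem sum_mul_single' (σ : F →+* F) {k : ℕ} (f : Fin k → F) (b : Fin k) :
    ∑ i, f i * σ ((Pi.single b 1 : Fin k → F) i) = f b := by
  simp [Pi.single_apply, apply_ite σ]

theorem cond_of_eU (σ : F →+* F) (hσ : ∀ a, σ (σ a) = a) {k : ℕ}
    (x : ↥(UH σ (Fin k) (Fin 1))) (c : Matrix (Fin k) (Fin 1) F) (S : Matrix (Fin k) (Fin k) F)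
    (h : x.1.1 = eU σ c S) : S + ct σ S + c * ct σ c = 0 := by
  ext b a
  have hp := UH_pres x (tri (0 : Fin k → F) (Pi.single a 1) (0 : Fin 1 → F))
    (tri (0 : Fin k → F) (Pi.single b 1) (0 : Fin 1 → F))
  rw [h, eU_mulVec, eU_mulVec, hH_tri, hH_tri] at hp
  simp only [Pi.add_apply, Pi.zero_apply, Pi.sub_apply, Matrix.mulVec_zero, mulVec_single_one',
    zero_add, add_zero, zero_sub, map_zero, mul_zero, zero_mul, Finset.sum_const_zero, neg_mul,
    map_neg, mul_neg, neg_neg, ct_apply, hσ, sum_single_mul', sum_mul_single'] at hp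
  rw [Matrix.add_apply, Matrix.add_apply, Matrix.mul_apply, ct_apply, Matrix.zero_apply]
  rw [← hp]
  congr 1
  exact Finset.sum_congr rfl fun l _ => by rw [ct_apply, mul_comm]

theorem cond_of_eL (σ : F →+* F) (hσ : ∀ a, σ (σ a) = a) {k : ℕ}
    (x : ↥(UH σ (Fin k) (Fin 1))) (c : Matrix (Fin k) (Fin 1) F) (S : Matrix (Fin k) (Fin k) F)
    (h : x.1.1 = eL σ c S) : S + ct σ S + c * ct σ c = 0 := by
  ext b a
  have hp := UH_pres x (tri (Pi.single a 1) (0 : Fin k → F) (0 : Fin 1 → F))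
    (tri (Pi.single b 1) (0 : Fin k → F) (0 : Fin 1 → F))
  rw [h, eL_mulVec, eL_mulVec, hH_tri, hH_tri] at hp
  simp only [Pi.add_apply, Pi.zero_apply, Pi.sub_apply, Matrix.mulVec_zero, mulVec_single_one',
    zero_add, add_zero, zero_sub, map_zero, mul_zero, zero_mul, Finset.sum_const_zero, neg_mul,
    map_neg, mul_neg, neg_neg, ct_apply, hσ, sum_single_mul', sum_mul_single'] at hp
  rw [Matrix.add_apply, Matrix.add_apply, Matrix.mul_apply, ct_apply, Matrix.zero_apply]
  rw [← hp, add_comm (S b a)]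
  congr 1
  exact Finset.sum_congr rfl fun l _ => by rw [ct_apply, mul_comm]

end Cfsg.Agent.H51.SuR
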