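import Mathlib
import Cfsg.Agent.H97.SuRDefs
import Cfsg.Agent.H28.SpRWeyl

/-!
# S2282-EXD (helper51, for helper97): existence of the Levi and Weyl elements in `UH`
-/

set_option autoImplicit false

namespace Cfsg.Agent.H51.SuR

open Matrix Cfsg.Agent.H45.U Cfsg.Agent.H97.SuR

variable {F : Type*} [Field F]

theorem exists_dU (σ : F →+* F) (hσ : ∀ a, σ (σ a) = a) {k : ℕ}
    (g : Matrix.SpecialLinearGroup (Fin k) F) :
    ∃ x : ↥(UH σ (Fin k) (Fin 1)), x.1.1 = dF σ g 0 0 := by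
  have hg' : ((g⁻¹ : Matrix.SpecialLinearGroup (Fin k) F) : Matrix (Fin k) (Fin k) F) *
      (g : Matrix (Fin k) (Fin k) F) = 1 := by
    rw [← Matrix.SpecialLinearGroup.coe_mul, inv_mul_cancel, Matrix.SpecialLinearGroup.coe_one]
  have hdet : (dU σ (g : Matrix (Fin k) (Fin k) F)
      ((g⁻¹ : Matrix.SpecialLinearGroup (Fin k) F) : Matrix (Fin k) (Fin k) F)
      (1 : Matrix (Fin 1) (Fin 1) F)).det = 1 := by
    rw [det_dU, Matrix.SpecialLinearGroup.det_coe, Matrix.SpecialLinearGroup.det_coe, map_one,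
      Matrix.det_one, mul_one, mul_one]
  have hpres := dU_pres σ hσ (g : Matrix (Fin k) (Fin k) F)
      ((g⁻¹ : Matrix.SpecialLinearGroup (Fin k) F) : Matrix (Fin k) (Fin k) F)
      (1 : Matrix (Fin 1) (Fin 1) F) hg' (by rw [ct_one, Matrix.one_mul])
  refine ⟨mkUH σ _ hdet hpres, ?_⟩
  rw [mkUH_coe]
  unfold dF
  rw [eL_zero, mul_one]

theorem exists_dM (σ : F →+* F) (hσ : ∀ a, σ (σ a) = a) {k : ℕ}
    (M M' : Matrix (Fin k) (Fin k) F) (h1 : M * M' = 1) (h2 : M' * M = 1) :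
    ∃ (t t' : Matrix (Fin 1) (Fin 1) F) (x : ↥(UH σ (Fin k) (Fin 1))),
      t' * t = 1 ∧ ct σ t' = t ∧ x.1.1 = dU σ M M' t := by
  have hdd : M.det * M'.det = 1 := by rw [← Matrix.det_mul, h1, Matrix.det_one]
  obtain ⟨a, ha⟩ : ∃ a : F, a = M.det * σ M'.det := ⟨_, rfl⟩
  have hσa : σ a * a = 1 := by
    rw [ha, map_mul, hσ]
    calc σ M.det * M'.det * (M.det * σ M'.det)
        = σ (M.det * M'.det) * (M.det * M'.det) := by rw [map_mul]; ring
      _ = 1 := by rw [hdd, map_one, mul_one]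
  have ha0 : a ≠ 0 := by
    intro h
    rw [h, mul_zero] at hσa
    exact zero_ne_one hσa
  have hσa' : σ a = a⁻¹ := eq_inv_of_mul_eq_one_left hσa
  have htt : (a • (1 : Matrix (Fin 1) (Fin 1) F)) * (a⁻¹ • (1 : Matrix (Fin 1) (Fin 1) F)) = 1 := by
    rw [Matrix.smul_mul, Matrix.one_mul, smul_smul, mul_inv_cancel₀ ha0, one_smul]
  have hct : ct σ (a • (1 : Matrix (Fin 1) (Fin 1) F)) =
      a⁻¹ • (1 : Matrix (Fin 1) (Fin 1) F) := by
    rw [ct_smul, ct_one, hσa']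
  have hdet : (dU σ M M' (a⁻¹ • (1 : Matrix (Fin 1) (Fin 1) F))).det = 1 := by
    rw [det_dU, Matrix.det_smul, Matrix.det_one, Fintype.card_fin, pow_one, mul_one, ← ha]
    exact mul_inv_cancel₀ ha0
  have hpres := dU_pres σ hσ M M' (a⁻¹ • (1 : Matrix (Fin 1) (Fin 1) F)) h2 (by
    rw [ct_smul, ct_one, Matrix.smul_mul, Matrix.one_mul, smul_smul, map_inv₀, hσa', inv_inv,
      mul_inv_cancel₀ ha0, one_smul])
  exact ⟨_, _, mkUH σ _ hdet hpres, htt, hct, mkUH_coe σ _ hdet hpres⟩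

theorem exists_w (σ : F →+* F) (hσ : ∀ a, σ (σ a) = a) (k : ℕ) :
    ∃ (ν ν' : Matrix (Fin 1) (Fin 1) F) (x : ↥(UH σ (Fin k) (Fin 1))),
      ν' * ν = 1 ∧ ct σ ν' = ν ∧
      x.1.1 = nU σ (Cfsg.Agent.H97.SpR.revP F k) (Cfsg.Agent.H97.SpR.revP F k) ν := by
  have hrr : Cfsg.Agent.H97.SpR.revP F k * Cfsg.Agent.H97.SpR.revP F k = 1 :=
    Cfsg.Agent.H28.SpR.revP_mul_revP k
  obtain ⟨r, hr⟩ : ∃ r : F, r = (Cfsg.Agent.H97.SpR.revP F k).det := ⟨_, rfl⟩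
  have hr2 : r * r = 1 := by rw [hr, ← Matrix.det_mul, hrr, Matrix.det_one]
  have hσr : σ r = r := by
    rcases mul_self_eq_one_iff.1 hr2 with h | h
    · rw [h, map_one]
    · rw [h, map_neg, map_one]
  obtain ⟨e, he⟩ : ∃ e : F, e = (-1) ^ k := ⟨_, rfl⟩
  have he2 : e * e = 1 := by
    rw [he, ← mul_pow, neg_mul_neg, one_mul, one_pow]
  have hσe : σ e = e := by rw [he, map_pow, map_neg, map_one]
  have hνν : (e • (1 : Matrix (Fin 1) (Fin 1) F)) * (e • (1 : Matrix (Fin 1) (Fin 1) F)) = 1 := by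
    rw [Matrix.smul_mul, Matrix.one_mul, smul_smul, he2, one_smul]
  have hct : ct σ (e • (1 : Matrix (Fin 1) (Fin 1) F)) = e • (1 : Matrix (Fin 1) (Fin 1) F) := by
    rw [ct_smul, ct_one, hσe]
  have hdet : (nU σ (Cfsg.Agent.H97.SpR.revP F k) (Cfsg.Agent.H97.SpR.revP F k)
      (e • (1 : Matrix (Fin 1) (Fin 1) F))).det = 1 := by
    rw [det_nU, Matrix.det_smul, Matrix.det_one, Fintype.card_fin, Fintype.card_fin, pow_one,
      mul_one, ← hr, hσr, ← he, hr2, one_mul, he2]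
  have hpres := nU_pres σ hσ (Cfsg.Agent.H97.SpR.revP F k) (Cfsg.Agent.H97.SpR.revP F k)
    (e • (1 : Matrix (Fin 1) (Fin 1) F)) hrr (by rw [hct]; exact hνν)
  exact ⟨_, _, mkUH σ _ hdet hpres, hνν, hct, mkUH_coe σ _ hdet hpres⟩

end Cfsg.Agent.H51.SuR
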