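import Mathlib
import Cfsg.Agent.H97.SuRDefs
import Cfsg.Agent.H51.SuRExd
import Cfsg.Agent.H51.SuRConv

/-!
# S2282-PURE (helper51, for helper97): pure Levi elements and lower unipotents in `H`
-/

set_option autoImplicit false

namespace Cfsg.Agent.H51.SuR

open Matrix Cfsg.Agent.H45.U Cfsg.Agent.H97.SuR

variable {F : Type*} [Field F]

theorem pure_levi (σ : F →+* F) (hσ : ∀ a, σ (σ a) = a) {k : ℕ}
    (H : Subgroup ↥(UH σ (Fin k) (Fin 1))) (T : Set (Matrix.SpecialLinearGroup (Fin k) F))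
    (hQ : Qin σ H) (hd : LiftsU σ H T) :
    ∀ g ∈ T, ∃ x ∈ H, x.1.1 = dF σ g 0 0 := by
  intro g hg
  obtain ⟨c, S, y, hy, hy1⟩ := hd g hg
  obtain ⟨xd, hxd⟩ := exists_dU σ hσ g
  have hxd' : xd.1.1 = dU σ (g : Matrix (Fin k) (Fin k) F)
      ((g⁻¹ : Matrix.SpecialLinearGroup (Fin k) F) : Matrix (Fin k) (Fin k) F)
      (1 : Matrix (Fin 1) (Fin 1) F) := by
    rw [hxd]
    unfold dF
    rw [eL_zero, mul_one]
  have he : (xd⁻¹ * y).1.1 = eU σ c S := by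
    have h1 : (xd * (xd⁻¹ * y)).1.1 = xd.1.1 * eU σ c S := by
      rw [mul_inv_cancel_left, hy1, hxd']
      rfl
    rw [UH_mul_coe] at h1
    have h2 : (xd⁻¹).1.1 * (xd.1.1 * (xd⁻¹ * y).1.1) = (xd⁻¹).1.1 * (xd.1.1 * eU σ c S) := by
      rw [h1]
    rw [← Matrix.mul_assoc, ← Matrix.mul_assoc, ← UH_mul_coe, inv_mul_cancel, UH_one_coe,
      Matrix.one_mul, Matrix.one_mul] at h2
    exact h2
  have hcond := cond_of_eU σ hσ (xd⁻¹ * y) c S he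
  have hmem : xd⁻¹ * y ∈ H := hQ (xd⁻¹ * y) c S hcond he
  refine ⟨xd, ?_, hxd⟩
  have h3 : xd = y * (xd⁻¹ * y)⁻¹ := by group
  rw [h3]
  exact H.mul_mem hy (H.inv_mem hmem)

theorem lower_ne (σ : F →+* F) {k : ℕ} (H : Subgroup ↥(UH σ (Fin k) (Fin 1)))
    (g : Matrix.SpecialLinearGroup (Fin k) F) (c : Matrix (Fin k) (Fin 1) F)
    (S : Matrix (Fin k) (Fin k) F) (x y : ↥(UH σ (Fin k) (Fin 1))) (hx : x ∈ H) (hy : y ∈ H)
    (hx1 : x.1.1 = dF σ g 0 0) (hy1 : y.1.1 = dF σ g⁻¹ c S) :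
    ∃ z ∈ H, z.1.1 = eL σ c S := by
  refine ⟨x * y, H.mul_mem hx hy, ?_⟩
  have hg1 : (g : Matrix (Fin k) (Fin k) F) *
      ((g⁻¹ : Matrix.SpecialLinearGroup (Fin k) F) : Matrix (Fin k) (Fin k) F) = 1 := by
    rw [← Matrix.SpecialLinearGroup.coe_mul, mul_inv_cancel, Matrix.SpecialLinearGroup.coe_one]
  have hg2 : (((g⁻¹)⁻¹ : Matrix.SpecialLinearGroup (Fin k) F) : Matrix (Fin k) (Fin k) F) *
      ((g⁻¹ : Matrix.SpecialLinearGroup (Fin k) F) : Matrix (Fin k) (Fin k) F) = 1 := by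
    rw [← Matrix.SpecialLinearGroup.coe_mul, inv_mul_cancel, Matrix.SpecialLinearGroup.coe_one]
  rw [UH_mul_coe, hx1, hy1]
  unfold dF
  rw [eL_zero, mul_one, ← Matrix.mul_assoc, dU_mul_dU, hg1, hg2, Matrix.mul_one, dU_one,
    Matrix.one_mul]

end Cfsg.Agent.H51.SuR
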