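import Mathlib
import Cfsg.Agent.H74.W2PDefs

/-!
# S0720-POLY2 (helper51, for helper74)

From the `H`-invariant vector `F ∈ W` with coordinates in `ℚ(ζ)` and the reduction modulo `1 - ζ`
we get a nonzero `H`-invariant function `Fb : Ω → ZMod p` with `Fb a₀ = 0` killed by the
`(|Λ|+1)`-st finite difference along `x`.
-/

set_option autoImplicit false

namespace Cfsg.Agent.H51.W2P

open Cfsg.Agent.H74.W2P Equiv MulAction

variable {Ω : Type*} [Fintype Ω] [DecidableEq Ω]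

/-- composition with `x` as a linear map on functions -/
noncomputable def tauL (x : Perm Ω) : (Ω → ℂ) →ₗ[ℂ] (Ω → ℂ) where
  toFun f := fun ω => f (x ω)
  map_add' _ _ := rfl
  map_smul' _ _ := rfl

theorem tauL_apply (x : Perm Ω) (f : Ω → ℂ) (ω : Ω) : tauL x f ω = f (x ω) := rfl

theorem tauL_pow_apply (x : Perm Ω) (i : ℕ) (f : Ω → ℂ) (ω : Ω) :
    ((tauL x) ^ i) f ω = f ((x ^ i) ω) := by
  induction i generalizing f ω with
  | zero => simp
  | succ n ih =>
    rw [pow_succ, Module.End.mul_apply, ih, tauL_apply, pow_succ', Perm.mul_apply]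

theorem aeval_tauL_apply (x : Perm Ω) (P : Polynomial ℂ) (n : ℕ) (hn : P.natDegree < n)
    (f : Ω → ℂ) (ω : Ω) :
    (Polynomial.aeval (tauL x) P) f ω = ∑ i ∈ Finset.range n, P.coeff i * f ((x ^ i) ω) := by
  rw [Polynomial.aeval_eq_sum_range' hn]
  simp [LinearMap.sum_apply, tauL_pow_apply]

/-- the polynomial `(X - 1) ∏_{h ∈ Λ} (X - ζ^h)` over `ℂ` -/
noncomputable def polyC (p : ℕ) (Λ : Finset (ZMod p)) : Polynomial ℂ :=
  (Polynomial.X - Polynomial.C 1) * ∏ h ∈ Λ, (Polynomial.X - Polynomial.C (zeta p ^ h.val))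

/-- the polynomial `(X - 1) ∏_{h ∈ Λ} (X - Y^h)` over `ℤ[Y]` -/
noncomputable def polyZ (p : ℕ) (Λ : Finset (ZMod p)) : Polynomial (Polynomial ℤ) :=
  (Polynomial.X - Polynomial.C 1) *
    ∏ h ∈ Λ, (Polynomial.X - Polynomial.C ((Polynomial.X : Polynomial ℤ) ^ h.val))

theorem polyZ_map_aeval (p : ℕ) (Λ : Finset (ZMod p)) :
    (polyZ p Λ).map ((Polynomial.aeval (zeta p) : Polynomial ℤ →ₐ[ℤ] ℂ) : Polynomial ℤ →+* ℂ) =
      polyC p Λ := by
  simp [polyZ, polyC, Polynomial.map_prod]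

theorem polyZ_map_eval (p : ℕ) (Λ : Finset (ZMod p)) :
    (polyZ p Λ).map (Polynomial.evalRingHom (1 : ℤ)) =
      (Polynomial.X + Polynomial.C (-1)) ^ (Λ.card + 1) := by
  simp [polyZ, Polynomial.map_prod, pow_succ', sub_eq_add_neg]

/-- relations supported on finitely many points: the complex side -/
theorem sum_rel_aeval {κ : Type*} (s : Finset κ) (b : κ → Ω) (Q : κ → Polynomial ℤ) (z : ℂ)
    (v : Ω → ℂ) :
    ∑ j, Polynomial.aeval z (∑ i ∈ s, if b i = j then Q i else 0) * v j =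
      ∑ i ∈ s, Polynomial.aeval z (Q i) * v (b i) := by
  simp only [map_sum, Finset.sum_mul]
  rw [Finset.sum_comm]
  refine Finset.sum_congr rfl (fun i _ => ?_)
  rw [Finset.sum_eq_single (b i)]
  · simp
  · intro j _ hj
    rw [if_neg (fun h => hj h.symm)]
    simp
  · intro h
    exact absurd (Finset.mem_univ _) h

/-- relations supported on finitely many points: the residue side -/
theorem sum_rel_eval {κ : Type*} (s : Finset κ) (b : κ → Ω) (Q : κ → Polynomial ℤ) (p : ℕ)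
    (c : Ω → ZMod p) :
    ∑ j, (((∑ i ∈ s, if b i = j then Q i else 0 : Polynomial ℤ).eval 1 : ℤ) : ZMod p) * c j =
      ∑ i ∈ s, (((Q i).eval 1 : ℤ) : ZMod p) * c (b i) := by
  simp only [Polynomial.eval_finset_sum, Int.cast_sum, Finset.sum_mul]
  rw [Finset.sum_comm]
  refine Finset.sum_congr rfl (fun i _ => ?_)
  rw [Finset.sum_eq_single (b i)]
  · simp
  · intro j _ hj
    rw [if_neg (fun h => hj h.symm)]
    simp
  · intro h
    exact absurd (Finset.mem_univ _) h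

theorem polyC_natDegree (p : ℕ) (Λ : Finset (ZMod p)) : (polyC p Λ).natDegree < Λ.card + 2 := by
  have h2 : (∏ h ∈ Λ, (Polynomial.X - Polynomial.C (zeta p ^ h.val) : Polynomial ℂ)).natDegree
      ≤ Λ.card := by
    refine (Polynomial.natDegree_prod_le Λ
      (fun h => (Polynomial.X - Polynomial.C (zeta p ^ h.val) : Polynomial ℂ))).trans ?_
    calc ∑ i ∈ Λ, (Polynomial.X - Polynomial.C (zeta p ^ i.val) : Polynomial ℂ).natDegree
        ≤ ∑ _i ∈ Λ, (1 : ℕ) := Finset.sum_le_sum (fun i _ => Polynomial.natDegree_X_sub_C_le _)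
      _ = Λ.card := by simp
  have h1 : (polyC p Λ).natDegree ≤ 1 + Λ.card := by
    unfold polyC
    exact (Polynomial.natDegree_mul_le).trans
      (add_le_add (Polynomial.natDegree_X_sub_C_le (1 : ℂ)) h2)
  omega

theorem polyC_kill_Vh (x : Perm Ω) (p : ℕ) (Λ : Finset (ZMod p)) (h : ZMod p) (hh : h ∈ Λ)
    (f : Ω → ℂ) (hf : f ∈ Vh x p h) : Polynomial.aeval (tauL x) (polyC p Λ) f = 0 := by
  have hP : polyC p Λ = ((Polynomial.X - Polynomial.C 1) *
      ∏ h' ∈ Λ.erase h, (Polynomial.X - Polynomial.C (zeta p ^ h'.val))) *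
      (Polynomial.X - Polynomial.C (zeta p ^ h.val)) := by
    unfold polyC
    rw [← Finset.mul_prod_erase Λ _ hh]
    ring
  rw [hP, map_mul, Module.End.mul_apply]
  have h0 : Polynomial.aeval (tauL x)
      (Polynomial.X - Polynomial.C (zeta p ^ h.val) : Polynomial ℂ) f = 0 := by
    rw [map_sub, Polynomial.aeval_X, Polynomial.aeval_C, LinearMap.sub_apply,
      Module.algebraMap_end_apply]
    funext ω
    have := hf ω
    simp [tauL_apply, this]
  rw [h0, map_zero]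

theorem polyC_kill_const (x : Perm Ω) (p : ℕ) (Λ : Finset (ZMod p)) (c : ℂ) :
    Polynomial.aeval (tauL x) (polyC p Λ) (fun _ : Ω => c) = 0 := by
  have hP : polyC p Λ = (∏ h' ∈ Λ, (Polynomial.X - Polynomial.C (zeta p ^ h'.val))) *
      (Polynomial.X - Polynomial.C 1) := by
    unfold polyC
    ring
  rw [hP, map_mul, Module.End.mul_apply]
  have h0 : Polynomial.aeval (tauL x) (Polynomial.X - Polynomial.C 1 : Polynomial ℂ)
      (fun _ : Ω => c) = 0 := by
    rw [map_sub, Polynomial.aeval_X, Polynomial.aeval_C, LinearMap.sub_apply,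
      Module.algebraMap_end_apply]
    funext ω
    simp [tauL_apply]
  rw [h0, map_zero]

theorem polyC_kill_W {G : Subgroup (Perm Ω)} {p : ℕ} {x : Perm Ω} {a₀ : Ω}
    {W : Submodule ℂ (Ω → ℂ)} {Λ : Finset (ZMod p)} (hW : WData G p x a₀ W Λ)
    (f : Ω → ℂ) (hf : f ∈ W) : Polynomial.aeval (tauL x) (polyC p Λ) f = 0 := by
  have hle : W ≤ LinearMap.ker (Polynomial.aeval (tauL x) (polyC p Λ)) := by
    rw [hW.sup]
    refine iSup_le (fun h => iSup_le (fun hh => ?_))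
    intro f hf
    rw [LinearMap.mem_ker]
    exact polyC_kill_Vh x p Λ h hh f hf.2
  exact LinearMap.mem_ker.mp (hle hf)

theorem poly2 {G : Subgroup (Perm Ω)} {p : ℕ} {x : Perm Ω} (hyp : Hyp G p x) {a₀ : Ω}
    {W : Submodule ℂ (Ω → ℂ)} {Λ : Finset (ZMod p)} (hW : WData G p x a₀ W Λ)
    (hsum : ∀ f ∈ W, ∑ ω, f ω = 0)
    (hred : ∀ v : Ω → ℂ, (∀ i, v i ∈ Algebra.adjoin ℚ {zeta p}) → v ≠ 0 →
      ∃ c : Ω → ZMod p, c ≠ 0 ∧ ∀ q : Ω → Polynomial ℤ,
        ∑ i, Polynomial.aeval (zeta p) (q i) * v i = 0 →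
          ∑ i, (((q i).eval 1 : ℤ) : ZMod p) * c i = 0) :
    ∃ Fb : Ω → ZMod p, Fb a₀ = 0 ∧ (∃ ω, Fb ω ≠ 0) ∧
      (∀ g ∈ G, g a₀ = a₀ → ∀ ω, Fb (g ω) = Fb ω) ∧
      ∀ ω, ∑ i ∈ Finset.range (Λ.card + 2),
        ((-1 : ZMod p) ^ i * ((Λ.card + 1).choose i : ZMod p)) * Fb ((x ^ i) ω) = 0 := by
  classical
  obtain ⟨F, hFW, hF0, hFinv, hFrat⟩ := hW.rat
  set F' : Ω → ℂ := fun ω => F ω - F a₀ with hF'
  have hcardΩ : (Fintype.card Ω : ℂ) ≠ 0 := by
    rw [hyp.hcard]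
    have := hyp.hp.pos
    exact_mod_cast (by omega : 2 * p ≠ 0)
  have hF'0 : F' ≠ 0 := by
    intro h
    have hconst : ∀ ω, F ω = F a₀ := fun ω => sub_eq_zero.mp (congrFun h ω)
    have h1 := hsum F hFW
    rw [Finset.sum_congr rfl (fun ω _ => hconst ω), Finset.sum_const, Finset.card_univ,
      nsmul_eq_mul] at h1
    have h2 : F a₀ = 0 := by
      rcases mul_eq_zero.mp h1 with h3 | h3
      · exact absurd h3 hcardΩ
      · exact h3
    apply hF0
    funext ω
    rw [hconst ω, h2]; rfl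
  have hF'rat : ∀ i, F' i ∈ Algebra.adjoin ℚ {zeta p} := fun i =>
    Subalgebra.sub_mem _ (hFrat i) (hFrat a₀)
  obtain ⟨c, hc0, hc⟩ := hred F' hF'rat hF'0
  have hkill : Polynomial.aeval (tauL x) (polyC p Λ) F' = 0 := by
    have h1 : F' = F - fun _ => F a₀ := rfl
    rw [h1, map_sub, polyC_kill_W hW F hFW, polyC_kill_const, sub_zero]
  refine ⟨c, ?_, ?_, ?_, ?_⟩
  · -- c a₀ = 0
    have h := hc (fun j => ∑ i ∈ Finset.range 1, if (fun _ : ℕ => a₀) i = j then
        (fun _ : ℕ => (1 : Polynomial ℤ)) i else 0) (by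
      rw [sum_rel_aeval]
      simp [hF'])
    rw [sum_rel_eval] at h
    simpa using h
  · by_contra hall
    apply hc0
    funext ω
    by_contra hω
    exact hall ⟨ω, hω⟩
  · intro g hg hga ω
    have h := hc (fun j => ∑ i ∈ Finset.range 2, if (fun i : ℕ => if i = 0 then g ω else ω) i = j
        then (fun i : ℕ => if i = 0 then (1 : Polynomial ℤ) else -1) i else 0) (by
      rw [sum_rel_aeval]
      simp [Finset.sum_range_succ, hF', hFinv g hg hga ω])
    rw [sum_rel_eval] at h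
    simp [Finset.sum_range_succ] at h
    exact add_neg_eq_zero.mp h
  · intro ω
    set n := Λ.card + 1 with hn
    -- coefficient polynomials
    set Q : ℕ → Polynomial ℤ := fun i => (polyZ p Λ).coeff i with hQ
    have hQζ : ∀ i, Polynomial.aeval (zeta p) (Q i) = (polyC p Λ).coeff i := by
      intro i
      rw [← polyZ_map_aeval, Polynomial.coeff_map]
      rfl
    have hQ1 : ∀ i, (Q i).eval 1 = (-1 : ℤ) ^ (n - i) * (n.choose i : ℤ) := by
      intro i
      have h1 : ((polyZ p Λ).map (Polynomial.evalRingHom (1 : ℤ))).coeff i = (Q i).eval 1 := by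
        rw [Polynomial.coeff_map]; rfl
      rw [← h1, polyZ_map_eval, Polynomial.coeff_X_add_C_pow]
    have hrel : ∑ i ∈ Finset.range (Λ.card + 2), Polynomial.aeval (zeta p) (Q i) * F' ((x ^ i) ω)
        = 0 := by
      have h1 : (Polynomial.aeval (tauL x) (polyC p Λ)) F' ω = 0 := by rw [hkill]; rfl
      rw [aeval_tauL_apply x _ _ (polyC_natDegree p Λ)] at h1
      rw [← h1]
      exact Finset.sum_congr rfl (fun i _ => by rw [hQζ])
    have h := hc (fun j => ∑ i ∈ Finset.range (Λ.card + 2),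
        if (fun i : ℕ => (x ^ i) ω) i = j then Q i else 0) (by
      rw [sum_rel_aeval]
      exact hrel)
    rw [sum_rel_eval] at h
    have h3 : ∑ i ∈ Finset.range (Λ.card + 2),
        ((-1 : ZMod p) ^ i * ((Λ.card + 1).choose i : ZMod p)) * c ((x ^ i) ω)
        = (-1 : ZMod p) ^ n *
          ∑ i ∈ Finset.range (Λ.card + 2), (((Q i).eval 1 : ℤ) : ZMod p) * c ((x ^ i) ω) := by
      rw [Finset.mul_sum]
      refine Finset.sum_congr rfl (fun i hi => ?_)
      have hi' : i ≤ n := by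
        have := Finset.mem_range.mp hi
        omega
      rw [hQ1 i]
      push_cast
      have h4 : (-1 : ZMod p) ^ n * (-1 : ZMod p) ^ (n - i) = (-1 : ZMod p) ^ i := by
        rw [← pow_add]
        have h5 : n + (n - i) = 2 * (n - i) + i := by omega
        rw [h5, pow_add, pow_mul]
        simp
      rw [← h4]
      ring
    rw [h3, h, mul_zero]

/-- verbatim check of the posted statement -/
example {G : Subgroup (Perm Ω)} {p : ℕ} {x : Perm Ω} (hyp : Hyp G p x) {a₀ : Ω}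
    {W : Submodule ℂ (Ω → ℂ)} {Λ : Finset (ZMod p)} (hW : WData G p x a₀ W Λ)
    (hsum : ∀ f ∈ W, ∑ ω, f ω = 0)
    (hred : ∀ v : Ω → ℂ, (∀ i, v i ∈ Algebra.adjoin ℚ {zeta p}) → v ≠ 0 →
      ∃ c : Ω → ZMod p, c ≠ 0 ∧ ∀ q : Ω → Polynomial ℤ,
        ∑ i, Polynomial.aeval (zeta p) (q i) * v i = 0 →
          ∑ i, (((q i).eval 1 : ℤ) : ZMod p) * c i = 0) :
    ∃ Fb : Ω → ZMod p, Fb a₀ = 0 ∧ (∃ ω, Fb ω ≠ 0) ∧
      (∀ g ∈ G, g a₀ = a₀ → ∀ ω, Fb (g ω) = Fb ω) ∧
      ∀ ω, ∑ i ∈ Finset.range (Λ.card + 2),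
        ((-1 : ZMod p) ^ i * ((Λ.card + 1).choose i : ZMod p)) * Fb ((x ^ i) ω) = 0 :=
  poly2 hyp hW hsum hred

end Cfsg.Agent.H51.W2P
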