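import Mathlib
import Cfsg.Agent.H74.W2PDefs

/-!
# S0720-RED (helper51, for helper74): reduction modulo `1 - ζ`

For any nonzero complex vector `v` there is a nonzero vector `c` over `ZMod p` such that every
relation `∑ q_i(ζ) v_i = 0` with `q_i ∈ ℤ[X]` reduces to `∑ q_i(1) c_i = 0`.
(The hypothesis that the `v i` lie in `ℚ(ζ)` is not needed.)
-/

set_option autoImplicit false

namespace Cfsg.Agent.H51.W2P

open Cfsg.Agent.H74.W2P Equiv MulAction

theorem zeta_isPrimitiveRoot {p : ℕ} (hp : p.Prime) : IsPrimitiveRoot (zeta p) p := by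
  unfold zeta
  exact Complex.isPrimitiveRoot_exp p hp.ne_zero

/-- evaluation at `1` followed by reduction modulo `p` -/
noncomputable def ev1 (p : ℕ) : Polynomial ℤ →+* ZMod p :=
  (Int.castRingHom (ZMod p)).comp (Polynomial.evalRingHom 1)

theorem ev1_apply (p : ℕ) (f : Polynomial ℤ) : ev1 p f = ((f.eval 1 : ℤ) : ZMod p) := rfl

theorem ev1_eq_zero_of_aeval {p : ℕ} (hp : p.Prime) (f : Polynomial ℤ)
    (hf : Polynomial.aeval (zeta p) f = 0) : ev1 p f = 0 := by
  have hprim := zeta_isPrimitiveRoot hp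
  have hmin : Polynomial.cyclotomic p ℤ = minpoly ℤ (zeta p) :=
    Polynomial.cyclotomic_eq_minpoly hprim hp.pos
  have hint : IsIntegral ℤ (zeta p) := hprim.isIntegral hp.pos
  have hdvd : Polynomial.cyclotomic p ℤ ∣ f := by
    rw [hmin]
    exact minpoly.isIntegrallyClosed_dvd hint hf
  obtain ⟨g, rfl⟩ := hdvd
  have := Fact.mk hp
  rw [map_mul, ev1_apply, Polynomial.eval_one_cyclotomic_prime]
  simp

theorem red {p : ℕ} (hp : p.Prime) {ι : Type*} [Fintype ι] (v : ι → ℂ)
    (hv : ∀ i, v i ∈ Algebra.adjoin ℚ {zeta p}) (hne : v ≠ 0) :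
    ∃ c : ι → ZMod p, c ≠ 0 ∧ ∀ q : ι → Polynomial ℤ,
      ∑ i, Polynomial.aeval (zeta p) (q i) * v i = 0 →
        ∑ i, (((q i).eval 1 : ℤ) : ZMod p) * c i = 0 := by
  classical
  have := Fact.mk hp
  let S : Submodule (ZMod p) (ι → ZMod p) :=
    { carrier := {w | ∃ q : ι → Polynomial ℤ, ∑ i, Polynomial.aeval (zeta p) (q i) * v i = 0 ∧
        w = fun i => ev1 p (q i)}
      add_mem' := by
        rintro _ _ ⟨q, hq, rfl⟩ ⟨q', hq', rfl⟩
        refine ⟨q + q', ?_, ?_⟩
        · simp only [Pi.add_apply, map_add, add_mul, Finset.sum_add_distrib, hq, hq', add_zero]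
        · funext i
          simp
      zero_mem' := ⟨0, by simp, by funext i; simp⟩
      smul_mem' := by
        rintro c _ ⟨q, hq, rfl⟩
        refine ⟨fun i => Polynomial.C (c.val : ℤ) * q i, ?_, ?_⟩
        · simp only [map_mul, mul_assoc, ← Finset.mul_sum, hq, mul_zero]
        · funext i
          have h1 : ev1 p (Polynomial.C ((c.val : ℕ) : ℤ)) = c := by
            rw [ev1_apply, Polynomial.eval_C]
            simp
          rw [Pi.smul_apply, smul_eq_mul, map_mul, h1] }
  by_cases hS : S = ⊤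
  · exfalso
    have hex : ∀ j : ι, ∃ q : ι → Polynomial ℤ,
        ∑ i, Polynomial.aeval (zeta p) (q i) * v i = 0 ∧
        (Pi.single j 1 : ι → ZMod p) = fun i => ev1 p (q i) := by
      intro j
      have h : (Pi.single j 1 : ι → ZMod p) ∈ S := by rw [hS]; trivial
      exact h
    choose Q hQ0 hQ1 using hex
    let Qm : Matrix ι ι (Polynomial ℤ) := Matrix.of Q
    have hdet1 : ev1 p Qm.det = 1 := by
      rw [RingHom.map_det]
      have h1 : (ev1 p).mapMatrix Qm = 1 := by
        ext j i
        have h2 := congrFun (hQ1 j) i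
        simp only [RingHom.mapMatrix_apply, Matrix.map_apply, Qm, Matrix.of_apply]
        rw [← h2, Matrix.one_apply, Pi.single_apply]
        by_cases hij : i = j
        · subst hij; simp
        · rw [if_neg hij, if_neg (fun h => hij h.symm)]
      rw [h1, Matrix.det_one]
    have hmul : (Qm.map (Polynomial.aeval (zeta p))).mulVec v = 0 := by
      funext j
      simp only [Matrix.mulVec, dotProduct, Matrix.map_apply, Qm, Matrix.of_apply, Pi.zero_apply]
      exact hQ0 j
    have hdet0 : (Qm.map (Polynomial.aeval (zeta p))).det = 0 := by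
      by_contra h
      exact hne (Matrix.eq_zero_of_mulVec_eq_zero h hmul)
    have h3 : Polynomial.aeval (zeta p) Qm.det = 0 := by
      rw [← hdet0]
      exact AlgHom.map_det (Polynomial.aeval (zeta p)) Qm
    have h4 := ev1_eq_zero_of_aeval hp _ h3
    rw [hdet1] at h4
    exact one_ne_zero h4
  · obtain ⟨f, hf0, hfS⟩ := Submodule.exists_le_ker_of_lt_top S (lt_top_iff_ne_top.mpr hS)
    refine ⟨fun i => f (fun j => if i = j then 1 else 0), ?_, ?_⟩
    · intro hc
      apply hf0
      apply LinearMap.ext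
      intro x
      rw [LinearMap.pi_apply_eq_sum_univ f x]
      have hc' : ∀ i, f (fun j => if i = j then 1 else 0) = 0 := fun i => congrFun hc i
      simp [hc']
    · intro q hq
      have hmem : (fun i => ev1 p (q i)) ∈ S := ⟨q, hq, rfl⟩
      have h5 := hfS hmem
      rw [LinearMap.mem_ker, LinearMap.pi_apply_eq_sum_univ f] at h5
      simpa [ev1_apply, smul_eq_mul] using h5

/-- verbatim check of the posted statement -/
example {p : ℕ} (hp : p.Prime) {ι : Type*} [Fintype ι] (v : ι → ℂ)
    (hv : ∀ i, v i ∈ Algebra.adjoin ℚ {zeta p}) (hne : v ≠ 0) :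
    ∃ c : ι → ZMod p, c ≠ 0 ∧ ∀ q : ι → Polynomial ℤ,
      ∑ i, Polynomial.aeval (zeta p) (q i) * v i = 0 →
        ∑ i, (((q i).eval 1 : ℤ) : ZMod p) * c i = 0 := red hp v hv hne

end Cfsg.Agent.H51.W2P
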